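import Cfsg.Agent.Lib.OEightCent.Data

/-!
The finite checks in the model of type `D₄` over the field with two elements.
-/

set_option autoImplicit false
set_option maxRecDepth 8000

set_option Elab.async false

namespace CfsgLib.O8C

/-- The twelve root elements generating the Sylow subgroup. -/
def posU : List (Fin 24) := [23, 22, 21, 20, 19, 17, 16, 15, 14, 18, 13, 12]

/-- An element of the Sylow subgroup. -/
def sW (i : ℕ) : List (Fin 24) := ((List.range 12).filter i.testBit).map fun k => posU.getD k 23

/-- The word of a conjugate. -/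
def conjW (g w : List (Fin 24)) : List (Fin 24) := g ++ w ++ g.reverse

/-- The elements moving involutions of the Sylow subgroup into each other. -/
def moveW : List (List (Fin 24)) :=
  posU.map (fun r => [r]) ++ [[18, 5, 18], [14, 9, 14], [13, 10, 13], [12, 11, 12]]

/-- The translations in the odd part of the centralizer. -/
def tW (a : ℕ) : List (Fin 24) :=
  (List.replicate (a / 9) [18, 5]).flatten ++ (List.replicate (a / 3 % 3) [13, 10]).flatten ++
    (List.replicate (a % 3) [12, 11]).flatten

/-- The five representatives of involutions. -/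
def repI : Fin 5 → ℕ := ![1, 12, 36, 40, 44]

/-- The representative words. -/
def repW (l : Fin 5) : List (Fin 24) := sW (repI l)

/-- A line of the table of involutions. -/
def tblAt (k : ℕ) : ℕ × ℕ × ℕ × ℕ := invTab.getD k (0, 0, 0, 0)

/-- A translated table entry. -/
def cinvW (a k : ℕ) : List (Fin 24) := conjW (tW a) (sW (tblAt k).1)

/-- A conjugate of the centre in the centralizer. -/
def crW (j : ℕ) : List (Fin 24) := cinvW (crTab.getD j (0, 0)).1 (crTab.getD j (0, 0)).2

/-- The conjugates of the centre in the extraspecial group. -/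
def fusW : List (List (Fin 24)) :=
  [23] :: ((List.range 27).map fun a => conjW (tW a) [22]) ++
    (List.range 27).map fun a => conjW (tW a) [22] ++ [23]

theorem table_check : ∀ k : Fin 495, (tblAt k).1 < 4096 ∧
    ∃ l : Fin 5, (tblAt k).2.1 = l.val ∧ ((tblAt k).1 = repI l ∨
      ((tblAt k).2.2.2 < k.val ∧ (tblAt (tblAt k).2.2.2).2.1 = l.val ∧
        sameW (conjW (moveW.getD (tblAt k).2.2.1 []) (sW (tblAt (tblAt k).2.2.2).1)) (sW (tblAt k).1) = true)) := by
  decide +kernel

theorem invTab_length : invTab.length = 495 := by decide +kernel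

theorem label_zero : ∀ k : Fin 495, (tblAt k).2.1 = 0 ↔ k.val < 103 := by decide +kernel

theorem repW_not_fus : ∀ l : Fin 5, l ≠ 0 → (fusW.all fun x => !(sameW (repW l) x)) = true := by decide +kernel

theorem repW_zero : repW 0 = [23] := by decide +kernel

/-- The test at one conjugate of the centre: classes at most `maxl`, or one of the special involutions. -/
def okAt (v : List (Fin 24)) (maxl : ℕ) (Z : List (List (Fin 24))) (e : ℕ × ℕ × ℕ) (j : ℕ) : Bool :=
  (e.1 == 4 && !(sameW (crW j ++ v) (v ++ crW j))) ||
  (e.1 == 3 && sameW (crW j) [23]) ||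
  (e.1 == 0 && decide (e.2.1 < 27 ∧ e.2.2 < 495 ∧ (tblAt e.2.2).2.1 ≤ maxl) &&
    sameW (23 :: crW j) (cinvW e.2.1 e.2.2)) ||
  (e.1 == 1 && decide (e.2.1 < 27 ∧ e.2.2 < 495 ∧ (tblAt e.2.2).2.1 ≤ maxl) &&
    sameW ((23 :: crW j) ++ v) (cinvW e.2.1 e.2.2)) ||
  (e.1 == 2 && decide (e.2.1 < Z.length) && sameW (23 :: crW j) (Z.getD e.2.1 []))

/-- The test at all conjugates of the centre. -/
def okAll (v : List (Fin 24)) (maxl : ℕ) (Z : List (List (Fin 24))) (tab : List (ℕ × ℕ × ℕ)) : Bool :=
  (List.range 199).all fun j => okAt v maxl Z (tab.getD j (9, 0, 0)) j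

/-- The tables for the middle classes. -/
def okTabP : Fin 3 → List (ℕ × ℕ × ℕ) := ![okTab1, okTab2, okTab3]

/-- The forced root elements. -/
def resTabP : Fin 3 → List (List ℕ × List (Fin 24)) := ![resTab1, resTab2, resTab3]

/-- The index of a middle class. -/
def midI (i : Fin 3) : Fin 5 := ⟨i.val + 1, by omega⟩

theorem okP : ∀ i : Fin 3, okAll (repW (midI i)) 0 (zTab i) (okTabP i) = true := by decide +kernel

theorem okW : okAll (repW 4) 3 [] okTabW = true := by decide +kernel

theorem okW2 : okAll (sW wTwo) 3 [] okTabW2 = true := by decide +kernel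

theorem z_length : ∀ i : Fin 3, (zTab i).length = 8 := by decide +kernel

/-- The generators of a group centralised by a partner. -/
def gensW (i : Fin 3) (q : ℕ) : List (List (Fin 24)) :=
  [repW (midI i), conjW ((mTab i).getD 0 []) ((zTab i).getD (q / 64) []),
    conjW ((mTab i).getD 1 []) ((zTab i).getD (q / 8 % 8) []), conjW ((mTab i).getD 2 []) ((zTab i).getD (q % 8) [])]

theorem mTab_comm : ∀ i : Fin 3, ∀ k : Fin 3,
    sameW (conjW ((mTab i).getD k.val []) (repW (midI i))) (repW (midI i)) = true := by decide +kernel

theorem pRoot_check : ∀ i : Fin 3, sameW ([pRoot i] ++ repW (midI i)) (repW (midI i) ++ [pRoot i]) = true := by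
  decide +kernel

theorem wTwo_check : sameW (conjW wMove (repW 4)) (sW wTwo) = true ∧
    ((List.range 512).all fun i => !(sameW (sW wTwo) (sW i))) = true := by decide +kernel

theorem free_check : ∀ i : Fin 3, (fusW.all fun x => !(sameW (23 :: repW (midI i)) x)) = true := by
  decide +kernel

theorem partner_check : ∀ i : Fin 3, (fusW.any fun x => sameW [pRoot i] x) = true ∧
    (fusW.any fun x => sameW ([pRoot i] ++ repW (midI i)) x) = true := by decide +kernel

theorem swap_check : sameW [14, 22, 14] [22, 23] = true := by decide +kernel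

theorem repW_mem : ∀ l : Fin 5, repI l < 512 := by decide +kernel

/-- The test for one index of the Sylow subgroup. -/
def invOk (i : ℕ) : Bool := !(sameW (sW i ++ sW i) []) || sameW (sW i) [] || invTab.any fun e => e.1 == i

/-- The position of a translated table entry among the conjugates of the centre. -/
def crPos (a k : ℕ) : ℕ := (crIdx.getD a []).getD k 0

/-- The test for one translated table entry. -/
def crOk (a k : ℕ) : Bool := decide (crPos a k < 199) && sameW (cinvW a k) (crW (crPos a k))

/-- The test for one triple of special involutions. -/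
def resOk (i : Fin 3) (q : ℕ) : Bool :=
  sameW ((((resTabP i).getD q ([], [])).1.map fun k => (gensW i q).getD k []).flatten)
    (conjW ((resTabP i).getD q ([], [])).2 [23])

end CfsgLib.O8C
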