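import Cfsg.Agent.Lib.OEightCent.Checks

/-!
The conjugates of the centre in the centralizer.
-/

set_option autoImplicit false
set_option maxRecDepth 8000
set_option Elab.async false

namespace CfsgLib.O8C

theorem cr0 : (List.range 103).all (crOk 0) = true := by decide +kernel

theorem cr1 : (List.range 103).all (crOk 1) = true := by decide +kernel

theorem cr2 : (List.range 103).all (crOk 2) = true := by decide +kernel

theorem cr3 : (List.range 103).all (crOk 3) = true := by decide +kernel

theorem cr4 : (List.range 103).all (crOk 4) = true := by decide +kernel

theorem cr5 : (List.range 103).all (crOk 5) = true := by decide +kernel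

theorem cr6 : (List.range 103).all (crOk 6) = true := by decide +kernel

theorem cr7 : (List.range 103).all (crOk 7) = true := by decide +kernel

theorem cr8 : (List.range 103).all (crOk 8) = true := by decide +kernel

theorem cr9 : (List.range 103).all (crOk 9) = true := by decide +kernel

theorem cr10 : (List.range 103).all (crOk 10) = true := by decide +kernel

theorem cr11 : (List.range 103).all (crOk 11) = true := by decide +kernel

theorem cr12 : (List.range 103).all (crOk 12) = true := by decide +kernel

theorem cr13 : (List.range 103).all (crOk 13) = true := by decide +kernel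

theorem cr14 : (List.range 103).all (crOk 14) = true := by decide +kernel

theorem cr15 : (List.range 103).all (crOk 15) = true := by decide +kernel

theorem cr16 : (List.range 103).all (crOk 16) = true := by decide +kernel

theorem cr17 : (List.range 103).all (crOk 17) = true := by decide +kernel

theorem cr18 : (List.range 103).all (crOk 18) = true := by decide +kernel

theorem cr19 : (List.range 103).all (crOk 19) = true := by decide +kernel

theorem cr20 : (List.range 103).all (crOk 20) = true := by decide +kernel

theorem cr21 : (List.range 103).all (crOk 21) = true := by decide +kernel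

theorem cr22 : (List.range 103).all (crOk 22) = true := by decide +kernel

theorem cr23 : (List.range 103).all (crOk 23) = true := by decide +kernel

theorem cr24 : (List.range 103).all (crOk 24) = true := by decide +kernel

theorem cr25 : (List.range 103).all (crOk 25) = true := by decide +kernel

theorem cr26 : (List.range 103).all (crOk 26) = true := by decide +kernel

theorem cr_all {a k : ℕ} (ha : a < 27) (hk : k < 103) : crOk a k = true := by
  interval_cases a
  exacts [List.all_eq_true.mp cr0 k (List.mem_range.mpr hk),
    List.all_eq_true.mp cr1 k (List.mem_range.mpr hk),
    List.all_eq_true.mp cr2 k (List.mem_range.mpr hk),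
    List.all_eq_true.mp cr3 k (List.mem_range.mpr hk),
    List.all_eq_true.mp cr4 k (List.mem_range.mpr hk),
    List.all_eq_true.mp cr5 k (List.mem_range.mpr hk),
    List.all_eq_true.mp cr6 k (List.mem_range.mpr hk),
    List.all_eq_true.mp cr7 k (List.mem_range.mpr hk),
    List.all_eq_true.mp cr8 k (List.mem_range.mpr hk),
    List.all_eq_true.mp cr9 k (List.mem_range.mpr hk),
    List.all_eq_true.mp cr10 k (List.mem_range.mpr hk),
    List.all_eq_true.mp cr11 k (List.mem_range.mpr hk),
    List.all_eq_true.mp cr12 k (List.mem_range.mpr hk),
    List.all_eq_true.mp cr13 k (List.mem_range.mpr hk),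
    List.all_eq_true.mp cr14 k (List.mem_range.mpr hk),
    List.all_eq_true.mp cr15 k (List.mem_range.mpr hk),
    List.all_eq_true.mp cr16 k (List.mem_range.mpr hk),
    List.all_eq_true.mp cr17 k (List.mem_range.mpr hk),
    List.all_eq_true.mp cr18 k (List.mem_range.mpr hk),
    List.all_eq_true.mp cr19 k (List.mem_range.mpr hk),
    List.all_eq_true.mp cr20 k (List.mem_range.mpr hk),
    List.all_eq_true.mp cr21 k (List.mem_range.mpr hk),
    List.all_eq_true.mp cr22 k (List.mem_range.mpr hk),
    List.all_eq_true.mp cr23 k (List.mem_range.mpr hk),
    List.all_eq_true.mp cr24 k (List.mem_range.mpr hk),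
    List.all_eq_true.mp cr25 k (List.mem_range.mpr hk),
    List.all_eq_true.mp cr26 k (List.mem_range.mpr hk)]

end CfsgLib.O8C
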