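import Cfsg.Agent.Lib.OEightCent.Checks

/-!
The involutions of the Sylow subgroup are in the table.
-/

set_option autoImplicit false
set_option maxRecDepth 8000
set_option Elab.async false

namespace CfsgLib.O8C

theorem invol0 : (List.range' 0 256).all invOk = true := by decide +kernel

theorem invol1 : (List.range' 256 256).all invOk = true := by decide +kernel

theorem invol2 : (List.range' 512 256).all invOk = true := by decide +kernel

theorem invol3 : (List.range' 768 256).all invOk = true := by decide +kernel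

theorem invol4 : (List.range' 1024 256).all invOk = true := by decide +kernel

theorem invol5 : (List.range' 1280 256).all invOk = true := by decide +kernel

theorem invol6 : (List.range' 1536 256).all invOk = true := by decide +kernel

theorem invol7 : (List.range' 1792 256).all invOk = true := by decide +kernel

theorem invol8 : (List.range' 2048 256).all invOk = true := by decide +kernel

theorem invol9 : (List.range' 2304 256).all invOk = true := by decide +kernel

theorem invol10 : (List.range' 2560 256).all invOk = true := by decide +kernel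

theorem invol11 : (List.range' 2816 256).all invOk = true := by decide +kernel

theorem invol12 : (List.range' 3072 256).all invOk = true := by decide +kernel

theorem invol13 : (List.range' 3328 256).all invOk = true := by decide +kernel

theorem invol14 : (List.range' 3584 256).all invOk = true := by decide +kernel

theorem invol15 : (List.range' 3840 256).all invOk = true := by decide +kernel

theorem invol_all {i : ℕ} (hi : i < 4096) : invOk i = true := by
  have h : ∀ a n, (List.range' a n).all invOk = true → a ≤ i → i < a + n → invOk i = true :=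
    fun a n h h1 h2 => List.all_eq_true.mp h i (List.mem_range'_1.mpr ⟨h1, h2⟩)
  rcases (show (0 ≤ i ∧ i < 256) ∨ (256 ≤ i ∧ i < 512) ∨ (512 ≤ i ∧ i < 768) ∨ (768 ≤ i ∧ i < 1024) ∨ (1024 ≤ i ∧ i < 1280) ∨ (1280 ≤ i ∧ i < 1536) ∨ (1536 ≤ i ∧ i < 1792) ∨ (1792 ≤ i ∧ i < 2048) ∨ (2048 ≤ i ∧ i < 2304) ∨ (2304 ≤ i ∧ i < 2560) ∨ (2560 ≤ i ∧ i < 2816) ∨ (2816 ≤ i ∧ i < 3072) ∨ (3072 ≤ i ∧ i < 3328) ∨ (3328 ≤ i ∧ i < 3584) ∨ (3584 ≤ i ∧ i < 3840) ∨ (3840 ≤ i ∧ i < 4096) by omega) with ⟨h1, h2⟩ | ⟨h1, h2⟩ | ⟨h1, h2⟩ | ⟨h1, h2⟩ | ⟨h1, h2⟩ | ⟨h1, h2⟩ | ⟨h1, h2⟩ | ⟨h1, h2⟩ | ⟨h1, h2⟩ | ⟨h1, h2⟩ | ⟨h1, h2⟩ | ⟨h1, h2⟩ | ⟨h1, h2⟩ | ⟨h1, h2⟩ | ⟨h1, h2⟩ | ⟨h1, h2⟩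
  exacts [h _ _ invol0 h1 h2,
    h _ _ invol1 h1 h2,
    h _ _ invol2 h1 h2,
    h _ _ invol3 h1 h2,
    h _ _ invol4 h1 h2,
    h _ _ invol5 h1 h2,
    h _ _ invol6 h1 h2,
    h _ _ invol7 h1 h2,
    h _ _ invol8 h1 h2,
    h _ _ invol9 h1 h2,
    h _ _ invol10 h1 h2,
    h _ _ invol11 h1 h2,
    h _ _ invol12 h1 h2,
    h _ _ invol13 h1 h2,
    h _ _ invol14 h1 h2,
    h _ _ invol15 h1 h2]

end CfsgLib.O8C
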