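import Cfsg.Agent.Lib.OEightCent.Checks

/-!
Three special involutions force a root element.
-/

set_option autoImplicit false
set_option maxRecDepth 8000
set_option Elab.async false

namespace CfsgLib.O8C

theorem res0_0 : (List.range' 0 64).all (resOk 0) = true := by decide +kernel

theorem res0_1 : (List.range' 64 64).all (resOk 0) = true := by decide +kernel

theorem res0_2 : (List.range' 128 64).all (resOk 0) = true := by decide +kernel

theorem res0_3 : (List.range' 192 64).all (resOk 0) = true := by decide +kernel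

theorem res0_4 : (List.range' 256 64).all (resOk 0) = true := by decide +kernel

theorem res0_5 : (List.range' 320 64).all (resOk 0) = true := by decide +kernel

theorem res0_6 : (List.range' 384 64).all (resOk 0) = true := by decide +kernel

theorem res0_7 : (List.range' 448 64).all (resOk 0) = true := by decide +kernel

theorem res1_0 : (List.range' 0 64).all (resOk 1) = true := by decide +kernel

theorem res1_1 : (List.range' 64 64).all (resOk 1) = true := by decide +kernel

theorem res1_2 : (List.range' 128 64).all (resOk 1) = true := by decide +kernel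

theorem res1_3 : (List.range' 192 64).all (resOk 1) = true := by decide +kernel

theorem res1_4 : (List.range' 256 64).all (resOk 1) = true := by decide +kernel

theorem res1_5 : (List.range' 320 64).all (resOk 1) = true := by decide +kernel

theorem res1_6 : (List.range' 384 64).all (resOk 1) = true := by decide +kernel

theorem res1_7 : (List.range' 448 64).all (resOk 1) = true := by decide +kernel

theorem res2_0 : (List.range' 0 64).all (resOk 2) = true := by decide +kernel

theorem res2_1 : (List.range' 64 64).all (resOk 2) = true := by decide +kernel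

theorem res2_2 : (List.range' 128 64).all (resOk 2) = true := by decide +kernel

theorem res2_3 : (List.range' 192 64).all (resOk 2) = true := by decide +kernel

theorem res2_4 : (List.range' 256 64).all (resOk 2) = true := by decide +kernel

theorem res2_5 : (List.range' 320 64).all (resOk 2) = true := by decide +kernel

theorem res2_6 : (List.range' 384 64).all (resOk 2) = true := by decide +kernel

theorem res2_7 : (List.range' 448 64).all (resOk 2) = true := by decide +kernel

theorem res_all (i : Fin 3) {q : ℕ} (hq : q < 512) : resOk i q = true := by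
  have h : ∀ a n, (List.range' a n).all (resOk i) = true → a ≤ q → q < a + n → resOk i q = true :=
    fun a n h h1 h2 => List.all_eq_true.mp h q (List.mem_range'_1.mpr ⟨h1, h2⟩)
  rcases (show (0 ≤ q ∧ q < 64) ∨ (64 ≤ q ∧ q < 128) ∨ (128 ≤ q ∧ q < 192) ∨ (192 ≤ q ∧ q < 256) ∨ (256 ≤ q ∧ q < 320) ∨ (320 ≤ q ∧ q < 384) ∨ (384 ≤ q ∧ q < 448) ∨ (448 ≤ q ∧ q < 512) by omega) with ⟨h1, h2⟩ | ⟨h1, h2⟩ | ⟨h1, h2⟩ | ⟨h1, h2⟩ | ⟨h1, h2⟩ | ⟨h1, h2⟩ | ⟨h1, h2⟩ | ⟨h1, h2⟩ <;>
    fin_cases i
  exacts [h _ _ res0_0 h1 h2,
    h _ _ res1_0 h1 h2,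
    h _ _ res2_0 h1 h2,
    h _ _ res0_1 h1 h2,
    h _ _ res1_1 h1 h2,
    h _ _ res2_1 h1 h2,
    h _ _ res0_2 h1 h2,
    h _ _ res1_2 h1 h2,
    h _ _ res2_2 h1 h2,
    h _ _ res0_3 h1 h2,
    h _ _ res1_3 h1 h2,
    h _ _ res2_3 h1 h2,
    h _ _ res0_4 h1 h2,
    h _ _ res1_4 h1 h2,
    h _ _ res2_4 h1 h2,
    h _ _ res0_5 h1 h2,
    h _ _ res1_5 h1 h2,
    h _ _ res2_5 h1 h2,
    h _ _ res0_6 h1 h2,
    h _ _ res1_6 h1 h2,
    h _ _ res2_6 h1 h2,
    h _ _ res0_7 h1 h2,
    h _ _ res1_7 h1 h2,
    h _ _ res2_7 h1 h2]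

end CfsgLib.O8C
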