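import Cfsg.Agent.Lib.OEightCent.ChecksInv
import Cfsg.Agent.Lib.OEightCent.ChecksCr
import Cfsg.Agent.Lib.LargeExtra.Basic

/-!
Involutions of the subgroup generated by root elements, in a group with an involution centralizer of shape
`2^{1+8}.(S₃ × S₃ × S₃)`.
-/

set_option autoImplicit false
set_option maxRecDepth 8000

namespace CfsgLib.O8C

open Subgroup CfsgLargeExtra

universe u

variable {G : Type u} [Group G]

/-- The facts about the centralizer of the root element `rt 23` used in the end game. -/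
structure O8Frame (rt : Fin 24 → G) (E S : Subgroup G) : Prop where
  /-- relations -/
  rel : D4Rel rt
  /-- not trivial -/
  ne : rt 23 ≠ 1
  /-- the core is normalised by the centralizer -/
  nor : ∀ c : G, c * rt 23 = rt 23 * c → ∀ q ∈ E, c * q * c⁻¹ ∈ E
  /-- the core by words -/
  E_iff : ∀ g, g ∈ E ↔ ∃ i < 512, g = ev rt (sW i)
  /-- the Sylow subgroup by words -/
  S_iff : ∀ g, g ∈ S ↔ ∃ i < 4096, g = ev rt (sW i)
  /-- two-group -/
  S_two : IsPGroup 2 S
  /-- maximal -/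
  S_max : ∀ P : Subgroup G, IsPGroup 2 P → S ≤ P → P = S
  /-- normalizer -/
  S_nor : ∀ g ∈ Subgroup.normalizer (S : Set G), g * rt 23 = rt 23 * g
  /-- the centralizer by words -/
  cent : ∀ c : G, c * rt 23 = rt 23 * c → ∃ a < 27, ∃ i < 4096, c = ev rt (tW a ++ sW i)
  /-- a second centre -/
  s_conj : IsConj (rt 23) (rt 22)
  /-- fusion of the centre in the core -/
  fus : ∀ y ∈ E, IsConj (rt 23) y → ∃ x ∈ fusW, y = ev rt x

variable [Finite G]

/-- An involution of an overgroup of a maximal two-subgroup is conjugate into it. -/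
theorem exists_conj_S {S : Subgroup G} (hS2 : IsPGroup 2 S) (hmax : ∀ P : Subgroup G, IsPGroup 2 P → S ≤ P → P = S)
    {H : Subgroup G} (hSH : S ≤ H) {z : G} (hz : z ∈ H) (hzz : z * z = 1) : ∃ h ∈ H, h⁻¹ * z * h ∈ S := by
  have := Fact.mk Nat.prime_two
  let P : Sylow 2 ↥H :=
    { toSubgroup := S.subgroupOf H
      isPGroup' := hS2.of_equiv (Subgroup.subgroupOfEquivOfLe hSH).symm
      is_maximal' := fun {Q} hQ hle => by
        have h1 : S ≤ Q.map H.subtype := fun s hs => ⟨⟨s, hSH hs⟩, hle hs, rfl⟩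
        have h2 := hmax _ (hQ.map H.subtype) h1
        refine le_antisymm (fun q hq => ?_) hle
        show (q : G) ∈ S
        rw [← h2]
        exact ⟨q, hq, rfl⟩ }
  have hzp : IsPGroup 2 (Subgroup.zpowers (⟨z, hz⟩ : ↥H)) := fun ⟨g, hg⟩ => ⟨1, by
    obtain ⟨n, rfl⟩ := Subgroup.mem_zpowers_iff.mp hg
    refine Subtype.ext ?_
    show ((⟨z, hz⟩ : ↥H) ^ n) ^ (2 ^ 1) = 1
    rw [pow_one, ← zpow_natCast, ← zpow_mul, mul_comm, zpow_mul, zpow_natCast, pow_two,
      show (⟨z, hz⟩ : ↥H) * ⟨z, hz⟩ = 1 from Subtype.ext hzz, one_zpow]⟩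
  obtain ⟨Q, hQ⟩ := hzp.exists_le_sylow
  obtain ⟨h, hh⟩ := MulAction.exists_smul_eq ↥H P Q
  refine ⟨h, h.2, ?_⟩
  have := hQ (Subgroup.mem_zpowers _)
  rw [← hh, Sylow.coe_subgroup_smul, Subgroup.mem_pointwise_smul_iff_inv_smul_mem] at this
  simpa [MulAut.smul_def, Subgroup.mem_subgroupOf, P, mul_assoc] using this

namespace O8Frame

variable {rt : Fin 24 → G} {E S : Subgroup G} (F : O8Frame rt E S)
include F

/-- The subgroup generated by the root elements. -/
abbrev M : Subgroup G := Mgrp F.rel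

/-- A centralizer lies in `M`. -/
def CM (z : G) : Prop := ∀ c : G, c * z = z * c → c ∈ F.M

theorem ev_conj (g w : List (Fin 24)) : ev rt (conjW g w) = ev rt g * ev rt w * (ev rt g)⁻¹ := by
  rw [conjW, ev_append, ev_append, ev_reverse F.rel]

theorem ev_one (r : Fin 24) : ev rt [r] = rt r := by rw [ev_cons, ev_nil, mul_one]

theorem commute_of_same {v w : List (Fin 24)} (h : sameW (v ++ w) (w ++ v) = true) :
    ev rt v * ev rt w = ev rt w * ev rt v := by
  rw [← ev_append, ← ev_append]; exact ev_eq F.rel h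

theorem t_M : rt 23 ∈ F.M := F.ev_one 23 ▸ ev_mem F.rel [23]

theorem S_le_M : S ≤ F.M := fun g hg => by
  obtain ⟨i, -, rfl⟩ := (F.S_iff g).mp hg
  exact ev_mem F.rel _

theorem CM_t : F.CM (rt 23) := fun c hc => by
  obtain ⟨a, -, i, -, rfl⟩ := F.cent c hc
  exact ev_mem F.rel _

theorem CM_conj {z m : G} (hm : m ∈ F.M) (h : F.CM z) : F.CM (m * z * m⁻¹) := fun c hc => by
  have h' : m⁻¹ * c * m ∈ F.M := h _ (by
    calc m⁻¹ * c * m * z = m⁻¹ * (c * (m * z * m⁻¹)) * m := by group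
      _ = m⁻¹ * (m * z * m⁻¹ * c) * m := by rw [hc]
      _ = z * (m⁻¹ * c * m) := by group)
  have := mul_mem (mul_mem hm h') (inv_mem hm)
  simpa [mul_assoc] using this

theorem table_conj : ∀ k, k < 495 → ∃ l : Fin 5, (tblAt k).2.1 = l.val ∧
    ∃ m ∈ F.M, ev rt (sW (tblAt k).1) = m * ev rt (repW l) * m⁻¹ := by
  intro k
  induction k using Nat.strong_induction_on with
  | _ k ih =>
    intro hk
    obtain ⟨-, l, hl, h | ⟨hp, hpl, hs⟩⟩ := table_check ⟨k, hk⟩
    · exact ⟨l, hl, 1, one_mem _, by rw [show (tblAt k).1 = repI l from h]; simp [repW]⟩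
    · obtain ⟨l', hl', m, hm, e⟩ := ih _ hp (lt_trans hp hk)
      obtain rfl : l' = l := Fin.ext (hl'.symm.trans hpl)
      refine ⟨l', hl, ev rt (moveW.getD (tblAt k).2.2.1 []) * m, mul_mem (ev_mem F.rel _) hm, ?_⟩
      rw [← ev_eq F.rel hs, F.ev_conj, e]; group

theorem S_class {z : G} (hz : z ∈ S) (hzz : z * z = 1) (h1 : z ≠ 1) :
    ∃ k < 495, z = ev rt (sW (tblAt k).1) := by
  obtain ⟨i, hi, rfl⟩ := (F.S_iff z).mp hz
  have h := invol_all hi
  simp only [invOk, Bool.or_eq_true, Bool.not_eq_true', List.any_eq_true, beq_iff_eq] at h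
  have e2 : sameW (sW i ++ sW i) [] = true := same_of_ev F.rel F.ne (by rw [ev_append, hzz, ev_nil])
  rcases h with (h | h) | ⟨e, he, hei⟩
  · rw [e2] at h; exact Bool.noConfusion h
  · exact absurd (ev_eq F.rel h) h1
  · obtain ⟨k, hk, hk'⟩ := List.mem_iff_getElem.mp he
    refine ⟨k, lt_of_lt_of_eq hk invTab_length, ?_⟩
    rw [tblAt, List.getD_eq_getElem _ _ hk, hk', hei]

theorem rep_mem_E (l : Fin 5) : ev rt (repW l) ∈ E := (F.E_iff _).mpr ⟨_, repW_mem l, rfl⟩

theorem rep_zero : ev rt (repW 0) = rt 23 := by rw [repW_zero, F.ev_one]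

theorem rep_not_conj {l : Fin 5} (hl : l ≠ 0) : ¬ IsConj (rt 23) (ev rt (repW l)) := fun h => by
  obtain ⟨x, hx, e⟩ := F.fus _ (F.rep_mem_E l) h
  have := List.all_eq_true.mp (repW_not_fus l hl) x hx
  rw [Bool.not_eq_true'] at this
  exact ev_ne F.rel F.ne this e

theorem M_class {z : G} (hz : z ∈ F.M) (hzz : z * z = 1) (h1 : z ≠ 1) :
    ∃ l : Fin 5, ∃ m ∈ F.M, z = m * ev rt (repW l) * m⁻¹ := by
  obtain ⟨h, hh, hS⟩ := exists_conj_S F.S_two F.S_max F.S_le_M hz hzz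
  have e1 : h⁻¹ * z * h * (h⁻¹ * z * h) = 1 := by
    calc h⁻¹ * z * h * (h⁻¹ * z * h) = h⁻¹ * (z * z) * h := by group
      _ = 1 := by rw [hzz]; group
  obtain ⟨k, hk, e⟩ := F.S_class hS e1 fun e0 => h1 (by
    have := congrArg (fun y => h * y * h⁻¹) e0
    simpa [mul_assoc] using this)
  obtain ⟨l, -, m, hm, e'⟩ := F.table_conj k hk
  exact ⟨l, h * m, mul_mem hh hm, by rw [show z = h * (h⁻¹ * z * h) * h⁻¹ by group, e, e']; group⟩

theorem root_conj {y : G} (hy : y ∈ F.M) (hc : IsConj (rt 23) y) : ∃ m ∈ F.M, y = m * rt 23 * m⁻¹ := by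
  obtain ⟨g, hg⟩ := isConj_iff.mp hc
  have hne := F.ne
  have htt := F.rel.sq 23
  obtain ⟨l, m, hm, e⟩ := F.M_class hy (by
      rw [← hg]
      calc g * rt 23 * g⁻¹ * (g * rt 23 * g⁻¹) = g * (rt 23 * rt 23) * g⁻¹ := by group
        _ = 1 := by rw [htt]; group)
    fun e0 => hne (conj_eq_one_iff.mp (hg.trans e0))
  rcases eq_or_ne l 0 with rfl | hl
  · exact ⟨m, hm, by rw [e, F.rep_zero]⟩
  · refine absurd (hc.trans ?_) (F.rep_not_conj hl)
    exact (isConj_iff.mpr ⟨m, e.symm⟩).symm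

theorem cent_root {r : G} (hr : r * rt 23 = rt 23 * r) (hc : IsConj (rt 23) r) :
    ∃ j < 199, r = ev rt (crW j) := by
  have hSC : S ≤ Subgroup.centralizer ({rt 23} : Set G) := fun g hg =>
    Subgroup.mem_centralizer_singleton_iff.mpr (F.S_nor g (Subgroup.le_normalizer hg))
  obtain ⟨g, hg⟩ := isConj_iff.mp hc
  have hrr : r * r = 1 := by
    rw [← hg]
    calc g * rt 23 * g⁻¹ * (g * rt 23 * g⁻¹) = g * (rt 23 * rt 23) * g⁻¹ := by group
      _ = 1 := by rw [F.rel.sq 23]; group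
  have hr1 : r ≠ 1 := fun e => F.ne (conj_eq_one_iff.mp (hg.trans e))
  obtain ⟨h, hh, hS⟩ := exists_conj_S F.S_two F.S_max hSC
    (Subgroup.mem_centralizer_singleton_iff.mpr hr) hrr
  obtain ⟨a, ha, i, hi, rfl⟩ := F.cent h (Subgroup.mem_centralizer_singleton_iff.mp hh)
  rw [ev_append] at hS
  have hiS : ev rt (sW i) ∈ S := (F.S_iff _).mpr ⟨i, hi, rfl⟩
  have hS' : (ev rt (tW a))⁻¹ * r * ev rt (tW a) ∈ S := by
    have := mul_mem (mul_mem hiS hS) (inv_mem hiS)
    convert this using 1; group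
  have hne' : (ev rt (tW a))⁻¹ * r * ev rt (tW a) ≠ 1 := fun e0 => hr1 (by
    have := congrArg (fun y => ev rt (tW a) * y * (ev rt (tW a))⁻¹) e0
    simpa [mul_assoc] using this)
  obtain ⟨k, hk, e⟩ := F.S_class hS' (by
      calc (ev rt (tW a))⁻¹ * r * ev rt (tW a) * ((ev rt (tW a))⁻¹ * r * ev rt (tW a))
          = (ev rt (tW a))⁻¹ * (r * r) * ev rt (tW a) := by group
        _ = 1 := by rw [hrr]; group) hne'
  have hk0 : k < 103 := by
    refine (label_zero ⟨k, hk⟩).mp ?_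
    obtain ⟨l, hl, m, hm, e'⟩ := F.table_conj k hk
    rcases eq_or_ne l 0 with rfl | hl0
    · exact hl
    · refine absurd (hc.trans ?_) (F.rep_not_conj hl0)
      refine (isConj_iff.mpr ⟨ev rt (tW a) * m, ?_⟩).symm
      calc ev rt (tW a) * m * ev rt (repW l) * (ev rt (tW a) * m)⁻¹
          = ev rt (tW a) * (m * ev rt (repW l) * m⁻¹) * (ev rt (tW a))⁻¹ := by group
        _ = r := by rw [← e', ← e]; group
  have hcr := cr_all ha hk0
  simp only [crOk, Bool.and_eq_true, decide_eq_true_eq] at hcr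
  refine ⟨_, hcr.1, ?_⟩
  rw [← ev_eq F.rel hcr.2, cinvW, F.ev_conj, ← e]; group

end O8Frame

end CfsgLib.O8C
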