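import Cfsg.Agent.Lib.OEightCent.Lifts

/-!
The lifts of the transpositions lie in the second core, commute, and permute the translates.
-/

set_option autoImplicit false
set_option maxRecDepth 8000

namespace CfsgLib.O8C

open Subgroup CfsgLargeExtra
open scoped commutatorElement

universe u

/-- The coordinate vectors. -/
def dlt : Fin 3 → Fin 2 × Fin 2 × Fin 2 := ![(1, 0, 0), (0, 1, 0), (0, 0, 1)]

/-- Clearing one coordinate. -/
def clr (i : Fin 3) (m : Fin 2 × Fin 2 × Fin 2) : Fin 2 × Fin 2 × Fin 2 :=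
  ![((0 : Fin 2), m.2.1, m.2.2), (m.1, (0 : Fin 2), m.2.2), (m.1, m.2.1, (0 : Fin 2))] i

/-- Few nonzero coordinates. -/
def lowW (m : Fin 2 × Fin 2 × Fin 2) : Bool := decide (m.1.val + m.2.1.val + m.2.2.val ≤ 1)

variable {G : Type u} [Group G] [Finite G] {t : G} {E : Subgroup G} {π : G → Q3} {g : G} {x a : Fin 3 → G}

namespace Lift8

variable (L : Lift8 t E π g x a)
include L

/-- The translate at a coordinate vector. -/
abbrev bv (_L : Lift8 t E π g x a) (m : Fin 2 × Fin 2 × Fin 2) : G := trS x (g * t * g⁻¹) m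

theorem bv_zero : L.bv 0 = g * t * g⁻¹ := by simp [bv, trS, trW]

theorem bv_mem (m : Fin 2 × Fin 2 × Fin 2) : L.bv m ∈ E := L.toStd8.trS_mem L.toOdd8 m

theorem bv_sq (m : Fin 2 × Fin 2 × Fin 2) : L.bv m * L.bv m = 1 := L.toStd8.trS_sq L.toOdd8 m

theorem bv_t (m : Fin 2 × Fin 2 × Fin 2) : Commute (L.bv m) t := L.es.comm _ (L.bv_mem m)

theorem bv_comm {m n : Fin 2 × Fin 2 × Fin 2} (h : n ≠ cpl m) : Commute (L.bv m) (L.bv n) :=
  L.toStd8.trS_comm L.toOdd8 h

theorem bv_commute_iff (m n : Fin 2 × Fin 2 × Fin 2) : Commute (L.bv m) (L.bv n) ↔ n ≠ cpl m :=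
  ⟨fun h e => L.toStd8.trS_cpl L.toOdd8 m (e ▸ h), L.bv_comm⟩

theorem a_fix (i : Fin 3) : Commute (a i) (g * t * g⁻¹) := by
  set s := g * t * g⁻¹ with hs
  rcases L.toStd8.a_s L.toOdd8 i with e | e
  · exact mul_inv_eq_iff_eq_mul.mp e
  exfalso
  obtain ⟨j, hj⟩ := (by decide : ∀ i : Fin 3, ∃ j, i ≠ j) i
  have hjx : a i * x j * (a i)⁻¹ = x j := L.axj i j hj
  have hxt := (show Commute (x j) t from L.x_t j)
  have hxxt := hxt.mul_left hxt
  have h1 := congrArg (fun y => a i * y * (a i)⁻¹) (L.eta j)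
  rw [← hs] at h1
  have e1 : a i * (s * (x j * s * (x j)⁻¹) * (x j * x j * s * (x j * x j)⁻¹)) * (a i)⁻¹ =
      (a i * s * (a i)⁻¹) * ((a i * x j * (a i)⁻¹) * (a i * s * (a i)⁻¹) * (a i * x j * (a i)⁻¹)⁻¹) *
      ((a i * x j * (a i)⁻¹) * (a i * x j * (a i)⁻¹) * (a i * s * (a i)⁻¹) *
        ((a i * x j * (a i)⁻¹) * (a i * x j * (a i)⁻¹))⁻¹) := by group
  rw [e1, hjx, e, mul_one, mul_inv_cancel] at h1
  have hz1 : Commute (x j * s * (x j)⁻¹) t := L.es.comm _ (L.es.nor _ hxt.eq _ L.hs)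
  have hz2 : Commute (x j * x j * s * (x j * x j)⁻¹) t := L.es.comm _ (L.es.nor _ hxxt.eq _ L.hs)
  have e2 : ∀ {c : G}, Commute c t → c * (s * t) * c⁻¹ = c * s * c⁻¹ * t := fun {c} hc => by
    rw [show c * (s * t) * c⁻¹ = c * s * c⁻¹ * (c * t * c⁻¹) by group, hc.eq, mul_inv_cancel_right]
  rw [e2 hxt, e2 hxxt] at h1
  apply L.es.ne
  have hyt : ∀ {y : G}, Commute y t → t * (y * t) = y := fun {y} hy => by
    rw [← mul_assoc, ← hy.eq, mul_assoc, L.es.zz, mul_one]
  rw [mul_assoc s t, hyt hz1, ← mul_assoc, L.eta j, one_mul] at h1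
  exact h1

theorem a_conj_bv_fix (i : Fin 3) {m : Fin 2 × Fin 2 × Fin 2} (h : crd m i = 0) :
    a i * L.bv m * (a i)⁻¹ = L.bv m := by
  have hc : Commute (a i) (trW x m) := by
    rw [L.trW_rest m i, h, pow_zero, mul_one]; exact (L.rest_comm m i).1
  exact mul_inv_eq_iff_eq_mul.mpr ((hc.mul_right (L.a_fix i)).mul_right hc.inv_right).eq

/-- A transposition on a translate. -/
theorem a_conj_bv (i : Fin 3) {m : Fin 2 × Fin 2 × Fin 2} (h : crd m i ≠ 0) :
    a i * L.bv m * (a i)⁻¹ = L.bv (clr i m) * L.bv m := by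
  have h1 : crd m i = 1 := by
    have key : ∀ (m : Fin 2 × Fin 2 × Fin 2) (i : Fin 3), crd m i ≠ 0 → crd m i = 1 := by decide
    exact key m i h
  set s := g * t * g⁻¹ with hs
  set r := restW x m i with hr
  have hm : trW x m = r * x i := by rw [L.trW_rest m i, h1, pow_one]
  have hclr : trW x (clr i m) = r := by
    rw [L.trW_rest (clr i m) i]
    have : crd (clr i m) i = 0 ∧ restW x (clr i m) i = r := by
      rw [hr]; fin_cases i <;> exact ⟨rfl, rfl⟩
    rw [this.1, pow_zero, mul_one, this.2]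
  have hax : a i * x i = x i * x i * a i := mul_inv_eq_iff_eq_mul.mp (L.ax i)
  show a i * (trW x m * s * (trW x m)⁻¹) * (a i)⁻¹ =
    trW x (clr i m) * s * (trW x (clr i m))⁻¹ * (trW x m * s * (trW x m)⁻¹)
  rw [hm, hclr]
  have hzz : x i * x i * s * (x i * x i)⁻¹ = s * (x i * s * (x i)⁻¹) := by
    have hsy : Commute s (x i * s * (x i)⁻¹) := by
      have := L.bv_comm (m := 0) (n := dlt i) ((by decide : ∀ i : Fin 3, dlt i ≠ cpl 0) i)
      rw [L.bv_zero] at this
      have e : trW x (dlt i) = x i := by fin_cases i <;> simp [dlt, trW]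
      rwa [bv, trS, e] at this
    have hyy : x i * s * (x i)⁻¹ * (x i * s * (x i)⁻¹) = 1 := by
      rw [show x i * s * (x i)⁻¹ * (x i * s * (x i)⁻¹) = x i * (s * s) * (x i)⁻¹ by group, hs, L.es'.zz]; group
    rw [eq_inv_of_mul_eq_one_right (L.eta i), mul_inv_rev, inv_eq_of_mul_eq_one_right hyy,
      inv_eq_of_mul_eq_one_right (hs ▸ L.es'.zz : s * s = 1)]
    exact hsy.eq.symm
  calc a i * (r * x i * s * (r * x i)⁻¹) * (a i)⁻¹
      = (a i * r) * x i * s * (x i)⁻¹ * (a i * r)⁻¹ := by group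
    _ = (r * a i) * x i * s * (x i)⁻¹ * (r * a i)⁻¹ := by rw [(L.rest_comm m i).1.eq]
    _ = r * ((a i * x i) * s * (a i * x i)⁻¹) * r⁻¹ := by group
    _ = r * ((x i * x i * a i) * s * (x i * x i * a i)⁻¹) * r⁻¹ := by rw [hax]
    _ = r * (x i * x i * (a i * s * (a i)⁻¹) * (x i * x i)⁻¹) * r⁻¹ := by group
    _ = r * (x i * x i * s * (x i * x i)⁻¹) * r⁻¹ := by rw [mul_inv_eq_iff_eq_mul.mpr (L.a_fix i).eq]
    _ = _ := by rw [hzz]; group

theorem bv_low_X0 (k : Fin 3) : L.bv (dlt k) ∈ L.X0 := by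
  refine abelian_mem L.es L.card inf_le_left L.t_X0 L.card_X0 (fun u hu v hv => L.X0_comm hu hv) (L.bv_mem _) ?_
  intro u hu
  obtain ⟨i, hik⟩ : ∃ i, i ≠ k := by revert k; decide
  obtain ⟨b, hb, hbt, hb'⟩ := L.onto _ (τg_mem i)
  set s := g * t * g⁻¹ with hs
  have he : b⁻¹ * a i ∈ E := (L.π_ker _ (Commute.mul_left (Commute.inv_left hbt) (L.a_t i)).eq).mp (by
    rw [L.π_mul _ _ (Commute.inv_left hbt) (L.a_t i), L.π_inv hbt, hb', L.πa, inv_mul_cancel])
  set m : Fin 2 × Fin 2 × Fin 2 := ((dlt k).1 + (dlt i).1, (dlt k).2.1 + (dlt i).2.1, (dlt k).2.2 + (dlt i).2.2) with hm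
  have key : ∀ i k : Fin 3, i ≠ k → ∀ m' : Fin 2 × Fin 2 × Fin 2,
      m' = ((dlt k).1 + (dlt i).1, (dlt k).2.1 + (dlt i).2.1, (dlt k).2.2 + (dlt i).2.2) →
      crd m' i ≠ 0 ∧ clr i m' = dlt k ∧ m' ≠ cpl 0 ∧ dlt k ≠ cpl 0 ∧ m' ≠ cpl (dlt k) := by decide
  obtain ⟨k1, k2, k3, k4, k5⟩ := key i k hik m hm
  have hay := L.a_conj_bv i k1
  rw [k2] at hay
  set y := L.bv m
  set z := L.bv (dlt k)
  have hst : Commute s t := L.st_comm
  have hyt := L.bv_t m
  have hzt := L.bv_t (dlt k)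
  have hsy : Commute s y := by rw [hs, ← L.bv_zero]; exact L.bv_comm k3
  have hsz : Commute s z := by rw [hs, ← L.bv_zero]; exact L.bv_comm k4
  have hut := L.es.comm u hu.1
  have hbu : b * u * b⁻¹ = u ∨ b * u * b⁻¹ = u * s := L.es'.conj_cases hb hu.2
  have hq : ∀ v : G, Commute v (z * y) → Commute (v * t) (z * y) := fun v hv =>
    hv.mul_left (hzt.mul_left hyt).symm
  have h1 : Commute u y ↔ Commute u (z * y) := by
    rw [← commute_conj_iff' (u := u) (v := y) (a i), hay]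
    have hbt' : b * t * b⁻¹ = t := mul_inv_eq_iff_eq_mul.mpr hbt
    have hcases : a i * u * (a i)⁻¹ = b * u * b⁻¹ ∨ a i * u * (a i)⁻¹ = b * u * b⁻¹ * t := by
      rcases L.es.conj_cases he hu.1 with e | e
      · left
        rw [show a i * u * (a i)⁻¹ = b * (b⁻¹ * a i * u * (b⁻¹ * a i)⁻¹) * b⁻¹ by group, e]
      · right
        rw [show a i * u * (a i)⁻¹ = b * (b⁻¹ * a i * u * (b⁻¹ * a i)⁻¹) * b⁻¹ by group, e,
          show b * (u * t) * b⁻¹ = b * u * b⁻¹ * (b * t * b⁻¹) by group, hbt']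
    have hct : ∀ v : G, Commute (v * t) (z * y) ↔ Commute v (z * y) := fun v =>
      ⟨fun h => by simpa using h.mul_left (hzt.mul_left hyt).symm.inv_left, hq v⟩
    have hcs : ∀ v : G, Commute (v * s) (z * y) ↔ Commute v (z * y) := fun v =>
      ⟨fun h => by simpa using h.mul_left (hsz.mul_right hsy).inv_left, fun h => h.mul_left (hsz.mul_right hsy)⟩
    rcases hcases with e | e <;> rcases hbu with e' | e' <;> rw [e, e'] <;> simp only [hct, hcs]
  have h2 := es_mul_comm_iff L.es (L.bv_mem (dlt k)) (L.bv_mem m) hu.1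
  rw [Commute.symm_iff (a := z * y), Commute.symm_iff (a := y), Commute.symm_iff (a := z)] at h2
  have : Commute u z := by tauto
  exact this.eq.symm

theorem s_bv_X0 {m : Fin 2 × Fin 2 × Fin 2} (h : lowW m = true) : L.bv m ∈ L.X0 := by
  have key : ∀ m, lowW m = true → m = 0 ∨ ∃ k, m = dlt k := by decide
  rcases key m h with rfl | ⟨k, rfl⟩
  · rw [L.bv_zero]; exact L.s_X0
  · exact L.bv_low_X0 k

theorem bv_prod_commute_iff (c : Fin 2 × Fin 2 × Fin 2 → Bool) (n : Fin 2 × Fin 2 × Fin 2) :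
    Commute (prodS x (g * t * g⁻¹) c) (L.bv n) ↔ c (cpl n) = false := by
  have key : ∀ l : List (Fin 2 × Fin 2 × Fin 2), l.Nodup →
      ((l.map fun m => bif c m then L.bv m else 1).prod ∈ E ∧
        (Commute (l.map fun m => bif c m then L.bv m else 1).prod (L.bv n) ↔ ¬ (cpl n ∈ l ∧ c (cpl n) = true))) := by
    intro l
    induction l with
    | nil => intro _; exact ⟨one_mem E, by simp⟩
    | cons m l ih =>
      intro hl
      obtain ⟨hml, hl'⟩ := List.nodup_cons.mp hl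
      obtain ⟨hE, hiff⟩ := ih hl'
      rw [List.map_cons, List.prod_cons]
      cases hc : c m
      · simp only [cond_false, one_mul, List.mem_cons]
        refine ⟨hE, hiff.trans (not_congr ⟨fun h => ⟨Or.inr h.1, h.2⟩, fun h => ⟨h.1.resolve_left fun e => ?_, h.2⟩⟩)⟩
        rw [e, hc] at h
        exact Bool.noConfusion h.2
      · simp only [cond_true, List.mem_cons]
        refine ⟨mul_mem (L.bv_mem m) hE, ?_⟩
        rw [es_mul_comm_iff L.es (L.bv_mem m) hE (L.bv_mem n), hiff, L.bv_commute_iff]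
        have hcc : ∀ m n : Fin 2 × Fin 2 × Fin 2, n = cpl m ↔ cpl n = m := by decide
        rw [Ne, hcc]
        by_cases e : cpl n = m
        · subst e; simp [hml, hc]
        · simp [e]
  have h := (key L8 (by decide)).2
  have hm : cpl n ∈ L8 := (by decide : ∀ n, cpl n ∈ L8) n
  rw [show prodS x (g * t * g⁻¹) c = (L8.map fun m => bif c m then L.bv m else 1).prod from rfl, h]
  simp [hm]

/-- The elements of the intersection of the cores. -/
theorem X0_forms {u : G} (hu : u ∈ L.X0) :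
    ∃ c, (∀ m, lowW m = false → c m = false) ∧
      (u = prodS x (g * t * g⁻¹) c ∨ u = prodS x (g * t * g⁻¹) c * t) := by
  obtain ⟨c, hc⟩ := (L.module_facts L.x_t L.a_t L.πx L.πa).1 u hu.1
  refine ⟨c, fun m hm => ?_, hc⟩
  have key : ∀ m, lowW m = false → lowW (cpl m) = true ∧ cpl (cpl m) = m := by decide
  obtain ⟨k1, k2⟩ := key m hm
  have hcomm : Commute u (L.bv (cpl m)) := L.X0_comm hu (L.s_bv_X0 k1)
  have hcs : Commute (prodS x (g * t * g⁻¹) c) (L.bv (cpl m)) := by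
    rcases hc with e | e
    · rwa [← e]
    · have h := hcomm.mul_left (L.bv_t (cpl m)).symm.inv_left
      rwa [e, mul_inv_cancel_right] at h
  have := (L.bv_prod_commute_iff c (cpl m)).mp hcs
  rwa [k2] at this

/-- Commuting with the generators of the intersection suffices. -/
theorem comm_X0 {w : G} (hwt : Commute w t) (hw : ∀ m, lowW m = true → Commute w (L.bv m)) :
    ∀ u ∈ L.X0, w * u = u * w := by
  intro u hu
  obtain ⟨c, hc, e⟩ := L.X0_forms hu
  have hp : Commute w (prodS x (g * t * g⁻¹) c) := Commute.list_prod_right _ _ fun y hy => by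
    obtain ⟨m, -, rfl⟩ := List.mem_map.mp hy
    cases h : c m
    · exact Commute.one_right w
    · refine hw m ?_
      by_contra hl
      rw [Bool.not_eq_true] at hl
      rw [hc m hl] at h
      exact Bool.noConfusion h
  rcases e with rfl | rfl
  · exact hp.eq
  · exact (hp.mul_right hwt).eq

theorem a_B (i : Fin 3) : a i ∈ cj g E := by
  obtain ⟨b, hb, hbt, hb'⟩ := L.onto _ (τg_mem i)
  have he : b⁻¹ * a i ∈ E := (L.π_ker _ (Commute.mul_left (Commute.inv_left hbt) (L.a_t i)).eq).mp (by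
    rw [L.π_mul _ _ (Commute.inv_left hbt) (L.a_t i), L.π_inv hbt, hb', L.πa, inv_mul_cancel])
  set e := b⁻¹ * a i with hedef
  have hae : a i = b * e := by rw [hedef]; group
  suffices e ∈ L.X0 by rw [hae]; exact mul_mem hb this.2
  refine abelian_mem L.es L.card inf_le_left L.t_X0 L.card_X0 (fun u hu v hv => L.X0_comm hu hv) he
    (L.comm_X0 (L.es.comm e he) fun m hm => ?_)
  set w := L.bv m with hw
  have hwX := L.s_bv_X0 hm
  rcases L.es.conj_cases he hwX.1 with h | h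
  · exact mul_inv_eq_iff_eq_mul.mp h
  exfalso
  have hb1 : b * w * b⁻¹ = w ∨ b * w * b⁻¹ = w * (g * t * g⁻¹) := L.es'.conj_cases hb hwX.2
  have hab : a i * w * (a i)⁻¹ = b * w * b⁻¹ * t := by
    rw [hae, show b * e * w * (b * e)⁻¹ = b * (e * w * e⁻¹) * b⁻¹ by group, h,
      show b * (w * t) * b⁻¹ = b * w * b⁻¹ * (b * t * b⁻¹) by group, mul_inv_eq_iff_eq_mul.mpr hbt]
  have ha : a i * w * (a i)⁻¹ = w ∨ a i * w * (a i)⁻¹ = w * (g * t * g⁻¹) := by
    by_cases h0 : crd m i = 0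
    · exact Or.inl (L.a_conj_bv_fix i h0)
    · have key : ∀ m i, lowW m = true → crd m i ≠ 0 → clr i m = 0 ∧ m ≠ cpl 0 := by decide
      obtain ⟨k1, k2⟩ := key m i hm h0
      refine Or.inr ?_
      rw [hw, L.a_conj_bv i h0, k1]
      conv_rhs => rw [← L.bv_zero]
      exact (L.bv_comm k2).eq
  have hts : ∀ (u v : G), (v = 1 ∨ v = g * t * g⁻¹) → (u = 1 ∨ u = g * t * g⁻¹) → u = v * t → False := by
    rintro u v (rfl | rfl) (rfl | rfl) e
    · exact L.es.ne (by simpa using e.symm)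
    · exact L.hne (by simpa using e)
    · refine L.hne (inv_injective ?_)
      rw [inv_eq_of_mul_eq_one_right L.es.zz, inv_eq_of_mul_eq_one_right e.symm]
    · exact L.es.ne (mul_eq_left.mp e.symm)
  refine hts (w⁻¹ * (a i * w * (a i)⁻¹)) (w⁻¹ * (b * w * b⁻¹)) ?_ ?_ (by rw [hab]; simp only [mul_assoc])
  · rcases hb1 with e1 | e1 <;> rw [e1]
    · exact Or.inl (inv_mul_cancel w)
    · exact Or.inr (inv_mul_cancel_left w _)
  · rcases ha with e1 | e1 <;> rw [e1]
    · exact Or.inl (inv_mul_cancel w)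
    · exact Or.inr (inv_mul_cancel_left w _)

/-- An element of the core commuting with an element of order three is central. -/
theorem core_fix {e : G} (he : e ∈ E) (j : Fin 3) (hc : Commute (x j) e) : e = 1 ∨ e = t := by
  have h := L.psum L.toOdd8 j he
  rw [mul_inv_eq_iff_eq_mul.mpr hc.eq, mul_inv_eq_iff_eq_mul.mpr (hc.mul_left hc).eq] at h
  rcases L.es.sq e he with e2 | e2 <;> rw [e2] at h
  · simpa using h
  · rcases h with h | h
    · right
      rw [← inv_eq_of_mul_eq_one_right h, inv_eq_of_mul_eq_one_right L.es.zz]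
    · left
      exact mul_eq_left.mp h

theorem core_cap {e : G} (he : e ∈ cj g E) (h : e = 1 ∨ e = t) (hsq : e = 1 ∨ e = g * t * g⁻¹) : e = 1 := by
  rcases hsq with h' | h'
  · exact h'
  · rcases h with h | h
    · exact h
    · exact absurd (h'.symm.trans h) L.hne

theorem a_sq (i : Fin 3) : a i * a i = 1 := by
  obtain ⟨j, hj⟩ : ∃ j, i ≠ j := by revert i; decide
  have hat : (a i * a i) * t = t * (a i * a i) := (Commute.mul_left (L.a_t i) (L.a_t i)).eq
  have hE : a i * a i ∈ E := (L.π_ker _ hat).mp (by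
    rw [L.π_mul _ _ (L.a_t i) (L.a_t i), L.πa]; exact (by decide : ∀ i, τg i * τg i = 1) i)
  have hx : Commute (x j) (a i * a i) := by
    have h := (show Commute (a i) (x j) from mul_inv_eq_iff_eq_mul.mp (L.axj i j hj)).symm
    exact h.mul_right h
  exact L.core_cap (mul_mem (L.a_B i) (L.a_B i)) (L.core_fix hE j hx) (L.es'.sq _ (L.a_B i))

theorem a_comm (i j : Fin 3) : Commute (a i) (a j) := by
  obtain ⟨k, hki, hkj⟩ : ∃ k, i ≠ k ∧ j ≠ k := by revert i j; decide
  refine commutatorElement_eq_one_iff_mul_comm.mp ?_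
  have hai := (show Commute (a i) t from L.a_t i)
  have haj := (show Commute (a j) t from L.a_t j)
  have hat : ⁅a i, a j⁆ * t = t * ⁅a i, a j⁆ := by
    rw [commutatorElement_def]; exact (((hai.mul_left haj).mul_left hai.inv_left).mul_left haj.inv_left).eq
  have hE : ⁅a i, a j⁆ ∈ E := (L.π_ker _ hat).mp (by
    rw [commutatorElement_def, L.π_mul _ _ ((hai.mul_left haj).mul_left hai.inv_left).eq haj.inv_left.eq,
      L.π_mul _ _ (hai.mul_left haj).eq hai.inv_left.eq, L.π_mul _ _ hai.eq haj.eq, L.π_inv hai.eq, L.π_inv haj.eq,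
      L.πa, L.πa]
    exact (by decide : ∀ i j, τg i * τg j * (τg i)⁻¹ * (τg j)⁻¹ = 1) i j)
  have hx : Commute (x k) ⁅a i, a j⁆ := by
    have h1 := (show Commute (a i) (x k) from mul_inv_eq_iff_eq_mul.mp (L.axj i k hki)).symm
    have h2 := (show Commute (a j) (x k) from mul_inv_eq_iff_eq_mul.mp (L.axj j k hkj)).symm
    rw [commutatorElement_def]
    exact ((h1.mul_right h2).mul_right h1.inv_right).mul_right h2.inv_right
  refine L.core_cap ?_ (L.core_fix hE k hx) (L.es'.commutator_cases (L.a_B i) (L.a_B j))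
  rw [commutatorElement_def]
  exact mul_mem (mul_mem (mul_mem (L.a_B i) (L.a_B j)) (inv_mem (L.a_B i))) (inv_mem (L.a_B j))

end Lift8

end CfsgLib.O8C
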