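import Cfsg.Agent.Lib.OEightCent.Model

/-!
Tables for the finite checks in the model of type `D₄` over the field with two elements.
-/

set_option autoImplicit false
set_option maxRecDepth 8000

namespace CfsgLib.O8C

/-- Part of `invTab`. -/
def invTab0 : List (ℕ × ℕ × ℕ × ℕ) :=
  [(1, 0, 0, 0), (2, 0, 13, 0), (3, 0, 8, 1), (32, 0, 12, 1), (8, 0, 14, 1), (4, 0, 15, 1), (33, 0, 12, 2), (9, 0, 14, 2), (5, 0, 15, 2), (34, 0, 9, 3), (128, 0, 14, 3), (64, 0, 15, 3), (10, 0, 10, 4), (16, 0, 15, 4), (6, 0, 11, 5), (35, 0, 9, 6), (129, 0, 14, 6), (65, 0, 15, 6), (11, 0, 10, 7), (17, 0, 15, 7), (7, 0, 11, 8), (136, 0, 14, 9), (68, 0, 15, 9), (160, 0, 10, 10), (2048, 0, 13, 10), (256, 0, 15, 10), (96, 0, 11, 11), (1024, 0, 13, 11), (20, 0, 15, 12), (24, 0, 11, 13), (512, 0, 13, 13), (137, 0, 14, 15), (69,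 0, 15, 15), (161, 0, 10, 16), (2050, 0, 13, 16), (257, 0, 15, 16), (97, 0, 11, 17), (1026, 0, 13, 17), (21, 0, 15, 18), (25, 0, 11, 19), (514, 0, 13, 19), (170, 0, 10, 21), (2056, 0, 13, 21), (272, 0, 15, 21), (102, 0, 11, 22), (1028, 0, 13, 22), (2080, 0, 13, 23), (320, 0, 15, 23), (2176, 0, 8, 24), (384, 0, 11, 25), (1056, 0, 13, 26), (1088, 0, 8, 27), (30, 0, 11, 28), (516, 0, 13, 28), (520, 0, 13, 29), (528, 0, 8, 30), (171, 0, 10, 31), (2058, 0, 13, 31), (273, 0, 15, 31), (103, 0, 11, 32), (1030, 0, 13, 32), (2082, 0, 13, 33), (321, 0, 15, 33), (2179, 0, 8, 34), (385, 0, 11, 35), (1058, 0, 13, 36), (1091, 0, 8, 37), (31, 0, 11, 38), (518, 0, 13, 38), (522, 0, 13, 39), (531, 0, 8, 40), (2089, 0, 13, 41), (340, 0, 15, 41), (2184, 0, 8, 42), (408, 0, 11, 43), (1061, 0, 13, 44), (1092, 0, 8, 45),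 (2208, 0, 8, 46), (480, 0, 11, 47), (1120, 0, 8, 50), (525, 0, 13, 52), (532, 0, 8, 53), (536, 0, 8, 54), (2091, 0, 13, 56), (341, 0, 15, 56), (2187, 0, 8, 57), (409, 0, 11, 58), (1063, 0, 13, 59), (1095, 0, 8, 60), (2211, 0, 8, 61), (481, 0, 11, 62), (1123, 0, 8, 65), (527, 0, 13, 67), (535, 0, 8, 68), (539, 0, 8, 69), (2217, 0, 8, 71), (510, 0, 11, 72), (2218, 0, 10, 73), (1125, 0, 8, 75), (1126, 0, 11, 76)]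

/-- Part of `invTab`. -/
def invTab1 : List (ℕ × ℕ × ℕ × ℕ) :=
  [(541, 0, 8, 80), (542, 0, 11, 81), (511, 0, 11, 84), (12, 1, 0, 103), (13, 1, 6, 103), (14, 1, 10, 103), (192, 1, 12, 103), (18, 1, 14, 103), (15, 1, 10, 104), (193, 1, 12, 104), (19, 1, 14, 104), (224, 1, 12, 105), (26, 1, 14, 105), (22, 1, 15, 105), (205, 1, 9, 106), (3072, 1, 13, 106), (288, 1, 14, 106), (513, 1, 13, 107), (225, 1, 12, 108), (27, 1, 14, 108), (23, 1, 15, 108), (204, 1, 9, 109), (3074, 1, 13, 109), (289, 1, 14, 109), (515, 1, 13, 110), (239, 1, 9, 111), (3104, 1, 13, 111), (416, 1, 14, 111), (352, 1, 15, 111), (28, 1, 10, 112), (521, 1, 13, 112), (517, 1, 13, 113), (3086, 1, 13, 114), (307, 1, 14, 114), (3296, 1, 8, 115), (529, 1, 8, 117), (238, 1, 9, 118), (3106, 1, 13, 118), (417, 1, 14, 118), (353, 1, 15, 118),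 (29, 1, 10, 119), (523, 1, 13, 119), (519, 1, 13, 120), (3084, 1, 13, 121), (306, 1, 14, 121), (3299, 1, 8, 122), (530, 1, 8, 124), (3119, 1, 13, 125), (443, 1, 14, 125), (375, 1, 15, 125), (3264, 1, 8, 126), (448, 1, 10, 127), (524, 1, 13, 129), (537, 1, 8, 130), (533, 1, 8, 131), (3311, 1, 8, 132), (3117, 1, 13, 136), (442, 1, 14, 136), (374, 1, 15, 136), (3267, 1, 8, 137), (449, 1, 10, 138), (526, 1, 13, 140), (538, 1, 8, 141), (534, 1, 8, 142), (3308, 1, 8, 143), (3278, 1, 8, 147), (477, 1, 10, 148), (3277, 1, 9, 150), (540, 1, 8, 152), (543, 1, 10, 153), (476, 1, 10, 157), (36, 2, 0, 171), (37, 2, 4, 171), (38, 2, 9, 171), (66, 2, 12, 171), (144, 2, 14, 171), (39, 2, 9, 172), (67, 2, 12, 172), (145, 2, 14, 172), (98, 2, 12, 173), (152, 2, 14, 173), (70, 2, 15, 173), (1025, 2, 13, 174), (264,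 2, 14, 174), (180, 2, 10, 175), (2560, 2, 13, 175), (99, 2, 12, 176), (153, 2, 14, 176), (71, 2, 15, 176), (1027, 2, 13, 177), (265, 2, 14, 177), (181, 2, 10, 178), (2562, 2, 13, 178), (100, 2, 9, 179), (1057, 2, 13, 179), (392, 2, 14, 179), (190, 2, 10, 180), (2568, 2, 13, 180), (280, 2, 15, 180), (1029, 2, 13, 181)]

/-- Part of `invTab`. -/
def invTab2 : List (ℕ × ℕ × ℕ × ℕ) :=
  [(1089, 2, 8, 182), (330, 2, 10, 183), (2598, 2, 13, 184), (2712, 2, 8, 185), (101, 2, 9, 186), (1059, 2, 13, 186), (393, 2, 14, 186), (191, 2, 10, 187), (2570, 2, 13, 187), (281, 2, 15, 187), (1031, 2, 13, 188), (1090, 2, 8, 189), (331, 2, 10, 190), (2596, 2, 13, 191), (2715, 2, 8, 192), (1060, 2, 13, 193), (400, 2, 14, 193), (1121, 2, 8, 194), (490, 2, 10, 195), (2607, 2, 13, 196), (350, 2, 15, 196), (2704, 2, 8, 197),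 (1093, 2, 8, 199), (2750, 2, 8, 202), (1062, 2, 13, 204), (401, 2, 14, 204), (1122, 2, 8, 205), (491, 2, 10, 206), (2605, 2, 13, 207), (351, 2, 15, 207), (2707, 2, 8, 208), (1094, 2, 8, 210), (2749, 2, 8, 213), (1124, 2, 8, 215), (500, 2, 10, 216), (1127, 2, 9, 217), (2743, 2, 8, 219), (2740, 2, 10, 221), (501, 2, 10, 225), (40, 3, 0, 239), (41, 3, 4, 239), (42, 3, 9, 239), (130, 3, 12, 239), (80, 3, 15, 239), (43, 3, 9, 240), (131, 3, 12, 240), (81, 3, 15, 240), (162, 3, 12, 241), (138, 3, 14, 241), (84, 3, 15, 241), (2049, 3, 13, 242), (260, 3, 15, 242), (120, 3, 11, 243), (1536, 3, 13, 243), (163, 3, 12, 244), (139, 3, 14, 244), (85, 3, 15, 244), (2051, 3, 13, 245), (261, 3, 15, 245), (121, 3, 11, 246), (1538, 3, 13, 246), (168, 3, 9, 247), (2081, 3, 13, 247), (324, 3, 15, 247), (2057, 3, 13, 248),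 (276, 3, 15, 248), (126, 3, 11, 249), (1540, 3, 13, 249), (2177, 3, 8, 250), (390, 3, 11, 251), (1578, 3, 13, 252), (1620, 3, 8, 253), (169, 3, 9, 254), (2083, 3, 13, 254), (325, 3, 15, 254), (2059, 3, 13, 255), (277, 3, 15, 255), (127, 3, 11, 256), (1542, 3, 13, 256), (2178, 3, 8, 257), (391, 3, 11, 258), (1576, 3, 13, 259), (1623, 3, 8, 260), (2088, 3, 13, 261), (336, 3, 15, 261), (2209, 3, 8, 262), (486, 3, 11, 263), (2185, 3, 8, 264), (414, 3, 11, 265), (1583, 3, 13, 266), (1616, 3, 8, 267), (1662, 3, 8, 270), (2090, 3, 13, 272), (337, 3, 15, 272), (2210, 3, 8, 273), (487, 3, 11, 274), (2186, 3, 8, 275), (415, 3, 11, 276), (1581, 3, 13, 277), (1619, 3, 8, 278)]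

/-- Part of `invTab`. -/
def invTab3 : List (ℕ × ℕ × ℕ × ℕ) :=
  [(1661, 3, 8, 281), (2216, 3, 8, 283), (504, 3, 11, 284), (2219, 3, 9, 285), (1659, 3, 8, 289), (1656, 3, 11, 290), (505, 3, 11, 293), (44, 4, 0, 307), (45, 4, 4, 307), (46, 4, 9, 307), (194, 4, 12, 307), (146, 4, 14, 307), (82, 4, 15, 307), (47, 4, 9, 308), (195, 4, 12, 308), (147, 4, 14, 308), (83, 4, 15, 308), (226, 4, 12, 309), (154, 4, 14, 309), (86, 4, 15, 309), (207, 4, 9, 310), (3073, 4, 13, 310), (296, 4, 14, 310), (292, 4, 15, 310), (182, 4, 10, 311), (2561, 4, 13, 311), (268, 4, 15, 311), (122, 4, 11, 312), (1537, 4, 13, 312), (227, 4, 12, 313), (155, 4, 14, 313), (87, 4, 15, 313), (206, 4, 9, 314), (3075, 4, 13, 314), (297, 4, 14, 314), (293, 4, 15, 314), (183, 4, 10, 315), (2563, 4, 13, 315), (269, 4, 15, 315), (123, 4,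 11, 316), (1539, 4, 13, 316), (237, 4, 9, 317), (3105, 4, 13, 317), (424, 4, 14, 317), (356, 4, 15, 317), (188, 4, 10, 318), (2569, 4, 13, 318), (284, 4, 15, 318), (124, 4, 11, 319), (1541, 4, 13, 319), (3087, 4, 13, 320), (315, 4, 14, 320), (311, 4, 15, 320), (3297, 4, 8, 321), (362, 4, 10, 322), (208, 4, 15, 322), (422, 4, 11, 323), (2599, 4, 13, 324), (334, 4, 15, 324), (2713, 4, 8, 325), (398, 4, 11, 326), (1579, 4, 13, 327), (1621, 4, 8, 328), (236, 4, 9, 329), (3107, 4, 13, 329), (425, 4, 14, 329), (357, 4, 15, 329), (189, 4, 10, 330), (2571, 4, 13, 330), (285, 4, 15, 330), (125, 4, 11, 331), (1543, 4, 13, 331), (3085, 4, 13, 332), (314, 4, 14, 332), (310, 4, 15, 332), (3298, 4, 8, 333), (363, 4, 10, 334), (209, 4, 15, 334), (423, 4, 11, 335), (2597, 4, 13, 336), (335, 4, 15, 336), (2714, 4,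 8, 337), (399, 4, 11, 338), (1577, 4, 13, 339), (1622, 4, 8, 340), (3118, 4, 13, 341), (435, 4, 14, 341), (371, 4, 15, 341), (3265, 4, 8, 342), (458, 4, 10, 343), (464, 4, 15, 343), (454, 4, 11, 344), (2606, 4, 13, 345), (346, 4, 15, 345), (2705, 4, 8, 346), (406, 4, 11, 347), (1582, 4, 13, 348), (1617, 4, 8, 349), (3310, 4, 8, 350), (381, 4, 10, 351)]

/-- Part of `invTab`. -/
def invTab4 : List (ℕ × ℕ × ℕ × ℕ) :=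
  [(221, 4, 15, 351), (445, 4, 11, 352), (244, 4, 15, 354), (248, 4, 11, 355), (3584, 4, 13, 355), (2751, 4, 8, 357), (492, 4, 11, 358), (1663, 4, 8, 361), (3116, 4, 13, 363), (434, 4, 14, 363), (370, 4, 15, 363), (3266, 4, 8, 364), (459, 4, 10, 365), (465, 4, 15, 365), (455, 4, 11, 366), (2604, 4, 13, 367), (347, 4, 15, 367), (2706, 4, 8, 368), (407, 4, 11, 369), (1580, 4, 13, 370), (1618, 4, 8, 371), (3309, 4, 8, 372), (380, 4, 10, 373), (220, 4, 15, 373), (444, 4, 11, 374), (245, 4, 15, 376), (249, 4, 11, 377), (3586, 4, 13, 377), (2748, 4, 8, 379), (493, 4, 11, 380), (1660, 4, 8, 383), (3279, 4, 8, 385), (471, 4, 10, 386), (461, 4, 15, 386), (475, 4, 11, 387), (3276, 4, 9, 388), (436, 4, 15, 389), (376, 4, 11, 390), (2742, 4, 8, 392), (498, 4, 11, 393), (2741, 4, 10, 394), (1658, 4, 8, 396), (1657,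 4, 11, 397), (251, 4, 15, 399), (247, 4, 11, 400), (3598, 4, 13, 400), (222, 4, 11, 402), (3622, 4, 13, 402), (3626, 4, 13, 403), (3839, 4, 8, 404), (470, 4, 10, 409), (460, 4, 15, 409), (474, 4, 11, 410), (437, 4, 15, 412), (377, 4, 11, 413), (499, 4, 11, 416), (250, 4, 15, 422), (246, 4, 11, 423), (3596, 4, 13, 423), (223, 4, 11, 425), (3620, 4, 13, 425), (3624, 4, 13, 426), (3836, 4, 8, 427), (431, 4, 15, 432), (367, 4, 11, 433), (318, 4, 11, 436), (211, 4, 11, 443), (3625, 4, 13, 443), (3621, 4, 13, 444), (3824, 4, 8, 445), (3597, 4, 13, 446), (3801, 4, 8, 447), (3797, 4, 8, 448), (430, 4, 15, 450), (366, 4, 11, 451), (319, 4, 11, 453), (210, 4, 11, 456), (3627, 4, 13, 456), (3623, 4, 13, 457), (3827, 4, 8, 458), (3599, 4, 13, 459), (3802, 4, 8, 460), (3798, 4, 8, 461), (301, 4, 11, 463), (3587,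 4, 13, 466), (3799, 4, 8, 467), (3803, 4, 8, 468), (3796, 4, 10, 469), (3800, 4, 11, 469), (3826, 4, 8, 470), (3825, 4, 11, 471), (300, 4, 11, 473), (3585, 4, 13, 476), (3837, 4, 8, 484), (3838, 4, 7, 487)]

/-- Involutions of the Sylow subgroup: index, class, move, parent. -/
def invTab : List (ℕ × ℕ × ℕ × ℕ) := invTab0 ++ invTab1 ++ invTab2 ++ invTab3 ++ invTab4

/-- Part of `crTab`. -/
def crTab0 : List (ℕ × ℕ) :=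
  [(0, 0), (0, 1), (0, 2), (0, 3), (0, 4), (0, 5), (0, 6), (0, 7), (0, 8), (0, 9), (0, 10), (0, 11), (0, 12), (0, 13), (0, 14), (0, 15), (0, 16), (0, 17), (0, 18), (0, 19), (0, 20), (0, 21), (0, 22), (0, 23), (0, 24), (0, 25), (0, 26), (0, 27), (0, 28), (0, 29), (0, 30), (0, 31), (0, 32), (0, 33), (0, 34), (0, 35), (0, 36), (0, 37), (0, 38), (0, 39), (0, 40), (0, 41), (0, 42), (0, 43), (0, 44), (0, 45), (0, 46), (0, 47), (0, 48), (0, 49), (0, 50), (0, 51), (0, 52), (0, 53), (0, 54), (0, 55), (0, 56), (0, 57), (0, 58), (0, 59), (0, 60), (0, 61), (0, 62), (0, 63), (0, 64), (0, 65), (0, 66), (0, 67), (0, 68), (0, 69), (0, 70), (0, 71), (0, 72), (0, 73), (0, 74), (0, 75), (0, 76), (0, 77), (0, 78), (0, 79), (0, 80), (0, 81), (0, 82), (0, 83), (0, 84), (0, 85), (0, 86), (0, 87), (0, 88), (0, 89), (0, 90),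 (0, 91), (0, 92), (0, 93), (0, 94), (0, 95), (0, 96), (0, 97), (0, 98), (0, 99)]

/-- Part of `crTab`. -/
def crTab1 : List (ℕ × ℕ) :=
  [(0, 100), (0, 101), (0, 102), (1, 24), (1, 34), (1, 42), (1, 46), (1, 48), (1, 57), (1, 61), (1, 63), (1, 71), (1, 73), (1, 77), (1, 83), (1, 85), (1, 89), (1, 95), (1, 97), (2, 24), (2, 34), (2, 42), (2, 46), (2, 48), (2, 57), (2, 61), (2, 63), (2, 71), (2, 73), (2, 77), (2, 83), (2, 85), (2, 89), (2, 95), (2, 97), (3, 27), (3, 37), (3, 45), (3, 50), (3, 51), (3, 60), (3, 65), (3, 66), (3, 75), (3, 76), (3, 79), (3, 87), (3, 88), (3, 91), (3, 98), (3, 99), (6, 27), (6, 37), (6, 45), (6, 50), (6, 51), (6, 60), (6, 65), (6, 66), (6, 75), (6, 76), (6, 79), (6, 87), (6, 88), (6, 91), (6, 98), (6, 99), (9, 30), (9, 40), (9, 53), (9, 54), (9, 55), (9, 68), (9, 69), (9,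 70), (9, 80), (9, 81), (9, 82), (9, 92), (9, 93), (9, 94), (9, 100), (9, 101), (18, 30), (18, 40), (18, 53), (18, 54), (18, 55), (18, 68), (18, 69), (18, 70), (18, 80), (18, 81), (18, 82), (18, 92), (18, 93), (18, 94), (18, 100), (18, 101)]

/-- Conjugates of the centre in the centralizer: translation and table position. -/
def crTab : List (ℕ × ℕ) := crTab0 ++ crTab1

/-- Part of `crIdx`. -/
def crIdx0 : List (List ℕ) :=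
  [[0, 1, 2, 3, 4, 5, 6, 7, 8, 9, 10, 11, 12, 13, 14, 15, 16, 17, 18, 19, 20, 21, 22, 23, 24, 25, 26, 27, 28, 29, 30, 31, 32, 33, 34, 35, 36, 37, 38, 39, 40, 41, 42, 43, 44, 45, 46, 47, 48, 49, 50, 51, 52, 53, 54, 55, 56, 57, 58, 59, 60, 61, 62, 63, 64, 65, 66, 67, 68, 69, 70, 71, 72, 73, 74, 75, 76, 77, 78, 79, 80, 81, 82, 83, 84, 85, 86, 87, 88, 89, 90, 91, 92, 93, 94, 95, 96, 97, 98, 99, 100, 101, 102], [0, 5, 8, 11, 13, 14, 17, 19, 20, 22, 25, 26, 28, 29, 1, 32, 35, 36, 38, 39, 2, 43, 44, 47, 103, 49, 3, 27, 52, 4, 30, 58, 59, 62, 104, 64, 6, 45, 67, 7, 53, 72, 105, 74, 9, 60, 106, 78, 107, 10, 51, 79, 12, 68, 55, 82, 84, 108, 86, 15, 37, 109, 90, 110, 16, 76, 98, 18, 40, 81, 100, 111, 96, 112, 21, 88, 99, 113, 23, 50, 93, 101, 54, 114, 102, 115, 31, 66, 91, 116, 33, 75, 70, 94, 80, 117, 41, 118,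 87, 65, 92, 69, 56], [0, 14, 20, 26, 29, 1, 36, 39, 2, 44, 49, 3, 52, 4, 5, 59, 64, 6, 67, 7, 8, 74, 9, 78, 119, 10, 11, 27, 12, 13, 30, 86, 15, 90, 120, 16, 17, 60, 18, 19, 68, 96, 121, 21, 22, 37, 122, 23, 123, 25, 79, 50, 28, 40, 82, 54, 102, 124, 31, 32, 45, 125, 33, 126, 35, 99, 87, 38, 53, 101, 92, 127, 41, 128, 43, 91, 65, 129, 47, 51, 94, 69, 55, 130, 56, 131, 58, 98, 75, 132, 62, 88, 100, 80, 93, 133, 72, 134, 66, 76, 70, 81, 84]]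

/-- Part of `crIdx`. -/
def crIdx1 : List (List ℕ) :=
  [[0, 4, 7, 10, 12, 13, 16, 18, 19, 21, 23, 25, 1, 28, 29, 31, 33, 35, 2, 38, 39, 41, 43, 3, 24, 47, 49, 135, 5, 52, 30, 56, 58, 6, 42, 62, 64, 136, 8, 67, 54, 9, 57, 72, 74, 137, 48, 11, 77, 78, 138, 139, 14, 55, 69, 81, 15, 34, 84, 86, 140, 73, 17, 95, 90, 141, 142, 20, 82, 40, 100, 85, 22, 97, 96, 143, 144, 46, 26, 145, 94, 53, 101, 63, 32, 89, 102, 146, 147, 71, 36, 148, 70, 80, 93, 83, 44, 61, 149, 150, 92, 68, 59], [0, 13, 19, 25, 28, 29, 35, 38, 39, 43, 47, 49, 5, 52, 4, 58, 62, 64, 8, 67, 7, 72, 74, 11, 103, 78, 10, 135, 14, 12, 30, 84, 86, 17, 105, 90, 16, 137, 20, 18, 55, 22, 108, 96, 21, 140, 107, 26, 113, 23, 139, 145, 1, 82, 81, 101, 32, 104, 102, 31, 136, 112, 36, 117, 33, 144, 149, 2, 54, 53, 92, 115, 44, 118, 41, 147, 150, 106,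 3, 138, 80, 68, 69, 110, 59, 116, 56, 142, 148, 111, 6, 143, 100, 93, 94, 114, 9, 109, 146, 141, 70, 40, 15], [0, 29, 39, 49, 52, 4, 64, 67, 7, 74, 78, 10, 14, 12, 13, 86, 90, 16, 20, 18, 19, 96, 21, 26, 119, 23, 25, 135, 1, 28, 30, 102, 31, 36, 121, 33, 35, 140, 2, 38, 82, 44, 124, 41, 43, 136, 123, 3, 129, 47, 145, 138, 5, 54, 101, 69, 59, 120, 56, 58, 137, 128, 6, 133, 62, 150, 146, 8, 55, 68, 70, 131, 9, 134, 72, 148, 141, 122, 11, 139, 93, 40, 81, 126, 15, 132, 84, 149, 143, 127, 17, 147, 92, 94, 80, 130, 22, 125, 142, 144, 100, 53, 32]]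

/-- Part of `crIdx`. -/
def crIdx2 : List (List ℕ) :=
  [[0, 12, 18, 23, 1, 28, 33, 2, 38, 41, 3, 47, 4, 5, 52, 56, 6, 62, 7, 8, 67, 9, 72, 10, 24, 11, 78, 151, 13, 14, 30, 15, 84, 16, 57, 17, 90, 152, 19, 20, 69, 21, 34, 22, 96, 153, 77, 25, 46, 26, 154, 155, 29, 81, 40, 53, 31, 42, 32, 102, 156, 97, 35, 83, 36, 157, 158, 39, 101, 54, 92, 89, 43, 61, 44, 159, 160, 48, 49, 161, 93, 55, 68, 95, 58, 71, 59, 162, 163, 85, 64, 164, 100, 94, 80, 63, 74, 73, 165, 166, 70, 82, 86], [0, 28, 38, 47, 5, 52, 62, 8, 67, 72, 11, 78, 13, 14, 12, 84, 17, 90, 19, 20, 18, 22, 96, 25, 103, 26, 23, 151, 29, 1, 30, 32, 102, 35, 108, 36, 33, 153, 39, 2, 81, 43, 104, 44, 41, 156, 113, 49, 106, 3, 155, 161, 4, 101, 53, 68, 58, 105, 59, 56, 152, 118, 64, 114, 6, 160, 165, 7, 69, 55, 70, 116, 74, 109, 9, 163, 166, 107, 10,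 154, 94, 82, 40, 117, 86, 111, 15, 158, 164, 115, 16, 159, 92, 80, 93, 110, 21, 112, 162, 157, 100, 54, 31], [0, 52, 67, 78, 14, 12, 90, 20, 18, 96, 26, 23, 29, 1, 28, 102, 36, 33, 39, 2, 38, 44, 41, 49, 119, 3, 47, 151, 4, 5, 30, 59, 56, 64, 124, 6, 62, 156, 7, 8, 101, 74, 120, 9, 72, 152, 129, 10, 122, 11, 161, 154, 13, 69, 68, 40, 86, 121, 15, 84, 153, 134, 16, 130, 17, 166, 162, 19, 81, 82, 100, 132, 21, 125, 22, 164, 157, 123, 25, 155, 80, 54, 53, 133, 31, 127, 32, 165, 159, 131, 35, 163, 70, 93, 94, 126, 43, 128, 158, 160, 92, 55, 58]]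

/-- Part of `crIdx`. -/
def crIdx3 : List (List ℕ) :=
  [[0, 3, 6, 9, 10, 11, 15, 16, 17, 1, 21, 22, 23, 25, 26, 2, 31, 32, 33, 35, 36, 4, 5, 41, 24, 43, 44, 27, 47, 49, 167, 7, 8, 56, 46, 58, 59, 50, 62, 64, 168, 12, 48, 13, 14, 51, 61, 72, 73, 74, 65, 76, 78, 169, 170, 171, 18, 77, 19, 20, 79, 34, 84, 95, 86, 37, 98, 90, 172, 173, 174, 89, 28, 42, 29, 91, 45, 97, 96, 99, 175, 176, 177, 63, 38, 71, 39, 66, 75, 85, 102, 88, 178, 179, 180, 83, 52, 57, 87, 60, 181, 182, 67], [0, 11, 17, 22, 25, 26, 32, 35, 36, 5, 43, 44, 47, 49, 3, 8, 58, 59, 62, 64, 6, 13, 14, 72, 103, 74, 9, 27, 78, 10, 167, 19, 20, 84, 106, 86, 15, 51, 90, 16, 169, 28, 107, 29, 1, 79, 109, 96, 112, 21, 76, 99, 23, 172, 171, 177, 38, 113, 39, 2, 50, 104, 102, 117, 31, 45, 87, 33, 168, 176, 181, 116, 52, 105, 4, 75, 60, 118, 41, 65,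 179, 182, 170, 110, 67, 111, 7, 98, 88, 115, 56, 91, 174, 180, 175, 114, 12, 108, 66, 37, 178, 173, 18], [0, 26, 36, 44, 49, 3, 59, 64, 6, 14, 74, 9, 78, 10, 11, 20, 86, 15, 90, 16, 17, 29, 1, 96, 119, 21, 22, 27, 23, 25, 167, 39, 2, 102, 122, 31, 32, 79, 33, 35, 172, 52, 123, 4, 5, 50, 125, 41, 128, 43, 99, 65, 47, 168, 177, 170, 67, 129, 7, 8, 51, 120, 56, 133, 58, 60, 66, 62, 169, 182, 178, 132, 12, 121, 13, 88, 37, 134, 72, 76, 180, 173, 171, 126, 18, 127, 19, 87, 91, 131, 84, 75, 181, 175, 179, 130, 28, 124, 98, 45, 174, 176, 38]]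

/-- Part of `crIdx`. -/
def crIdx4 : List (List ℕ) :=
  [[0, 10, 16, 21, 23, 25, 31, 33, 35, 4, 41, 43, 3, 47, 49, 7, 56, 58, 6, 62, 64, 12, 13, 9, 24, 72, 74, 135, 11, 78, 167, 18, 19, 15, 48, 84, 86, 138, 17, 90, 170, 1, 77, 28, 29, 139, 73, 22, 97, 96, 141, 144, 26, 171, 173, 176, 2, 46, 38, 39, 145, 42, 32, 83, 102, 136, 149, 36, 177, 168, 181, 71, 5, 57, 52, 148, 137, 61, 44, 150, 180, 169, 182, 95, 8, 85, 67, 142, 143, 89, 59, 147, 174, 175, 179, 63, 14, 34, 146, 140, 178, 172, 20], [0, 25, 35, 43, 47, 49, 58, 62, 64, 13, 72, 74, 11, 78, 10, 19, 84, 86, 17, 90, 16, 28, 29, 22, 103, 96, 21, 135, 26, 23, 167, 38, 39, 32, 107, 102, 31, 139, 36, 33, 171, 5, 113, 52, 4, 145, 112, 44, 118, 41, 144, 150, 3, 177, 176, 182, 8, 106, 67, 7, 138, 105, 59, 114, 56, 137, 146, 6, 170, 169, 178, 111, 14, 108,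 12, 143, 140, 109, 9, 141, 175, 172, 173, 117, 20, 115, 18, 149, 147, 116, 15, 148, 181, 179, 180, 110, 1, 104, 142, 136, 174, 168, 2], [0, 49, 64, 74, 78, 10, 86, 90, 16, 29, 96, 21, 26, 23, 25, 39, 102, 31, 36, 33, 35, 52, 4, 44, 119, 41, 43, 135, 3, 47, 167, 67, 7, 59, 123, 56, 58, 145, 6, 62, 177, 14, 129, 12, 13, 138, 128, 9, 134, 72, 150, 141, 11, 170, 182, 173, 20, 122, 18, 19, 139, 121, 15, 130, 84, 140, 142, 17, 171, 172, 174, 127, 1, 124, 28, 147, 136, 125, 22, 144, 179, 168, 176, 133, 2, 131, 38, 146, 148, 132, 32, 143, 178, 180, 175, 126, 5, 120, 149, 137, 181, 169, 8]]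

/-- Part of `crIdx`. -/
def crIdx5 : List (List ℕ) :=
  [[0, 23, 33, 41, 3, 47, 56, 6, 62, 12, 9, 72, 10, 11, 78, 18, 15, 84, 16, 17, 90, 1, 28, 21, 24, 22, 96, 151, 25, 26, 167, 2, 38, 31, 77, 32, 102, 154, 35, 36, 173, 4, 46, 5, 52, 155, 97, 43, 61, 44, 157, 160, 49, 176, 168, 169, 7, 48, 8, 67, 161, 57, 58, 63, 59, 152, 165, 64, 182, 170, 178, 85, 13, 34, 14, 164, 153, 73, 74, 166, 179, 171, 172, 83, 19, 89, 20, 158, 159, 71, 86, 163, 181, 180, 175, 95, 29, 42, 162, 156, 174, 177, 39], [0, 47, 62, 72, 11, 78, 84, 17, 90, 28, 22, 96, 25, 26, 23, 38, 32, 102, 35, 36, 33, 5, 52, 43, 103, 44, 41, 151, 49, 3, 167, 8, 67, 58, 113, 59, 56, 155, 64, 6, 176, 13, 106, 14, 12, 161, 118, 74, 109, 9, 160, 166, 10, 182, 169, 172, 19, 107, 20, 18, 154, 108, 86, 110, 15, 153, 162, 16, 173, 171, 174, 115, 29,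 104, 1, 159, 156, 112, 21, 157, 180, 177, 168, 114, 39, 116, 2, 165, 163, 111, 31, 164, 178, 175, 179, 117, 4, 105, 158, 152, 181, 170, 7], [0, 78, 90, 96, 26, 23, 102, 36, 33, 52, 44, 41, 49, 3, 47, 67, 59, 56, 64, 6, 62, 14, 12, 74, 119, 9, 72, 151, 10, 11, 167, 20, 18, 86, 129, 15, 84, 161, 16, 17, 182, 29, 122, 1, 28, 154, 134, 21, 125, 22, 166, 157, 25, 173, 172, 168, 39, 123, 2, 38, 155, 124, 31, 126, 32, 156, 158, 35, 176, 177, 181, 131, 4, 120, 5, 163, 152, 128, 43, 160, 175, 170, 169, 130, 7, 132, 8, 162, 164, 127, 58, 159, 174, 179, 180, 133, 13, 121, 165, 153, 178, 171, 19]]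

/-- Part of `crIdx`. -/
def crIdx6 : List (List ℕ) :=
  [[0, 9, 15, 1, 21, 22, 2, 31, 32, 3, 4, 5, 41, 43, 44, 6, 7, 8, 56, 58, 59, 10, 11, 12, 24, 13, 14, 27, 72, 74, 183, 16, 17, 18, 61, 19, 20, 65, 84, 86, 184, 23, 73, 25, 26, 76, 34, 28, 42, 29, 37, 45, 96, 185, 186, 187, 33, 97, 35, 36, 99, 46, 38, 83, 39, 50, 87, 102, 188, 189, 190, 85, 47, 48, 49, 88, 51, 57, 52, 60, 191, 192, 193, 95, 62, 89, 64, 98, 91, 71, 67, 75, 194, 195, 196, 63, 78, 77, 66, 79, 197, 198, 90], [0, 22, 32, 5, 43, 44, 8, 58, 59, 11, 13, 14, 72, 74, 9, 17, 19, 20, 84, 86, 15, 25, 26, 28, 103, 29, 1, 27, 96, 21, 183, 35, 36, 38, 109, 39, 2, 76, 102, 31, 185, 47, 112, 49, 3, 99, 104, 52, 105, 4, 45, 60, 41, 188, 187, 193, 62, 118, 64, 6, 65, 106, 67, 114, 7, 51, 66, 56, 184, 192, 197, 115, 78, 107, 10, 91, 79, 108, 12, 37,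 195, 198, 186, 117, 90, 116, 16, 87, 75, 111, 18, 88, 190, 196, 191, 110, 23, 113, 98, 50, 194, 189, 33], [0, 44, 59, 14, 74, 9, 20, 86, 15, 26, 29, 1, 96, 21, 22, 36, 39, 2, 102, 31, 32, 49, 3, 52, 119, 4, 5, 27, 41, 43, 183, 64, 6, 67, 125, 7, 8, 99, 56, 58, 188, 78, 128, 10, 11, 65, 120, 12, 121, 13, 60, 37, 72, 184, 193, 186, 90, 134, 16, 17, 76, 122, 18, 130, 19, 79, 98, 84, 185, 198, 194, 131, 23, 123, 25, 75, 50, 124, 28, 45, 196, 189, 187, 133, 33, 132, 35, 66, 88, 127, 38, 91, 197, 191, 195, 126, 47, 129, 87, 51, 190, 192, 62]]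

/-- Part of `crIdx`. -/
def crIdx7 : List (List ℕ) :=
  [[0, 21, 31, 4, 41, 43, 7, 56, 58, 10, 12, 13, 9, 72, 74, 16, 18, 19, 15, 84, 86, 23, 25, 1, 24, 28, 29, 135, 22, 96, 183, 33, 35, 2, 73, 38, 39, 141, 32, 102, 186, 3, 97, 47, 49, 144, 42, 5, 57, 52, 136, 137, 44, 187, 189, 192, 6, 61, 62, 64, 150, 48, 8, 63, 67, 138, 146, 59, 193, 184, 197, 89, 11, 77, 78, 147, 139, 34, 14, 140, 196, 185, 198, 83, 17, 71, 90, 149, 148, 85, 20, 143, 190, 191, 195, 95, 26, 46, 142, 145, 194, 188, 36], [0, 43, 58, 13, 72, 74, 19, 84, 86, 25, 28, 29, 22, 96, 21, 35, 38, 39, 32, 102, 31, 47, 49, 5, 103, 52, 4, 135, 44, 41, 183, 62, 64, 8, 112, 67, 7, 144, 59, 56, 187, 11, 118, 78, 10, 150, 105, 14, 108, 12, 137, 140, 9, 193, 192, 198, 17, 109, 90, 16, 141, 107, 20, 110, 18, 139, 142, 15, 186, 185, 194, 116, 26,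 113, 23, 148, 145, 104, 1, 136, 191, 188, 189, 114, 36, 111, 33, 146, 143, 115, 2, 147, 197, 195, 196, 117, 3, 106, 149, 138, 190, 184, 6], [0, 74, 86, 29, 96, 21, 39, 102, 31, 49, 52, 4, 44, 41, 43, 64, 67, 7, 59, 56, 58, 78, 10, 14, 119, 12, 13, 135, 9, 72, 183, 90, 16, 20, 128, 18, 19, 150, 15, 84, 193, 26, 134, 23, 25, 141, 121, 1, 124, 28, 140, 136, 22, 186, 198, 189, 36, 125, 33, 35, 144, 123, 2, 126, 38, 145, 149, 32, 187, 188, 190, 132, 3, 129, 47, 143, 138, 120, 5, 137, 195, 184, 192, 130, 6, 127, 62, 142, 147, 131, 8, 148, 194, 196, 191, 133, 11, 122, 146, 139, 197, 185, 17]]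

/-- Part of `crIdx`. -/
def crIdx8 : List (List ℕ) :=
  [[0, 41, 56, 12, 9, 72, 18, 15, 84, 23, 1, 28, 21, 22, 96, 33, 2, 38, 31, 32, 102, 3, 47, 4, 24, 5, 52, 151, 43, 44, 183, 6, 62, 7, 97, 8, 67, 157, 58, 59, 189, 10, 61, 11, 78, 160, 57, 13, 34, 14, 152, 153, 74, 192, 184, 185, 16, 73, 17, 90, 166, 77, 19, 95, 20, 154, 162, 86, 198, 186, 194, 71, 25, 46, 26, 163, 155, 42, 29, 156, 195, 187, 188, 63, 35, 85, 36, 165, 164, 89, 39, 159, 197, 196, 191, 83, 49, 48, 158, 161, 190, 193, 64], [0, 72, 84, 28, 22, 96, 38, 32, 102, 47, 5, 52, 43, 44, 41, 62, 8, 67, 58, 59, 56, 11, 78, 13, 103, 14, 12, 151, 74, 9, 183, 17, 90, 19, 118, 20, 18, 160, 86, 15, 192, 25, 109, 26, 23, 166, 108, 29, 104, 1, 153, 156, 21, 198, 185, 188, 35, 112, 36, 33, 157, 113, 39, 117, 2, 155, 158, 31, 189, 187, 190, 111, 49,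 106, 3, 164, 161, 105, 4, 152, 196, 193, 184, 110, 64, 115, 6, 162, 159, 116, 7, 163, 194, 191, 195, 114, 10, 107, 165, 154, 197, 186, 16], [0, 96, 102, 52, 44, 41, 67, 59, 56, 78, 14, 12, 74, 9, 72, 90, 20, 18, 86, 15, 84, 26, 23, 29, 119, 1, 28, 151, 21, 22, 183, 36, 33, 39, 134, 2, 38, 166, 31, 32, 198, 49, 125, 3, 47, 157, 124, 4, 120, 5, 156, 152, 43, 189, 188, 184, 64, 128, 6, 62, 160, 129, 7, 133, 8, 161, 165, 58, 192, 193, 197, 127, 10, 122, 11, 159, 154, 121, 13, 153, 191, 186, 185, 126, 16, 131, 17, 158, 163, 132, 19, 164, 190, 195, 196, 130, 25, 123, 162, 155, 194, 187, 35]]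

/-- Position in `crTab`, by translation. -/
def crIdx : List (List ℕ) := crIdx0 ++ crIdx1 ++ crIdx2 ++ crIdx3 ++ crIdx4 ++ crIdx5 ++ crIdx6 ++ crIdx7 ++ crIdx8

/-- Part of `okTab1`. -/
def okTab10 : List (ℕ × ℕ × ℕ) :=
  [(3, 0, 0), (0, 0, 2), (0, 0, 1), (0, 0, 6), (0, 0, 7), (0, 0, 8), (0, 0, 3), (0, 0, 4), (0, 0, 5), (0, 0, 15), (4, 0, 0), (4, 0, 0), (0, 0, 18), (0, 0, 19), (0, 0, 20), (0, 0, 9), (4, 0, 0), (4, 0, 0), (0, 0, 12), (0, 0, 13), (0, 0, 14), (4, 0, 0), (4, 0, 0), (4, 0, 0), (4, 0, 0), (0, 0, 35), (4, 0, 0), (4, 0, 0), (0, 0, 38), (0, 0, 39), (1, 0, 80), (4, 0, 0), (4, 0, 0), (4, 0, 0), (4, 0, 0), (0, 0, 25), (4, 0, 0), (4, 0, 0), (0, 0, 28), (0, 0, 29), (1, 0, 92), (4, 0, 0), (4, 0, 0), (0, 0, 58), (4, 0, 0), (4, 0, 0), (4, 0, 0), (4, 0, 0), (4, 0, 0), (4, 0, 0), (4, 0, 0), (4, 0,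 0), (0, 0, 67), (2, 0, 0), (2, 1, 0), (1, 0, 100), (4, 0, 0), (4, 0, 0), (0, 0, 43), (4, 0, 0), (4, 0, 0), (4, 0, 0), (4, 0, 0), (4, 0, 0), (4, 0, 0), (4, 0, 0), (4, 0, 0), (0, 0, 52), (2, 2, 0), (2, 3, 0), (1, 0, 101), (4, 0, 0), (4, 0, 0), (4, 0, 0), (4, 0, 0), (4, 0, 0), (4, 0, 0), (4, 0, 0), (0, 0, 90), (4, 0, 0), (1, 0, 30), (2, 4, 0), (2, 5, 0), (4, 0, 0), (4, 0, 0), (4, 0, 0), (4, 0, 0), (4, 0, 0), (4, 0, 0), (4, 0, 0), (0, 0, 78), (4, 0, 0), (1, 0, 40), (2, 6, 0), (2, 7, 0), (4, 0, 0), (0, 0, 102), (4, 0, 0), (4, 0, 0), (4, 0, 0)]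

/-- Part of `okTab1`. -/
def okTab11 : List (ℕ × ℕ × ℕ) :=
  [(1, 0, 55), (1, 0, 70), (0, 0, 96), (4, 0, 0), (4, 0, 0), (4, 0, 0), (4, 0, 0), (4, 0, 0), (4, 0, 0), (4, 0, 0), (4, 0, 0), (4, 0, 0), (4, 0, 0), (4, 0, 0), (4, 0, 0), (4, 0, 0), (4, 0, 0), (4, 0, 0), (4, 0, 0), (4, 0, 0), (4, 0, 0), (4, 0, 0), (4, 0, 0), (4, 0, 0), (4, 0, 0), (4, 0, 0), (4, 0, 0), (4, 0, 0), (4, 0, 0), (4, 0, 0), (4, 0, 0), (4, 0, 0), (4, 0, 0), (4, 0, 0), (4, 0, 0), (4, 0, 0), (4, 0, 0), (4, 0, 0), (4, 0, 0), (4, 0, 0), (4, 0, 0), (4, 0, 0), (4, 0, 0), (4, 0, 0), (4, 0, 0), (4, 0, 0), (4, 0, 0), (4, 0, 0), (4, 0, 0), (4, 0, 0), (4, 0, 0), (4, 0, 0), (4, 0, 0), (4, 0, 0), (4, 0, 0), (4, 0, 0), (4, 0, 0), (4, 0, 0), (4, 0, 0), (4, 0, 0), (4, 0, 0), (4, 0, 0), (4, 0, 0), (4, 0, 0), (4, 0, 0), (4, 0, 0), (4, 0, 0), (4, 0,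 0), (4, 0, 0), (4, 0, 0), (4, 0, 0), (4, 0, 0), (4, 0, 0), (4, 0, 0), (4, 0, 0), (4, 0, 0), (4, 0, 0), (4, 0, 0), (4, 0, 0), (4, 0, 0), (4, 0, 0), (4, 0, 0), (4, 0, 0), (4, 0, 0), (4, 0, 0), (4, 0, 0), (4, 0, 0), (4, 0, 0), (4, 0, 0), (4, 0, 0), (4, 0, 0), (4, 0, 0), (4, 0, 0), (4, 0, 0), (4, 0, 0), (4, 0, 0), (4, 0, 0), (4, 0, 0), (4, 0, 0)]

/-- Witnesses for the free involution. -/
def okTab1 : List (ℕ × ℕ × ℕ) := okTab10 ++ okTab11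

/-- Part of `resTab1`. -/
def resTab10 : List (List ℕ × List (Fin 24)) :=
  [([1, 2], [9, 6]), ([1, 2], [9, 6]), ([1, 2], [9, 6]), ([1, 2], [9, 6]), ([1, 2], [9, 6]), ([1, 2], [9, 6]), ([1, 2], [9, 6]), ([1, 2], [9, 6]), ([0, 1, 2], [9, 6]), ([0, 1, 2], [9, 6]), ([0, 1, 2], [9, 6]), ([0, 1, 2], [9, 6]), ([0, 1, 2], [9, 6]), ([0, 1, 2], [9, 6]), ([0, 1, 2], [9, 6]), ([0, 1, 2], [9, 6]), ([0, 1, 2], [13, 7, 6]), ([0, 1, 2], [13, 7, 6]), ([0, 1, 2], [13, 7, 6]), ([0, 1, 2], [13, 7, 6]), ([0, 1, 2], [13, 7, 6]), ([0, 1, 2], [13, 7, 6]), ([0, 1, 2], [13, 7, 6]), ([0, 1, 2], [13, 7, 6]), ([1, 2], [13, 7, 6]), ([1, 2], [13, 7, 6]), ([1, 2], [13, 7, 6]), ([1, 2], [13, 7, 6]), ([1, 2], [13, 7, 6]), ([1, 2], [13, 7, 6]), ([1, 2], [13, 7, 6]), ([1, 2], [13, 7, 6]), ([0, 1, 2], [17, 8, 7, 6]), ([0, 1, 2], [17,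 8, 7, 6]), ([0, 1, 2], [17, 8, 7, 6]), ([0, 1, 2], [17, 8, 7, 6]), ([0, 1, 2], [17, 8, 7, 6]), ([0, 1, 2], [17, 8, 7, 6]), ([0, 1, 2], [17, 8, 7, 6]), ([0, 1, 2], [17, 8, 7, 6]), ([1, 2], [17, 8, 7, 6]), ([1, 2], [17, 8, 7, 6]), ([1, 2], [17, 8, 7, 6]), ([1, 2], [17, 8, 7, 6]), ([1, 2], [17, 8, 7, 6]), ([1, 2], [17, 8, 7, 6]), ([1, 2], [17, 8, 7, 6]), ([1, 2], [17, 8, 7, 6]), ([1, 2], [14, 9]), ([1, 2], [14, 9]), ([1, 2], [14, 9]), ([1, 2], [14, 9]), ([1, 2], [14, 9]), ([1, 2], [14, 9]), ([1, 2], [14, 9]), ([1, 2], [14, 9]), ([0, 1, 2], [14, 9]), ([0, 1, 2], [14, 9]), ([0, 1, 2], [14, 9]), ([0, 1, 2], [14, 9]), ([0, 1, 2], [14, 9]), ([0, 1, 2], [14, 9]), ([0, 1, 2], [14, 9]), ([0, 1, 2], [14, 9])]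

/-- Part of `resTab1`. -/
def resTab11 : List (List ℕ × List (Fin 24)) :=
  [([0, 1, 2], [9, 6]), ([0, 1, 2], [9, 6]), ([0, 1, 2], [9, 6]), ([0, 1, 2], [9, 6]), ([0, 1, 2], [9, 6]), ([0, 1, 2], [9, 6]), ([0, 1, 2], [9, 6]), ([0, 1, 2], [9, 6]), ([1, 2], [9, 6]), ([1, 2], [9, 6]), ([1, 2], [9, 6]), ([1, 2], [9, 6]), ([1, 2], [9, 6]), ([1, 2], [9, 6]), ([1, 2], [9, 6]), ([1, 2], [9, 6]), ([1, 2], [13, 7, 6]), ([1, 2], [13, 7, 6]), ([1, 2], [13, 7, 6]), ([1, 2], [13, 7, 6]), ([1, 2], [13, 7, 6]), ([1, 2], [13, 7, 6]), ([1, 2], [13, 7, 6]), ([1, 2], [13, 7, 6]), ([0, 1, 2], [13, 7, 6]), ([0, 1, 2], [13, 7, 6]), ([0, 1, 2], [13, 7, 6]), ([0, 1, 2], [13, 7, 6]), ([0, 1, 2], [13, 7, 6]), ([0, 1, 2], [13, 7, 6]), ([0, 1, 2], [13, 7, 6]), ([0, 1, 2], [13, 7, 6]), ([1, 2], [17, 8, 7, 6]), ([1, 2], [17, 8,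 7, 6]), ([1, 2], [17, 8, 7, 6]), ([1, 2], [17, 8, 7, 6]), ([1, 2], [17, 8, 7, 6]), ([1, 2], [17, 8, 7, 6]), ([1, 2], [17, 8, 7, 6]), ([1, 2], [17, 8, 7, 6]), ([0, 1, 2], [17, 8, 7, 6]), ([0, 1, 2], [17, 8, 7, 6]), ([0, 1, 2], [17, 8, 7, 6]), ([0, 1, 2], [17, 8, 7, 6]), ([0, 1, 2], [17, 8, 7, 6]), ([0, 1, 2], [17, 8, 7, 6]), ([0, 1, 2], [17, 8, 7, 6]), ([0, 1, 2], [17, 8, 7, 6]), ([0, 1, 2], [14, 9]), ([0, 1, 2], [14, 9]), ([0, 1, 2], [14, 9]), ([0, 1, 2], [14, 9]), ([0, 1, 2], [14, 9]), ([0, 1, 2], [14, 9]), ([0, 1, 2], [14, 9]), ([0, 1, 2], [14, 9]), ([1, 2], [14, 9]), ([1, 2], [14, 9]), ([1, 2], [14, 9]), ([1, 2], [14, 9]), ([1, 2], [14, 9]), ([1, 2], [14, 9]), ([1, 2], [14, 9]), ([1, 2], [14, 9])]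

/-- Part of `resTab1`. -/
def resTab12 : List (List ℕ × List (Fin 24)) :=
  [([0, 1, 2], [8, 7, 6]), ([0, 1, 2], [8, 7, 6]), ([0, 1, 2], [8, 7, 6]), ([0, 1, 2], [8, 7, 6]), ([0, 1, 2], [8, 7, 6]), ([0, 1, 2], [8, 7, 6]), ([0, 1, 2], [8, 7, 6]), ([0, 1, 2], [8, 7, 6]), ([1, 2], [8, 7, 6]), ([1, 2], [8, 7, 6]), ([1, 2], [8, 7, 6]), ([1, 2], [8, 7, 6]), ([1, 2], [8, 7, 6]), ([1, 2], [8, 7, 6]), ([1, 2], [8, 7, 6]), ([1, 2], [8, 7, 6]), ([1, 2], [6]), ([1, 2], [6]), ([1, 2], [6]), ([1, 2], [6]), ([1, 2], [6]), ([1, 2], [6]), ([1, 2], [6]), ([1, 2], [6]), ([0, 1, 2], [6]), ([0, 1, 2], [6]), ([0, 1, 2], [6]), ([0, 1, 2], [6]), ([0, 1, 2], [6]), ([0, 1, 2], [6]), ([0, 1, 2], [6]), ([0, 1, 2], [6]), ([1, 2], [17, 9, 6]), ([1, 2], [17, 9, 6]), ([1, 2], [17, 9, 6]), ([1, 2], [17, 9, 6]), ([1, 2], [17, 9, 6]),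 ([1, 2], [17, 9, 6]), ([1, 2], [17, 9, 6]), ([1, 2], [17, 9, 6]), ([0, 1, 2], [17, 9, 6]), ([0, 1, 2], [17, 9, 6]), ([0, 1, 2], [17, 9, 6]), ([0, 1, 2], [17, 9, 6]), ([0, 1, 2], [17, 9, 6]), ([0, 1, 2], [17, 9, 6]), ([0, 1, 2], [17, 9, 6]), ([0, 1, 2], [17, 9, 6]), ([0, 1, 3], [14, 13, 7, 6]), ([1, 3], [14, 13, 7, 6]), ([1, 3], [8, 7, 6]), ([0, 1, 3], [8, 7, 6]), ([1, 3], [14, 9]), ([0, 1, 3], [14, 9]), ([0, 1, 3], [17, 9, 6]), ([1, 3], [17, 9, 6]), ([2, 3], [14, 13, 7, 6]), ([1, 3], [14, 13, 7, 6]), ([1, 3], [8, 7, 6]), ([2, 3], [8, 7, 6]), ([1, 3], [14, 9]), ([2, 3], [14, 9]), ([2, 3], [17, 9, 6]), ([1, 3], [17, 9, 6])]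

/-- Part of `resTab1`. -/
def resTab13 : List (List ℕ × List (Fin 24)) :=
  [([1, 2], [8, 7, 6]), ([1, 2], [8, 7, 6]), ([1, 2], [8, 7, 6]), ([1, 2], [8, 7, 6]), ([1, 2], [8, 7, 6]), ([1, 2], [8, 7, 6]), ([1, 2], [8, 7, 6]), ([1, 2], [8, 7, 6]), ([0, 1, 2], [8, 7, 6]), ([0, 1, 2], [8, 7, 6]), ([0, 1, 2], [8, 7, 6]), ([0, 1, 2], [8, 7, 6]), ([0, 1, 2], [8, 7, 6]), ([0, 1, 2], [8, 7, 6]), ([0, 1, 2], [8, 7, 6]), ([0, 1, 2], [8, 7, 6]), ([0, 1, 2], [6]), ([0, 1, 2], [6]), ([0, 1, 2], [6]), ([0, 1, 2], [6]), ([0, 1, 2], [6]), ([0, 1, 2], [6]), ([0, 1, 2], [6]), ([0, 1, 2], [6]), ([1, 2], [6]), ([1, 2], [6]), ([1, 2], [6]), ([1, 2], [6]), ([1, 2], [6]), ([1, 2], [6]), ([1, 2], [6]), ([1, 2], [6]), ([0, 1, 2], [17, 9, 6]), ([0, 1, 2], [17, 9, 6]), ([0, 1, 2], [17, 9, 6]), ([0, 1, 2], [17, 9, 6]), ([0, 1,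 2], [17, 9, 6]), ([0, 1, 2], [17, 9, 6]), ([0, 1, 2], [17, 9, 6]), ([0, 1, 2], [17, 9, 6]), ([1, 2], [17, 9, 6]), ([1, 2], [17, 9, 6]), ([1, 2], [17, 9, 6]), ([1, 2], [17, 9, 6]), ([1, 2], [17, 9, 6]), ([1, 2], [17, 9, 6]), ([1, 2], [17, 9, 6]), ([1, 2], [17, 9, 6]), ([1, 3], [14, 13, 7, 6]), ([2, 3], [14, 13, 7, 6]), ([2, 3], [8, 7, 6]), ([1, 3], [8, 7, 6]), ([2, 3], [14, 9]), ([1, 3], [14, 9]), ([1, 3], [17, 9, 6]), ([2, 3], [17, 9, 6]), ([1, 3], [14, 13, 7, 6]), ([0, 1, 3], [14, 13, 7, 6]), ([0, 1, 3], [8, 7, 6]), ([1, 3], [8, 7, 6]), ([0, 1, 3], [14, 9]), ([1, 3], [14, 9]), ([1, 3], [17, 9, 6]), ([0, 1, 3], [17, 9, 6])]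

/-- Part of `resTab1`. -/
def resTab14 : List (List ℕ × List (Fin 24)) :=
  [([0, 1, 2], [9, 8, 7]), ([0, 1, 2], [9, 8, 7]), ([0, 1, 2], [9, 8, 7]), ([0, 1, 2], [9, 8, 7]), ([0, 1, 2], [9, 8, 7]), ([0, 1, 2], [9, 8, 7]), ([0, 1, 2], [9, 8, 7]), ([0, 1, 2], [9, 8, 7]), ([1, 2], [9, 8, 7]), ([1, 2], [9, 8, 7]), ([1, 2], [9, 8, 7]), ([1, 2], [9, 8, 7]), ([1, 2], [9, 8, 7]), ([1, 2], [9, 8, 7]), ([1, 2], [9, 8, 7]), ([1, 2], [9, 8, 7]), ([1, 2], [9]), ([1, 2], [9]), ([1, 2], [9]), ([1, 2], [9]), ([1, 2], [9]), ([1, 2], [9]), ([1, 2], [9]), ([1, 2], [9]), ([0, 1, 2], [9]), ([0, 1, 2], [9]), ([0, 1, 2], [9]), ([0, 1, 2], [9]), ([0, 1, 2], [9]), ([0, 1, 2], [9]), ([0, 1, 2], [9]), ([0, 1, 2], [9]), ([1, 2], [14, 9, 6]), ([1, 2], [14, 9, 6]), ([1, 2], [14, 9, 6]), ([1, 2], [14, 9, 6]), ([1, 2], [14, 9, 6]),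 ([1, 2], [14, 9, 6]), ([1, 2], [14, 9, 6]), ([1, 2], [14, 9, 6]), ([0, 1, 2], [14, 9, 6]), ([0, 1, 2], [14, 9, 6]), ([0, 1, 2], [14, 9, 6]), ([0, 1, 2], [14, 9, 6]), ([0, 1, 2], [14, 9, 6]), ([0, 1, 2], [14, 9, 6]), ([0, 1, 2], [14, 9, 6]), ([0, 1, 2], [14, 9, 6]), ([0, 1, 2], [14, 13, 7, 6]), ([0, 1, 2], [14, 13, 7, 6]), ([0, 1, 2], [14, 13, 7, 6]), ([0, 1, 2], [14, 13, 7, 6]), ([0, 1, 2], [14, 13, 7, 6]), ([0, 1, 2], [14, 13, 7, 6]), ([0, 1, 2], [14, 13, 7, 6]), ([0, 1, 2], [14, 13, 7, 6]), ([1, 2], [14, 13, 7, 6]), ([1, 2], [14, 13, 7, 6]), ([1, 2], [14, 13, 7, 6]), ([1, 2], [14, 13, 7, 6]), ([1, 2], [14, 13, 7, 6]), ([1, 2], [14, 13, 7, 6]), ([1, 2], [14, 13, 7, 6]), ([1, 2], [14, 13, 7, 6])]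

/-- Part of `resTab1`. -/
def resTab15 : List (List ℕ × List (Fin 24)) :=
  [([1, 2], [9, 8, 7]), ([1, 2], [9, 8, 7]), ([1, 2], [9, 8, 7]), ([1, 2], [9, 8, 7]), ([1, 2], [9, 8, 7]), ([1, 2], [9, 8, 7]), ([1, 2], [9, 8, 7]), ([1, 2], [9, 8, 7]), ([0, 1, 2], [9, 8, 7]), ([0, 1, 2], [9, 8, 7]), ([0, 1, 2], [9, 8, 7]), ([0, 1, 2], [9, 8, 7]), ([0, 1, 2], [9, 8, 7]), ([0, 1, 2], [9, 8, 7]), ([0, 1, 2], [9, 8, 7]), ([0, 1, 2], [9, 8, 7]), ([0, 1, 2], [9]), ([0, 1, 2], [9]), ([0, 1, 2], [9]), ([0, 1, 2], [9]), ([0, 1, 2], [9]), ([0, 1, 2], [9]), ([0, 1, 2], [9]), ([0, 1, 2], [9]), ([1, 2], [9]), ([1, 2], [9]), ([1, 2], [9]), ([1, 2], [9]), ([1, 2], [9]), ([1, 2], [9]), ([1, 2], [9]), ([1, 2], [9]), ([0, 1, 2], [14, 9, 6]), ([0, 1, 2], [14, 9, 6]), ([0, 1, 2], [14, 9, 6]), ([0, 1, 2], [14, 9, 6]), ([0, 1,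 2], [14, 9, 6]), ([0, 1, 2], [14, 9, 6]), ([0, 1, 2], [14, 9, 6]), ([0, 1, 2], [14, 9, 6]), ([1, 2], [14, 9, 6]), ([1, 2], [14, 9, 6]), ([1, 2], [14, 9, 6]), ([1, 2], [14, 9, 6]), ([1, 2], [14, 9, 6]), ([1, 2], [14, 9, 6]), ([1, 2], [14, 9, 6]), ([1, 2], [14, 9, 6]), ([1, 2], [14, 13, 7, 6]), ([1, 2], [14, 13, 7, 6]), ([1, 2], [14, 13, 7, 6]), ([1, 2], [14, 13, 7, 6]), ([1, 2], [14, 13, 7, 6]), ([1, 2], [14, 13, 7, 6]), ([1, 2], [14, 13, 7, 6]), ([1, 2], [14, 13, 7, 6]), ([0, 1, 2], [14, 13, 7, 6]), ([0, 1, 2], [14, 13, 7, 6]), ([0, 1, 2], [14, 13, 7, 6]), ([0, 1, 2], [14, 13, 7, 6]), ([0, 1, 2], [14, 13, 7, 6]), ([0, 1, 2], [14, 13, 7, 6]), ([0, 1, 2], [14, 13, 7, 6]), ([0, 1, 2], [14, 13, 7, 6])]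

/-- Part of `resTab1`. -/
def resTab16 : List (List ℕ × List (Fin 24)) :=
  [([1, 2], [17, 14, 9, 6]), ([1, 2], [17, 14, 9, 6]), ([1, 2], [17, 14, 9, 6]), ([1, 2], [17, 14, 9, 6]), ([1, 2], [17, 14, 9, 6]), ([1, 2], [17, 14, 9, 6]), ([1, 2], [17, 14, 9, 6]), ([1, 2], [17, 14, 9, 6]), ([0, 1, 2], [17, 14, 9, 6]), ([0, 1, 2], [17, 14, 9, 6]), ([0, 1, 2], [17, 14, 9, 6]), ([0, 1, 2], [17, 14, 9, 6]), ([0, 1, 2], [17, 14, 9, 6]), ([0, 1, 2], [17, 14, 9, 6]), ([0, 1, 2], [17, 14, 9, 6]), ([0, 1, 2], [17, 14, 9, 6]), ([1, 3], [9]), ([0, 1, 3], [9]), ([0, 1, 3], [17, 14, 9, 6]), ([1, 3], [17, 14, 9, 6]), ([0, 1, 3], [13, 7, 6]), ([1, 3], [13, 7, 6]), ([1, 3], [8, 7]), ([0, 1, 3], [8, 7]), ([1, 3], [9]), ([2, 3], [9]), ([2, 3], [17, 14, 9, 6]), ([1, 3], [17, 14, 9, 6]), ([2, 3], [13, 7, 6]), ([1, 3], [13,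 7, 6]), ([1, 3], [8, 7]), ([2, 3], [8, 7]), ([0, 1, 2], [8, 7]), ([0, 1, 2], [8, 7]), ([0, 1, 2], [8, 7]), ([0, 1, 2], [8, 7]), ([0, 1, 2], [8, 7]), ([0, 1, 2], [8, 7]), ([0, 1, 2], [8, 7]), ([0, 1, 2], [8, 7]), ([1, 2], [8, 7]), ([1, 2], [8, 7]), ([1, 2], [8, 7]), ([1, 2], [8, 7]), ([1, 2], [8, 7]), ([1, 2], [8, 7]), ([1, 2], [8, 7]), ([1, 2], [8, 7]), ([1, 2], [6]), ([1, 2], [6]), ([1, 2], [6]), ([1, 2], [6]), ([1, 2], [6]), ([1, 2], [6]), ([1, 2], [6]), ([1, 2], [6]), ([0, 1, 2], [6]), ([0, 1, 2], [6]), ([0, 1, 2], [6]), ([0, 1, 2], [6]), ([0, 1, 2], [6]), ([0, 1, 2], [6]), ([0, 1, 2], [6]), ([0, 1, 2], [6])]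

/-- Part of `resTab1`. -/
def resTab17 : List (List ℕ × List (Fin 24)) :=
  [([0, 1, 2], [17, 14, 9, 6]), ([0, 1, 2], [17, 14, 9, 6]), ([0, 1, 2], [17, 14, 9, 6]), ([0, 1, 2], [17, 14, 9, 6]), ([0, 1, 2], [17, 14, 9, 6]), ([0, 1, 2], [17, 14, 9, 6]), ([0, 1, 2], [17, 14, 9, 6]), ([0, 1, 2], [17, 14, 9, 6]), ([1, 2], [17, 14, 9, 6]), ([1, 2], [17, 14, 9, 6]), ([1, 2], [17, 14, 9, 6]), ([1, 2], [17, 14, 9, 6]), ([1, 2], [17, 14, 9, 6]), ([1, 2], [17, 14, 9, 6]), ([1, 2], [17, 14, 9, 6]), ([1, 2], [17, 14, 9, 6]), ([2, 3], [9]), ([1, 3], [9]), ([1, 3], [17, 14, 9, 6]), ([2, 3], [17, 14, 9, 6]), ([1, 3], [13, 7, 6]), ([2, 3], [13, 7, 6]), ([2, 3], [8, 7]), ([1, 3], [8, 7]), ([0, 1, 3], [9]), ([1, 3], [9]), ([1, 3], [17, 14, 9, 6]), ([0, 1, 3], [17, 14, 9, 6]), ([1, 3], [13, 7, 6]), ([0, 1, 3], [13, 7,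 6]), ([0, 1, 3], [8, 7]), ([1, 3], [8, 7]), ([1, 2], [8, 7]), ([1, 2], [8, 7]), ([1, 2], [8, 7]), ([1, 2], [8, 7]), ([1, 2], [8, 7]), ([1, 2], [8, 7]), ([1, 2], [8, 7]), ([1, 2], [8, 7]), ([0, 1, 2], [8, 7]), ([0, 1, 2], [8, 7]), ([0, 1, 2], [8, 7]), ([0, 1, 2], [8, 7]), ([0, 1, 2], [8, 7]), ([0, 1, 2], [8, 7]), ([0, 1, 2], [8, 7]), ([0, 1, 2], [8, 7]), ([0, 1, 2], [6]), ([0, 1, 2], [6]), ([0, 1, 2], [6]), ([0, 1, 2], [6]), ([0, 1, 2], [6]), ([0, 1, 2], [6]), ([0, 1, 2], [6]), ([0, 1, 2], [6]), ([1, 2], [6]), ([1, 2], [6]), ([1, 2], [6]), ([1, 2], [6]), ([1, 2], [6]), ([1, 2], [6]), ([1, 2], [6]), ([1, 2], [6])]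

/-- Root elements forced by three special involutions. -/
def resTab1 : List (List ℕ × List (Fin 24)) := resTab10 ++ resTab11 ++ resTab12 ++ resTab13 ++ resTab14 ++ resTab15 ++ resTab16 ++ resTab17

/-- Part of `okTab2`. -/
def okTab20 : List (ℕ × ℕ × ℕ) :=
  [(3, 0, 0), (0, 0, 2), (0, 0, 1), (0, 0, 6), (0, 0, 7), (0, 0, 8), (0, 0, 3), (0, 0, 4), (0, 0, 5), (0, 0, 15), (4, 0, 0), (0, 0, 17), (0, 0, 18), (4, 0, 0), (0, 0, 20), (0, 0, 9), (4, 0, 0), (0, 0, 11), (0, 0, 12), (4, 0, 0), (0, 0, 14), (4, 0, 0), (0, 0, 32), (4, 0, 0), (4, 0, 0), (0, 0, 35), (0, 0, 36), (1, 0, 75), (4, 0, 0), (4, 0, 0), (4, 0, 0), (4, 0, 0), (0, 0, 22), (4, 0, 0), (4, 0, 0), (0, 0, 25), (0, 0, 26), (1, 0, 87), (4, 0, 0), (4, 0, 0), (4, 0, 0), (4, 0, 0), (4, 0, 0), (4, 0, 0), (0, 0, 59), (2, 0, 0), (4, 0, 0), (0, 0, 62), (4,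 0, 0), (4, 0, 0), (2, 1, 0), (1, 0, 98), (4, 0, 0), (4, 0, 0), (4, 0, 0), (4, 0, 0), (4, 0, 0), (4, 0, 0), (4, 0, 0), (0, 0, 44), (2, 2, 0), (4, 0, 0), (0, 0, 47), (4, 0, 0), (4, 0, 0), (2, 3, 0), (1, 0, 99), (4, 0, 0), (4, 0, 0), (4, 0, 0), (4, 0, 0), (4, 0, 0), (4, 0, 0), (4, 0, 0), (0, 0, 86), (1, 0, 27), (2, 4, 0), (4, 0, 0), (4, 0, 0), (2, 5, 0), (4, 0, 0), (4, 0, 0), (4, 0, 0), (4, 0, 0), (4, 0, 0), (4, 0, 0), (0, 0, 74), (1, 0, 37), (2, 6, 0), (4, 0, 0), (4, 0, 0), (2, 7, 0), (4, 0, 0), (4, 0, 0), (4, 0, 0), (4, 0, 0), (0, 0, 102), (4, 0, 0), (1, 0, 51), (1, 0, 66)]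

/-- Part of `okTab2`. -/
def okTab21 : List (ℕ × ℕ × ℕ) :=
  [(4, 0, 0), (4, 0, 0), (0, 0, 96), (4, 0, 0), (4, 0, 0), (4, 0, 0), (4, 0, 0), (4, 0, 0), (4, 0, 0), (4, 0, 0), (4, 0, 0), (4, 0, 0), (4, 0, 0), (4, 0, 0), (4, 0, 0), (4, 0, 0), (4, 0, 0), (4, 0, 0), (4, 0, 0), (4, 0, 0), (4, 0, 0), (4, 0, 0), (4, 0, 0), (4, 0, 0), (4, 0, 0), (4, 0, 0), (4, 0, 0), (4, 0, 0), (4, 0, 0), (4, 0, 0), (4, 0, 0), (4, 0, 0), (4, 0, 0), (4, 0, 0), (4, 0, 0), (4, 0, 0), (4, 0, 0), (4, 0, 0), (4, 0, 0), (4, 0, 0), (4, 0, 0), (4, 0, 0), (4, 0, 0), (4, 0, 0), (4, 0, 0), (4, 0, 0), (4, 0, 0), (4, 0, 0), (4, 0, 0), (4, 0, 0), (4, 0, 0), (4, 0, 0), (4, 0, 0), (4, 0, 0), (4, 0, 0), (4, 0, 0), (4, 0, 0), (4, 0, 0), (4, 0, 0), (4, 0, 0), (4, 0, 0), (4, 0, 0), (4, 0, 0), (4, 0, 0), (4, 0, 0), (4, 0, 0), (4, 0, 0), (4, 0,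 0), (4, 0, 0), (4, 0, 0), (4, 0, 0), (4, 0, 0), (4, 0, 0), (4, 0, 0), (4, 0, 0), (4, 0, 0), (4, 0, 0), (4, 0, 0), (4, 0, 0), (4, 0, 0), (4, 0, 0), (4, 0, 0), (4, 0, 0), (4, 0, 0), (4, 0, 0), (4, 0, 0), (4, 0, 0), (4, 0, 0), (4, 0, 0), (4, 0, 0), (4, 0, 0), (4, 0, 0), (4, 0, 0), (4, 0, 0), (4, 0, 0), (4, 0, 0), (4, 0, 0), (4, 0, 0), (4, 0, 0)]

/-- Witnesses for the free involution. -/
def okTab2 : List (ℕ × ℕ × ℕ) := okTab20 ++ okTab21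

/-- Part of `resTab2`. -/
def resTab20 : List (List ℕ × List (Fin 24)) :=
  [([1, 2], [20, 8, 4, 3]), ([1, 2], [20, 8, 4, 3]), ([1, 2], [20, 8, 4, 3]), ([1, 2], [20, 8, 4, 3]), ([1, 2], [20, 8, 4, 3]), ([1, 2], [20, 8, 4, 3]), ([1, 2], [20, 8, 4, 3]), ([1, 2], [20, 8, 4, 3]), ([0, 1, 2], [20, 8, 4, 3]), ([0, 1, 2], [20, 8, 4, 3]), ([0, 1, 2], [20, 8, 4, 3]), ([0, 1, 2], [20, 8, 4, 3]), ([0, 1, 2], [20, 8, 4, 3]), ([0, 1, 2], [20, 8, 4, 3]), ([0, 1, 2], [20, 8, 4, 3]), ([0, 1, 2], [20, 8, 4, 3]), ([0, 1, 2], [9, 3]), ([0, 1, 2], [9, 3]), ([0, 1, 2], [9, 3]), ([0, 1, 2], [9, 3]), ([0, 1, 2], [9, 3]), ([0, 1, 2], [9, 3]), ([0, 1, 2], [9, 3]), ([0, 1, 2], [9, 3]), ([1, 2], [9, 3]), ([1, 2], [9, 3]), ([1, 2], [9, 3]), ([1, 2], [9, 3]), ([1, 2], [9, 3]), ([1, 2], [9, 3]), ([1, 2], [9, 3]), ([1, 2], [9,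 3]), ([0, 1, 2], [18, 4, 3]), ([0, 1, 2], [18, 4, 3]), ([0, 1, 2], [18, 4, 3]), ([0, 1, 2], [18, 4, 3]), ([0, 1, 2], [18, 4, 3]), ([0, 1, 2], [18, 4, 3]), ([0, 1, 2], [18, 4, 3]), ([0, 1, 2], [18, 4, 3]), ([1, 2], [18, 4, 3]), ([1, 2], [18, 4, 3]), ([1, 2], [18, 4, 3]), ([1, 2], [18, 4, 3]), ([1, 2], [18, 4, 3]), ([1, 2], [18, 4, 3]), ([1, 2], [18, 4, 3]), ([1, 2], [18, 4, 3]), ([1, 2], [20, 3]), ([1, 2], [20, 3]), ([1, 2], [20, 3]), ([1, 2], [20, 3]), ([1, 2], [20, 3]), ([1, 2], [20, 3]), ([1, 2], [20, 3]), ([1, 2], [20, 3]), ([0, 1, 2], [20, 3]), ([0, 1, 2], [20, 3]), ([0, 1, 2], [20, 3]), ([0, 1, 2], [20, 3]), ([0, 1, 2], [20, 3]), ([0, 1, 2], [20, 3]), ([0, 1, 2], [20, 3]), ([0, 1, 2], [20, 3])]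

/-- Part of `resTab2`. -/
def resTab21 : List (List ℕ × List (Fin 24)) :=
  [([0, 1, 2], [20, 8, 4, 3]), ([0, 1, 2], [20, 8, 4, 3]), ([0, 1, 2], [20, 8, 4, 3]), ([0, 1, 2], [20, 8, 4, 3]), ([0, 1, 2], [20, 8, 4, 3]), ([0, 1, 2], [20, 8, 4, 3]), ([0, 1, 2], [20, 8, 4, 3]), ([0, 1, 2], [20, 8, 4, 3]), ([1, 2], [20, 8, 4, 3]), ([1, 2], [20, 8, 4, 3]), ([1, 2], [20, 8, 4, 3]), ([1, 2], [20, 8, 4, 3]), ([1, 2], [20, 8, 4, 3]), ([1, 2], [20, 8, 4, 3]), ([1, 2], [20, 8, 4, 3]), ([1, 2], [20, 8, 4, 3]), ([1, 2], [9, 3]), ([1, 2], [9, 3]), ([1, 2], [9, 3]), ([1, 2], [9, 3]), ([1, 2], [9, 3]), ([1, 2], [9, 3]), ([1, 2], [9, 3]), ([1, 2], [9, 3]), ([0, 1, 2], [9, 3]), ([0, 1, 2], [9, 3]), ([0, 1, 2], [9, 3]), ([0, 1, 2], [9, 3]), ([0, 1, 2], [9, 3]), ([0, 1, 2], [9, 3]), ([0, 1, 2], [9, 3]), ([0, 1, 2], [9,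 3]), ([1, 2], [18, 4, 3]), ([1, 2], [18, 4, 3]), ([1, 2], [18, 4, 3]), ([1, 2], [18, 4, 3]), ([1, 2], [18, 4, 3]), ([1, 2], [18, 4, 3]), ([1, 2], [18, 4, 3]), ([1, 2], [18, 4, 3]), ([0, 1, 2], [18, 4, 3]), ([0, 1, 2], [18, 4, 3]), ([0, 1, 2], [18, 4, 3]), ([0, 1, 2], [18, 4, 3]), ([0, 1, 2], [18, 4, 3]), ([0, 1, 2], [18, 4, 3]), ([0, 1, 2], [18, 4, 3]), ([0, 1, 2], [18, 4, 3]), ([0, 1, 2], [20, 3]), ([0, 1, 2], [20, 3]), ([0, 1, 2], [20, 3]), ([0, 1, 2], [20, 3]), ([0, 1, 2], [20, 3]), ([0, 1, 2], [20, 3]), ([0, 1, 2], [20, 3]), ([0, 1, 2], [20, 3]), ([1, 2], [20, 3]), ([1, 2], [20, 3]), ([1, 2], [20, 3]), ([1, 2], [20, 3]), ([1, 2], [20, 3]), ([1, 2], [20, 3]), ([1, 2], [20, 3]), ([1, 2], [20, 3])]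

/-- Part of `resTab2`. -/
def resTab22 : List (List ℕ × List (Fin 24)) :=
  [([0, 1, 2], [20, 9, 3]), ([0, 1, 2], [20, 9, 3]), ([0, 1, 2], [20, 9, 3]), ([0, 1, 2], [20, 9, 3]), ([0, 1, 2], [20, 9, 3]), ([0, 1, 2], [20, 9, 3]), ([0, 1, 2], [20, 9, 3]), ([0, 1, 2], [20, 9, 3]), ([1, 2], [20, 9, 3]), ([1, 2], [20, 9, 3]), ([1, 2], [20, 9, 3]), ([1, 2], [20, 9, 3]), ([1, 2], [20, 9, 3]), ([1, 2], [20, 9, 3]), ([1, 2], [20, 9, 3]), ([1, 2], [20, 9, 3]), ([1, 2], [8, 4, 3]), ([1, 2], [8, 4, 3]), ([1, 2], [8, 4, 3]), ([1, 2], [8, 4, 3]), ([1, 2], [8, 4, 3]), ([1, 2], [8, 4, 3]), ([1, 2], [8, 4, 3]), ([1, 2], [8, 4, 3]), ([0, 1, 2], [8, 4, 3]), ([0, 1, 2], [8, 4, 3]), ([0, 1, 2], [8, 4, 3]), ([0, 1, 2], [8, 4, 3]), ([0, 1, 2], [8, 4, 3]), ([0, 1, 2], [8, 4, 3]), ([0, 1, 2], [8, 4, 3]), ([0, 1, 2], [8, 4,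 3]), ([1, 2], [3]), ([1, 2], [3]), ([1, 2], [3]), ([1, 2], [3]), ([1, 2], [3]), ([1, 2], [3]), ([1, 2], [3]), ([1, 2], [3]), ([0, 1, 2], [3]), ([0, 1, 2], [3]), ([0, 1, 2], [3]), ([0, 1, 2], [3]), ([0, 1, 2], [3]), ([0, 1, 2], [3]), ([0, 1, 2], [3]), ([0, 1, 2], [3]), ([0, 1, 2], [14, 18, 4, 3]), ([0, 1, 2], [14, 18, 4, 3]), ([0, 1, 2], [14, 18, 4, 3]), ([0, 1, 2], [14, 18, 4, 3]), ([0, 1, 2], [14, 18, 4, 3]), ([0, 1, 2], [14, 18, 4, 3]), ([0, 1, 2], [14, 18, 4, 3]), ([0, 1, 2], [14, 18, 4, 3]), ([1, 2], [14, 18, 4, 3]), ([1, 2], [14, 18, 4, 3]), ([1, 2], [14, 18, 4, 3]), ([1, 2], [14, 18, 4, 3]), ([1, 2], [14, 18, 4, 3]), ([1, 2], [14, 18, 4, 3]), ([1, 2], [14, 18, 4, 3]), ([1, 2], [14, 18, 4, 3])]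

/-- Part of `resTab2`. -/
def resTab23 : List (List ℕ × List (Fin 24)) :=
  [([1, 2], [20, 9, 3]), ([1, 2], [20, 9, 3]), ([1, 2], [20, 9, 3]), ([1, 2], [20, 9, 3]), ([1, 2], [20, 9, 3]), ([1, 2], [20, 9, 3]), ([1, 2], [20, 9, 3]), ([1, 2], [20, 9, 3]), ([0, 1, 2], [20, 9, 3]), ([0, 1, 2], [20, 9, 3]), ([0, 1, 2], [20, 9, 3]), ([0, 1, 2], [20, 9, 3]), ([0, 1, 2], [20, 9, 3]), ([0, 1, 2], [20, 9, 3]), ([0, 1, 2], [20, 9, 3]), ([0, 1, 2], [20, 9, 3]), ([0, 1, 2], [8, 4, 3]), ([0, 1, 2], [8, 4, 3]), ([0, 1, 2], [8, 4, 3]), ([0, 1, 2], [8, 4, 3]), ([0, 1, 2], [8, 4, 3]), ([0, 1, 2], [8, 4, 3]), ([0, 1, 2], [8, 4, 3]), ([0, 1, 2], [8, 4, 3]), ([1, 2], [8, 4, 3]), ([1, 2], [8, 4, 3]), ([1, 2], [8, 4, 3]), ([1, 2], [8, 4, 3]), ([1, 2], [8, 4, 3]), ([1, 2], [8, 4, 3]), ([1, 2], [8, 4, 3]), ([1, 2], [8, 4,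 3]), ([0, 1, 2], [3]), ([0, 1, 2], [3]), ([0, 1, 2], [3]), ([0, 1, 2], [3]), ([0, 1, 2], [3]), ([0, 1, 2], [3]), ([0, 1, 2], [3]), ([0, 1, 2], [3]), ([1, 2], [3]), ([1, 2], [3]), ([1, 2], [3]), ([1, 2], [3]), ([1, 2], [3]), ([1, 2], [3]), ([1, 2], [3]), ([1, 2], [3]), ([1, 2], [14, 18, 4, 3]), ([1, 2], [14, 18, 4, 3]), ([1, 2], [14, 18, 4, 3]), ([1, 2], [14, 18, 4, 3]), ([1, 2], [14, 18, 4, 3]), ([1, 2], [14, 18, 4, 3]), ([1, 2], [14, 18, 4, 3]), ([1, 2], [14, 18, 4, 3]), ([0, 1, 2], [14, 18, 4, 3]), ([0, 1, 2], [14, 18, 4, 3]), ([0, 1, 2], [14, 18, 4, 3]), ([0, 1, 2], [14, 18, 4, 3]), ([0, 1, 2], [14, 18, 4, 3]), ([0, 1, 2], [14, 18, 4, 3]), ([0, 1, 2], [14, 18, 4, 3]), ([0, 1, 2], [14, 18, 4, 3])]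

/-- Part of `resTab2`. -/
def resTab24 : List (List ℕ × List (Fin 24)) :=
  [([0, 1, 2], [14, 9, 3]), ([0, 1, 2], [14, 9, 3]), ([0, 1, 2], [14, 9, 3]), ([0, 1, 2], [14, 9, 3]), ([0, 1, 2], [14, 9, 3]), ([0, 1, 2], [14, 9, 3]), ([0, 1, 2], [14, 9, 3]), ([0, 1, 2], [14, 9, 3]), ([1, 2], [14, 9, 3]), ([1, 2], [14, 9, 3]), ([1, 2], [14, 9, 3]), ([1, 2], [14, 9, 3]), ([1, 2], [14, 9, 3]), ([1, 2], [14, 9, 3]), ([1, 2], [14, 9, 3]), ([1, 2], [14, 9, 3]), ([1, 2], [9, 8, 4]), ([1, 2], [9, 8, 4]), ([1, 2], [9, 8, 4]), ([1, 2], [9, 8, 4]), ([1, 2], [9, 8, 4]), ([1, 2], [9, 8, 4]), ([1, 2], [9, 8, 4]), ([1, 2], [9, 8, 4]), ([0, 1, 2], [9, 8, 4]), ([0, 1, 2], [9, 8, 4]), ([0, 1, 2], [9, 8, 4]), ([0, 1, 2], [9, 8, 4]), ([0, 1, 2], [9, 8, 4]), ([0, 1, 2], [9, 8, 4]), ([0, 1, 2], [9, 8, 4]), ([0, 1, 2], [9, 8,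 4]), ([1, 2], [9]), ([1, 2], [9]), ([1, 2], [9]), ([1, 2], [9]), ([1, 2], [9]), ([1, 2], [9]), ([1, 2], [9]), ([1, 2], [9]), ([0, 1, 2], [9]), ([0, 1, 2], [9]), ([0, 1, 2], [9]), ([0, 1, 2], [9]), ([0, 1, 2], [9]), ([0, 1, 2], [9]), ([0, 1, 2], [9]), ([0, 1, 2], [9]), ([0, 1, 3], [14, 18, 4, 3]), ([1, 3], [14, 18, 4, 3]), ([1, 3], [20, 3]), ([0, 1, 3], [20, 3]), ([1, 3], [14, 9, 3]), ([0, 1, 3], [14, 9, 3]), ([0, 1, 3], [9, 8, 4]), ([1, 3], [9, 8, 4]), ([2, 3], [14, 18, 4, 3]), ([1, 3], [14, 18, 4, 3]), ([1, 3], [20, 3]), ([2, 3], [20, 3]), ([1, 3], [14, 9, 3]), ([2, 3], [14, 9, 3]), ([2, 3], [9, 8, 4]), ([1, 3], [9, 8, 4])]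

/-- Part of `resTab2`. -/
def resTab25 : List (List ℕ × List (Fin 24)) :=
  [([1, 2], [14, 9, 3]), ([1, 2], [14, 9, 3]), ([1, 2], [14, 9, 3]), ([1, 2], [14, 9, 3]), ([1, 2], [14, 9, 3]), ([1, 2], [14, 9, 3]), ([1, 2], [14, 9, 3]), ([1, 2], [14, 9, 3]), ([0, 1, 2], [14, 9, 3]), ([0, 1, 2], [14, 9, 3]), ([0, 1, 2], [14, 9, 3]), ([0, 1, 2], [14, 9, 3]), ([0, 1, 2], [14, 9, 3]), ([0, 1, 2], [14, 9, 3]), ([0, 1, 2], [14, 9, 3]), ([0, 1, 2], [14, 9, 3]), ([0, 1, 2], [9, 8, 4]), ([0, 1, 2], [9, 8, 4]), ([0, 1, 2], [9, 8, 4]), ([0, 1, 2], [9, 8, 4]), ([0, 1, 2], [9, 8, 4]), ([0, 1, 2], [9, 8, 4]), ([0, 1, 2], [9, 8, 4]), ([0, 1, 2], [9, 8, 4]), ([1, 2], [9, 8, 4]), ([1, 2], [9, 8, 4]), ([1, 2], [9, 8, 4]), ([1, 2], [9, 8, 4]), ([1, 2], [9, 8, 4]), ([1, 2], [9, 8, 4]), ([1, 2], [9, 8, 4]), ([1, 2], [9, 8,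 4]), ([0, 1, 2], [9]), ([0, 1, 2], [9]), ([0, 1, 2], [9]), ([0, 1, 2], [9]), ([0, 1, 2], [9]), ([0, 1, 2], [9]), ([0, 1, 2], [9]), ([0, 1, 2], [9]), ([1, 2], [9]), ([1, 2], [9]), ([1, 2], [9]), ([1, 2], [9]), ([1, 2], [9]), ([1, 2], [9]), ([1, 2], [9]), ([1, 2], [9]), ([1, 3], [14, 18, 4, 3]), ([2, 3], [14, 18, 4, 3]), ([2, 3], [20, 3]), ([1, 3], [20, 3]), ([2, 3], [14, 9, 3]), ([1, 3], [14, 9, 3]), ([1, 3], [9, 8, 4]), ([2, 3], [9, 8, 4]), ([1, 3], [14, 18, 4, 3]), ([0, 1, 3], [14, 18, 4, 3]), ([0, 1, 3], [20, 3]), ([1, 3], [20, 3]), ([0, 1, 3], [14, 9, 3]), ([1, 3], [14, 9, 3]), ([1, 3], [9, 8, 4]), ([0, 1, 3], [9, 8, 4])]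

/-- Part of `resTab2`. -/
def resTab26 : List (List ℕ × List (Fin 24)) :=
  [([1, 2], [8, 4]), ([1, 2], [8, 4]), ([1, 2], [8, 4]), ([1, 2], [8, 4]), ([1, 2], [8, 4]), ([1, 2], [8, 4]), ([1, 2], [8, 4]), ([1, 2], [8, 4]), ([0, 1, 2], [8, 4]), ([0, 1, 2], [8, 4]), ([0, 1, 2], [8, 4]), ([0, 1, 2], [8, 4]), ([0, 1, 2], [8, 4]), ([0, 1, 2], [8, 4]), ([0, 1, 2], [8, 4]), ([0, 1, 2], [8, 4]), ([0, 1, 2], [20, 14, 9, 3]), ([0, 1, 2], [20, 14, 9, 3]), ([0, 1, 2], [20, 14, 9, 3]), ([0, 1, 2], [20, 14, 9, 3]), ([0, 1, 2], [20, 14, 9, 3]), ([0, 1, 2], [20, 14, 9, 3]), ([0, 1, 2], [20, 14, 9, 3]), ([0, 1, 2], [20, 14, 9, 3]), ([1, 2], [20, 14, 9, 3]), ([1, 2], [20, 14, 9, 3]), ([1, 2], [20, 14, 9, 3]), ([1, 2], [20, 14, 9, 3]), ([1, 2], [20, 14, 9, 3]), ([1, 2], [20, 14, 9, 3]), ([1, 2], [20, 14, 9, 3]), ([1,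 2], [20, 14, 9, 3]), ([1, 3], [3]), ([0, 1, 3], [3]), ([0, 1, 3], [18, 4, 3]), ([1, 3], [18, 4, 3]), ([0, 1, 3], [8, 4]), ([1, 3], [8, 4]), ([1, 3], [20, 14, 9, 3]), ([0, 1, 3], [20, 14, 9, 3]), ([1, 3], [3]), ([2, 3], [3]), ([2, 3], [18, 4, 3]), ([1, 3], [18, 4, 3]), ([2, 3], [8, 4]), ([1, 3], [8, 4]), ([1, 3], [20, 14, 9, 3]), ([2, 3], [20, 14, 9, 3]), ([1, 2], [9]), ([1, 2], [9]), ([1, 2], [9]), ([1, 2], [9]), ([1, 2], [9]), ([1, 2], [9]), ([1, 2], [9]), ([1, 2], [9]), ([0, 1, 2], [9]), ([0, 1, 2], [9]), ([0, 1, 2], [9]), ([0, 1, 2], [9]), ([0, 1, 2], [9]), ([0, 1, 2], [9]), ([0, 1, 2], [9]), ([0, 1, 2], [9])]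

/-- Part of `resTab2`. -/
def resTab27 : List (List ℕ × List (Fin 24)) :=
  [([0, 1, 2], [8, 4]), ([0, 1, 2], [8, 4]), ([0, 1, 2], [8, 4]), ([0, 1, 2], [8, 4]), ([0, 1, 2], [8, 4]), ([0, 1, 2], [8, 4]), ([0, 1, 2], [8, 4]), ([0, 1, 2], [8, 4]), ([1, 2], [8, 4]), ([1, 2], [8, 4]), ([1, 2], [8, 4]), ([1, 2], [8, 4]), ([1, 2], [8, 4]), ([1, 2], [8, 4]), ([1, 2], [8, 4]), ([1, 2], [8, 4]), ([1, 2], [20, 14, 9, 3]), ([1, 2], [20, 14, 9, 3]), ([1, 2], [20, 14, 9, 3]), ([1, 2], [20, 14, 9, 3]), ([1, 2], [20, 14, 9, 3]), ([1, 2], [20, 14, 9, 3]), ([1, 2], [20, 14, 9, 3]), ([1, 2], [20, 14, 9, 3]), ([0, 1, 2], [20, 14, 9, 3]), ([0, 1, 2], [20, 14, 9, 3]), ([0, 1, 2], [20, 14, 9, 3]), ([0, 1, 2], [20, 14, 9, 3]), ([0, 1, 2], [20, 14, 9, 3]), ([0, 1, 2], [20, 14, 9, 3]), ([0, 1, 2], [20, 14, 9, 3]), ([0, 1,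 2], [20, 14, 9, 3]), ([2, 3], [3]), ([1, 3], [3]), ([1, 3], [18, 4, 3]), ([2, 3], [18, 4, 3]), ([1, 3], [8, 4]), ([2, 3], [8, 4]), ([2, 3], [20, 14, 9, 3]), ([1, 3], [20, 14, 9, 3]), ([0, 1, 3], [3]), ([1, 3], [3]), ([1, 3], [18, 4, 3]), ([0, 1, 3], [18, 4, 3]), ([1, 3], [8, 4]), ([0, 1, 3], [8, 4]), ([0, 1, 3], [20, 14, 9, 3]), ([1, 3], [20, 14, 9, 3]), ([0, 1, 2], [9]), ([0, 1, 2], [9]), ([0, 1, 2], [9]), ([0, 1, 2], [9]), ([0, 1, 2], [9]), ([0, 1, 2], [9]), ([0, 1, 2], [9]), ([0, 1, 2], [9]), ([1, 2], [9]), ([1, 2], [9]), ([1, 2], [9]), ([1, 2], [9]), ([1, 2], [9]), ([1, 2], [9]), ([1, 2], [9]), ([1, 2], [9])]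

/-- Root elements forced by three special involutions. -/
def resTab2 : List (List ℕ × List (Fin 24)) := resTab20 ++ resTab21 ++ resTab22 ++ resTab23 ++ resTab24 ++ resTab25 ++ resTab26 ++ resTab27

/-- Part of `okTab3`. -/
def okTab30 : List (ℕ × ℕ × ℕ) :=
  [(3, 0, 0), (0, 0, 2), (0, 0, 1), (0, 0, 6), (0, 0, 7), (0, 0, 8), (0, 0, 3), (0, 0, 4), (0, 0, 5), (0, 0, 15), (0, 0, 16), (4, 0, 0), (0, 0, 18), (4, 0, 0), (0, 0, 20), (0, 0, 9), (0, 0, 10), (4, 0, 0), (0, 0, 12), (4, 0, 0), (0, 0, 14), (0, 0, 31), (4, 0, 0), (0, 0, 33), (1, 0, 71), (0, 0, 35), (4, 0, 0), (4, 0, 0), (4, 0, 0), (4, 0, 0), (4, 0, 0), (0, 0, 21), (4, 0, 0), (0, 0, 23), (1, 0, 83), (0, 0, 25), (4, 0, 0), (4, 0, 0), (4, 0, 0), (4, 0, 0), (4, 0, 0), (0, 0, 56), (2, 0, 0), (4, 0, 0), (4, 0, 0), (4, 0, 0), (2, 1, 0), (4, 0, 0), (1,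 0, 95), (0, 0, 64), (4, 0, 0), (4, 0, 0), (4, 0, 0), (4, 0, 0), (4, 0, 0), (4, 0, 0), (0, 0, 41), (2, 2, 0), (4, 0, 0), (4, 0, 0), (4, 0, 0), (2, 3, 0), (4, 0, 0), (1, 0, 97), (0, 0, 49), (4, 0, 0), (4, 0, 0), (4, 0, 0), (4, 0, 0), (4, 0, 0), (4, 0, 0), (1, 0, 24), (0, 0, 84), (2, 4, 0), (4, 0, 0), (4, 0, 0), (4, 0, 0), (2, 5, 0), (4, 0, 0), (4, 0, 0), (4, 0, 0), (4, 0, 0), (4, 0, 0), (1, 0, 34), (0, 0, 72), (2, 6, 0), (4, 0, 0), (4, 0, 0), (4, 0, 0), (2, 7, 0), (4, 0, 0), (4, 0, 0), (4, 0, 0), (4, 0, 0), (4, 0, 0), (1, 0, 48), (0, 0, 102), (1, 0, 63), (4, 0, 0), (4, 0, 0)]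

/-- Part of `okTab3`. -/
def okTab31 : List (ℕ × ℕ × ℕ) :=
  [(4, 0, 0), (4, 0, 0), (0, 0, 96), (4, 0, 0), (4, 0, 0), (4, 0, 0), (4, 0, 0), (4, 0, 0), (4, 0, 0), (4, 0, 0), (4, 0, 0), (4, 0, 0), (4, 0, 0), (4, 0, 0), (4, 0, 0), (4, 0, 0), (4, 0, 0), (4, 0, 0), (4, 0, 0), (4, 0, 0), (4, 0, 0), (4, 0, 0), (4, 0, 0), (4, 0, 0), (4, 0, 0), (4, 0, 0), (4, 0, 0), (4, 0, 0), (4, 0, 0), (4, 0, 0), (4, 0, 0), (4, 0, 0), (4, 0, 0), (4, 0, 0), (4, 0, 0), (4, 0, 0), (4, 0, 0), (4, 0, 0), (4, 0, 0), (4, 0, 0), (4, 0, 0), (4, 0, 0), (4, 0, 0), (4, 0, 0), (4, 0, 0), (4, 0, 0), (4, 0, 0), (4, 0, 0), (4, 0, 0), (4, 0, 0), (4, 0, 0), (4, 0, 0), (4, 0, 0), (4, 0, 0), (4, 0, 0), (4, 0, 0), (4, 0, 0), (4, 0, 0), (4, 0, 0), (4, 0, 0), (4, 0, 0), (4, 0, 0), (4, 0, 0), (4, 0, 0), (4, 0, 0), (4, 0, 0), (4, 0, 0), (4, 0,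 0), (4, 0, 0), (4, 0, 0), (4, 0, 0), (4, 0, 0), (4, 0, 0), (4, 0, 0), (4, 0, 0), (4, 0, 0), (4, 0, 0), (4, 0, 0), (4, 0, 0), (4, 0, 0), (4, 0, 0), (4, 0, 0), (4, 0, 0), (4, 0, 0), (4, 0, 0), (4, 0, 0), (4, 0, 0), (4, 0, 0), (4, 0, 0), (4, 0, 0), (4, 0, 0), (4, 0, 0), (4, 0, 0), (4, 0, 0), (4, 0, 0), (4, 0, 0), (4, 0, 0), (4, 0, 0), (4, 0, 0)]

/-- Witnesses for the free involution. -/
def okTab3 : List (ℕ × ℕ × ℕ) := okTab30 ++ okTab31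

/-- Part of `resTab3`. -/
def resTab30 : List (List ℕ × List (Fin 24)) :=
  [([1, 2], [9, 2]), ([1, 2], [9, 2]), ([1, 2], [9, 2]), ([1, 2], [9, 2]), ([1, 2], [9, 2]), ([1, 2], [9, 2]), ([1, 2], [9, 2]), ([1, 2], [9, 2]), ([0, 1, 2], [9, 2]), ([0, 1, 2], [9, 2]), ([0, 1, 2], [9, 2]), ([0, 1, 2], [9, 2]), ([0, 1, 2], [9, 2]), ([0, 1, 2], [9, 2]), ([0, 1, 2], [9, 2]), ([0, 1, 2], [9, 2]), ([0, 1, 2], [21, 7, 4, 2]), ([0, 1, 2], [21, 7, 4, 2]), ([0, 1, 2], [21, 7, 4, 2]), ([0, 1, 2], [21, 7, 4, 2]), ([0, 1, 2], [21, 7, 4, 2]), ([0, 1, 2], [21, 7, 4, 2]), ([0, 1, 2], [21, 7, 4, 2]), ([0, 1, 2], [21, 7, 4, 2]), ([1, 2], [21, 7, 4, 2]), ([1, 2], [21, 7, 4, 2]), ([1, 2], [21, 7, 4, 2]), ([1, 2], [21, 7, 4, 2]), ([1, 2], [21, 7, 4, 2]), ([1, 2], [21, 7, 4, 2]), ([1, 2], [21, 7, 4, 2]), ([1, 2], [21, 7, 4,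 2]), ([0, 1, 2], [18, 4, 2]), ([0, 1, 2], [18, 4, 2]), ([0, 1, 2], [18, 4, 2]), ([0, 1, 2], [18, 4, 2]), ([0, 1, 2], [18, 4, 2]), ([0, 1, 2], [18, 4, 2]), ([0, 1, 2], [18, 4, 2]), ([0, 1, 2], [18, 4, 2]), ([1, 2], [18, 4, 2]), ([1, 2], [18, 4, 2]), ([1, 2], [18, 4, 2]), ([1, 2], [18, 4, 2]), ([1, 2], [18, 4, 2]), ([1, 2], [18, 4, 2]), ([1, 2], [18, 4, 2]), ([1, 2], [18, 4, 2]), ([1, 2], [21, 2]), ([1, 2], [21, 2]), ([1, 2], [21, 2]), ([1, 2], [21, 2]), ([1, 2], [21, 2]), ([1, 2], [21, 2]), ([1, 2], [21, 2]), ([1, 2], [21, 2]), ([0, 1, 2], [21, 2]), ([0, 1, 2], [21, 2]), ([0, 1, 2], [21, 2]), ([0, 1, 2], [21, 2]), ([0, 1, 2], [21, 2]), ([0, 1, 2], [21, 2]), ([0, 1, 2], [21, 2]), ([0, 1, 2], [21, 2])]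

/-- Part of `resTab3`. -/
def resTab31 : List (List ℕ × List (Fin 24)) :=
  [([0, 1, 2], [9, 2]), ([0, 1, 2], [9, 2]), ([0, 1, 2], [9, 2]), ([0, 1, 2], [9, 2]), ([0, 1, 2], [9, 2]), ([0, 1, 2], [9, 2]), ([0, 1, 2], [9, 2]), ([0, 1, 2], [9, 2]), ([1, 2], [9, 2]), ([1, 2], [9, 2]), ([1, 2], [9, 2]), ([1, 2], [9, 2]), ([1, 2], [9, 2]), ([1, 2], [9, 2]), ([1, 2], [9, 2]), ([1, 2], [9, 2]), ([1, 2], [21, 7, 4, 2]), ([1, 2], [21, 7, 4, 2]), ([1, 2], [21, 7, 4, 2]), ([1, 2], [21, 7, 4, 2]), ([1, 2], [21, 7, 4, 2]), ([1, 2], [21, 7, 4, 2]), ([1, 2], [21, 7, 4, 2]), ([1, 2], [21, 7, 4, 2]), ([0, 1, 2], [21, 7, 4, 2]), ([0, 1, 2], [21, 7, 4, 2]), ([0, 1, 2], [21, 7, 4, 2]), ([0, 1, 2], [21, 7, 4, 2]), ([0, 1, 2], [21, 7, 4, 2]), ([0, 1, 2], [21, 7, 4, 2]), ([0, 1, 2], [21, 7, 4, 2]), ([0, 1, 2], [21, 7, 4,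 2]), ([1, 2], [18, 4, 2]), ([1, 2], [18, 4, 2]), ([1, 2], [18, 4, 2]), ([1, 2], [18, 4, 2]), ([1, 2], [18, 4, 2]), ([1, 2], [18, 4, 2]), ([1, 2], [18, 4, 2]), ([1, 2], [18, 4, 2]), ([0, 1, 2], [18, 4, 2]), ([0, 1, 2], [18, 4, 2]), ([0, 1, 2], [18, 4, 2]), ([0, 1, 2], [18, 4, 2]), ([0, 1, 2], [18, 4, 2]), ([0, 1, 2], [18, 4, 2]), ([0, 1, 2], [18, 4, 2]), ([0, 1, 2], [18, 4, 2]), ([0, 1, 2], [21, 2]), ([0, 1, 2], [21, 2]), ([0, 1, 2], [21, 2]), ([0, 1, 2], [21, 2]), ([0, 1, 2], [21, 2]), ([0, 1, 2], [21, 2]), ([0, 1, 2], [21, 2]), ([0, 1, 2], [21, 2]), ([1, 2], [21, 2]), ([1, 2], [21, 2]), ([1, 2], [21, 2]), ([1, 2], [21, 2]), ([1, 2], [21, 2]), ([1, 2], [21, 2]), ([1, 2], [21, 2]), ([1, 2], [21, 2])]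

/-- Part of `resTab3`. -/
def resTab32 : List (List ℕ × List (Fin 24)) :=
  [([0, 1, 2], [7, 4, 2]), ([0, 1, 2], [7, 4, 2]), ([0, 1, 2], [7, 4, 2]), ([0, 1, 2], [7, 4, 2]), ([0, 1, 2], [7, 4, 2]), ([0, 1, 2], [7, 4, 2]), ([0, 1, 2], [7, 4, 2]), ([0, 1, 2], [7, 4, 2]), ([1, 2], [7, 4, 2]), ([1, 2], [7, 4, 2]), ([1, 2], [7, 4, 2]), ([1, 2], [7, 4, 2]), ([1, 2], [7, 4, 2]), ([1, 2], [7, 4, 2]), ([1, 2], [7, 4, 2]), ([1, 2], [7, 4, 2]), ([1, 2], [21, 9, 2]), ([1, 2], [21, 9, 2]), ([1, 2], [21, 9, 2]), ([1, 2], [21, 9, 2]), ([1, 2], [21, 9, 2]), ([1, 2], [21, 9, 2]), ([1, 2], [21, 9, 2]), ([1, 2], [21, 9, 2]), ([0, 1, 2], [21, 9, 2]), ([0, 1, 2], [21, 9, 2]), ([0, 1, 2], [21, 9, 2]), ([0, 1, 2], [21, 9, 2]), ([0, 1, 2], [21, 9, 2]), ([0, 1, 2], [21, 9, 2]), ([0, 1, 2], [21, 9, 2]), ([0, 1, 2], [21, 9,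 2]), ([1, 2], [2]), ([1, 2], [2]), ([1, 2], [2]), ([1, 2], [2]), ([1, 2], [2]), ([1, 2], [2]), ([1, 2], [2]), ([1, 2], [2]), ([0, 1, 2], [2]), ([0, 1, 2], [2]), ([0, 1, 2], [2]), ([0, 1, 2], [2]), ([0, 1, 2], [2]), ([0, 1, 2], [2]), ([0, 1, 2], [2]), ([0, 1, 2], [2]), ([0, 1, 2], [14, 18, 4, 2]), ([0, 1, 2], [14, 18, 4, 2]), ([0, 1, 2], [14, 18, 4, 2]), ([0, 1, 2], [14, 18, 4, 2]), ([0, 1, 2], [14, 18, 4, 2]), ([0, 1, 2], [14, 18, 4, 2]), ([0, 1, 2], [14, 18, 4, 2]), ([0, 1, 2], [14, 18, 4, 2]), ([1, 2], [14, 18, 4, 2]), ([1, 2], [14, 18, 4, 2]), ([1, 2], [14, 18, 4, 2]), ([1, 2], [14, 18, 4, 2]), ([1, 2], [14, 18, 4, 2]), ([1, 2], [14, 18, 4, 2]), ([1, 2], [14, 18, 4, 2]), ([1, 2], [14, 18, 4, 2])]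

/-- Part of `resTab3`. -/
def resTab33 : List (List ℕ × List (Fin 24)) :=
  [([1, 2], [7, 4, 2]), ([1, 2], [7, 4, 2]), ([1, 2], [7, 4, 2]), ([1, 2], [7, 4, 2]), ([1, 2], [7, 4, 2]), ([1, 2], [7, 4, 2]), ([1, 2], [7, 4, 2]), ([1, 2], [7, 4, 2]), ([0, 1, 2], [7, 4, 2]), ([0, 1, 2], [7, 4, 2]), ([0, 1, 2], [7, 4, 2]), ([0, 1, 2], [7, 4, 2]), ([0, 1, 2], [7, 4, 2]), ([0, 1, 2], [7, 4, 2]), ([0, 1, 2], [7, 4, 2]), ([0, 1, 2], [7, 4, 2]), ([0, 1, 2], [21, 9, 2]), ([0, 1, 2], [21, 9, 2]), ([0, 1, 2], [21, 9, 2]), ([0, 1, 2], [21, 9, 2]), ([0, 1, 2], [21, 9, 2]), ([0, 1, 2], [21, 9, 2]), ([0, 1, 2], [21, 9, 2]), ([0, 1, 2], [21, 9, 2]), ([1, 2], [21, 9, 2]), ([1, 2], [21, 9, 2]), ([1, 2], [21, 9, 2]), ([1, 2], [21, 9, 2]), ([1, 2], [21, 9, 2]), ([1, 2], [21, 9, 2]), ([1, 2], [21, 9, 2]), ([1, 2], [21, 9,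 2]), ([0, 1, 2], [2]), ([0, 1, 2], [2]), ([0, 1, 2], [2]), ([0, 1, 2], [2]), ([0, 1, 2], [2]), ([0, 1, 2], [2]), ([0, 1, 2], [2]), ([0, 1, 2], [2]), ([1, 2], [2]), ([1, 2], [2]), ([1, 2], [2]), ([1, 2], [2]), ([1, 2], [2]), ([1, 2], [2]), ([1, 2], [2]), ([1, 2], [2]), ([1, 2], [14, 18, 4, 2]), ([1, 2], [14, 18, 4, 2]), ([1, 2], [14, 18, 4, 2]), ([1, 2], [14, 18, 4, 2]), ([1, 2], [14, 18, 4, 2]), ([1, 2], [14, 18, 4, 2]), ([1, 2], [14, 18, 4, 2]), ([1, 2], [14, 18, 4, 2]), ([0, 1, 2], [14, 18, 4, 2]), ([0, 1, 2], [14, 18, 4, 2]), ([0, 1, 2], [14, 18, 4, 2]), ([0, 1, 2], [14, 18, 4, 2]), ([0, 1, 2], [14, 18, 4, 2]), ([0, 1, 2], [14, 18, 4, 2]), ([0, 1, 2], [14, 18, 4, 2]), ([0, 1, 2], [14, 18, 4, 2])]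

/-- Part of `resTab3`. -/
def resTab34 : List (List ℕ × List (Fin 24)) :=
  [([0, 1, 2], [9, 7, 4]), ([0, 1, 2], [9, 7, 4]), ([0, 1, 2], [9, 7, 4]), ([0, 1, 2], [9, 7, 4]), ([0, 1, 2], [9, 7, 4]), ([0, 1, 2], [9, 7, 4]), ([0, 1, 2], [9, 7, 4]), ([0, 1, 2], [9, 7, 4]), ([1, 2], [9, 7, 4]), ([1, 2], [9, 7, 4]), ([1, 2], [9, 7, 4]), ([1, 2], [9, 7, 4]), ([1, 2], [9, 7, 4]), ([1, 2], [9, 7, 4]), ([1, 2], [9, 7, 4]), ([1, 2], [9, 7, 4]), ([1, 2], [14, 9, 2]), ([1, 2], [14, 9, 2]), ([1, 2], [14, 9, 2]), ([1, 2], [14, 9, 2]), ([1, 2], [14, 9, 2]), ([1, 2], [14, 9, 2]), ([1, 2], [14, 9, 2]), ([1, 2], [14, 9, 2]), ([0, 1, 2], [14, 9, 2]), ([0, 1, 2], [14, 9, 2]), ([0, 1, 2], [14, 9, 2]), ([0, 1, 2], [14, 9, 2]), ([0, 1, 2], [14, 9, 2]), ([0, 1, 2], [14, 9, 2]), ([0, 1, 2], [14, 9, 2]), ([0, 1, 2], [14, 9,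 2]), ([1, 2], [9]), ([1, 2], [9]), ([1, 2], [9]), ([1, 2], [9]), ([1, 2], [9]), ([1, 2], [9]), ([1, 2], [9]), ([1, 2], [9]), ([0, 1, 2], [9]), ([0, 1, 2], [9]), ([0, 1, 2], [9]), ([0, 1, 2], [9]), ([0, 1, 2], [9]), ([0, 1, 2], [9]), ([0, 1, 2], [9]), ([0, 1, 2], [9]), ([0, 1, 3], [14, 18, 4, 2]), ([1, 3], [14, 18, 4, 2]), ([1, 3], [21, 2]), ([0, 1, 3], [21, 2]), ([1, 3], [14, 9, 2]), ([0, 1, 3], [14, 9, 2]), ([0, 1, 3], [9, 7, 4]), ([1, 3], [9, 7, 4]), ([2, 3], [14, 18, 4, 2]), ([1, 3], [14, 18, 4, 2]), ([1, 3], [21, 2]), ([2, 3], [21, 2]), ([1, 3], [14, 9, 2]), ([2, 3], [14, 9, 2]), ([2, 3], [9, 7, 4]), ([1, 3], [9, 7, 4])]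

/-- Part of `resTab3`. -/
def resTab35 : List (List ℕ × List (Fin 24)) :=
  [([1, 2], [9, 7, 4]), ([1, 2], [9, 7, 4]), ([1, 2], [9, 7, 4]), ([1, 2], [9, 7, 4]), ([1, 2], [9, 7, 4]), ([1, 2], [9, 7, 4]), ([1, 2], [9, 7, 4]), ([1, 2], [9, 7, 4]), ([0, 1, 2], [9, 7, 4]), ([0, 1, 2], [9, 7, 4]), ([0, 1, 2], [9, 7, 4]), ([0, 1, 2], [9, 7, 4]), ([0, 1, 2], [9, 7, 4]), ([0, 1, 2], [9, 7, 4]), ([0, 1, 2], [9, 7, 4]), ([0, 1, 2], [9, 7, 4]), ([0, 1, 2], [14, 9, 2]), ([0, 1, 2], [14, 9, 2]), ([0, 1, 2], [14, 9, 2]), ([0, 1, 2], [14, 9, 2]), ([0, 1, 2], [14, 9, 2]), ([0, 1, 2], [14, 9, 2]), ([0, 1, 2], [14, 9, 2]), ([0, 1, 2], [14, 9, 2]), ([1, 2], [14, 9, 2]), ([1, 2], [14, 9, 2]), ([1, 2], [14, 9, 2]), ([1, 2], [14, 9, 2]), ([1, 2], [14, 9, 2]), ([1, 2], [14, 9, 2]), ([1, 2], [14, 9, 2]), ([1, 2], [14, 9,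 2]), ([0, 1, 2], [9]), ([0, 1, 2], [9]), ([0, 1, 2], [9]), ([0, 1, 2], [9]), ([0, 1, 2], [9]), ([0, 1, 2], [9]), ([0, 1, 2], [9]), ([0, 1, 2], [9]), ([1, 2], [9]), ([1, 2], [9]), ([1, 2], [9]), ([1, 2], [9]), ([1, 2], [9]), ([1, 2], [9]), ([1, 2], [9]), ([1, 2], [9]), ([1, 3], [14, 18, 4, 2]), ([2, 3], [14, 18, 4, 2]), ([2, 3], [21, 2]), ([1, 3], [21, 2]), ([2, 3], [14, 9, 2]), ([1, 3], [14, 9, 2]), ([1, 3], [9, 7, 4]), ([2, 3], [9, 7, 4]), ([1, 3], [14, 18, 4, 2]), ([0, 1, 3], [14, 18, 4, 2]), ([0, 1, 3], [21, 2]), ([1, 3], [21, 2]), ([0, 1, 3], [14, 9, 2]), ([1, 3], [14, 9, 2]), ([1, 3], [9, 7, 4]), ([0, 1, 3], [9, 7, 4])]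

/-- Part of `resTab3`. -/
def resTab36 : List (List ℕ × List (Fin 24)) :=
  [([1, 2], [21, 14, 9, 2]), ([1, 2], [21, 14, 9, 2]), ([1, 2], [21, 14, 9, 2]), ([1, 2], [21, 14, 9, 2]), ([1, 2], [21, 14, 9, 2]), ([1, 2], [21, 14, 9, 2]), ([1, 2], [21, 14, 9, 2]), ([1, 2], [21, 14, 9, 2]), ([0, 1, 2], [21, 14, 9, 2]), ([0, 1, 2], [21, 14, 9, 2]), ([0, 1, 2], [21, 14, 9, 2]), ([0, 1, 2], [21, 14, 9, 2]), ([0, 1, 2], [21, 14, 9, 2]), ([0, 1, 2], [21, 14, 9, 2]), ([0, 1, 2], [21, 14, 9, 2]), ([0, 1, 2], [21, 14, 9, 2]), ([0, 1, 2], [7, 4]), ([0, 1, 2], [7, 4]), ([0, 1, 2], [7, 4]), ([0, 1, 2], [7, 4]), ([0, 1, 2], [7, 4]), ([0, 1, 2], [7, 4]), ([0, 1, 2], [7, 4]), ([0, 1, 2], [7, 4]), ([1, 2], [7, 4]), ([1, 2], [7, 4]), ([1, 2], [7, 4]), ([1, 2], [7, 4]), ([1, 2], [7, 4]), ([1, 2], [7, 4]), ([1, 2], [7, 4]),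 ([1, 2], [7, 4]), ([1, 3], [2]), ([0, 1, 3], [2]), ([0, 1, 3], [18, 4, 2]), ([1, 3], [18, 4, 2]), ([0, 1, 3], [7, 4]), ([1, 3], [7, 4]), ([1, 3], [21, 14, 9, 2]), ([0, 1, 3], [21, 14, 9, 2]), ([1, 3], [2]), ([2, 3], [2]), ([2, 3], [18, 4, 2]), ([1, 3], [18, 4, 2]), ([2, 3], [7, 4]), ([1, 3], [7, 4]), ([1, 3], [21, 14, 9, 2]), ([2, 3], [21, 14, 9, 2]), ([1, 2], [9]), ([1, 2], [9]), ([1, 2], [9]), ([1, 2], [9]), ([1, 2], [9]), ([1, 2], [9]), ([1, 2], [9]), ([1, 2], [9]), ([0, 1, 2], [9]), ([0, 1, 2], [9]), ([0, 1, 2], [9]), ([0, 1, 2], [9]), ([0, 1, 2], [9]), ([0, 1, 2], [9]), ([0, 1, 2], [9]), ([0, 1, 2], [9])]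

/-- Part of `resTab3`. -/
def resTab37 : List (List ℕ × List (Fin 24)) :=
  [([0, 1, 2], [21, 14, 9, 2]), ([0, 1, 2], [21, 14, 9, 2]), ([0, 1, 2], [21, 14, 9, 2]), ([0, 1, 2], [21, 14, 9, 2]), ([0, 1, 2], [21, 14, 9, 2]), ([0, 1, 2], [21, 14, 9, 2]), ([0, 1, 2], [21, 14, 9, 2]), ([0, 1, 2], [21, 14, 9, 2]), ([1, 2], [21, 14, 9, 2]), ([1, 2], [21, 14, 9, 2]), ([1, 2], [21, 14, 9, 2]), ([1, 2], [21, 14, 9, 2]), ([1, 2], [21, 14, 9, 2]), ([1, 2], [21, 14, 9, 2]), ([1, 2], [21, 14, 9, 2]), ([1, 2], [21, 14, 9, 2]), ([1, 2], [7, 4]), ([1, 2], [7, 4]), ([1, 2], [7, 4]), ([1, 2], [7, 4]), ([1, 2], [7, 4]), ([1, 2], [7, 4]), ([1, 2], [7, 4]), ([1, 2], [7, 4]), ([0, 1, 2], [7, 4]), ([0, 1, 2], [7, 4]), ([0, 1, 2], [7, 4]), ([0, 1, 2], [7, 4]), ([0, 1, 2], [7, 4]), ([0, 1, 2], [7, 4]), ([0, 1, 2], [7, 4]),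 ([0, 1, 2], [7, 4]), ([2, 3], [2]), ([1, 3], [2]), ([1, 3], [18, 4, 2]), ([2, 3], [18, 4, 2]), ([1, 3], [7, 4]), ([2, 3], [7, 4]), ([2, 3], [21, 14, 9, 2]), ([1, 3], [21, 14, 9, 2]), ([0, 1, 3], [2]), ([1, 3], [2]), ([1, 3], [18, 4, 2]), ([0, 1, 3], [18, 4, 2]), ([1, 3], [7, 4]), ([0, 1, 3], [7, 4]), ([0, 1, 3], [21, 14, 9, 2]), ([1, 3], [21, 14, 9, 2]), ([0, 1, 2], [9]), ([0, 1, 2], [9]), ([0, 1, 2], [9]), ([0, 1, 2], [9]), ([0, 1, 2], [9]), ([0, 1, 2], [9]), ([0, 1, 2], [9]), ([0, 1, 2], [9]), ([1, 2], [9]), ([1, 2], [9]), ([1, 2], [9]), ([1, 2], [9]), ([1, 2], [9]), ([1, 2], [9]), ([1, 2], [9]), ([1, 2], [9])]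

/-- Root elements forced by three special involutions. -/
def resTab3 : List (List ℕ × List (Fin 24)) := resTab30 ++ resTab31 ++ resTab32 ++ resTab33 ++ resTab34 ++ resTab35 ++ resTab36 ++ resTab37

/-- Part of `okTabW`. -/
def okTabW0 : List (ℕ × ℕ × ℕ) :=
  [(3, 0, 0), (0, 0, 2), (0, 0, 1), (0, 0, 6), (0, 0, 7), (0, 0, 8), (0, 0, 3), (0, 0, 4), (0, 0, 5), (0, 0, 15), (4, 0, 0), (4, 0, 0), (0, 0, 18), (4, 0, 0), (0, 0, 20), (0, 0, 9), (4, 0, 0), (4, 0, 0), (0, 0, 12), (4, 0, 0), (0, 0, 14), (4, 0, 0), (4, 0, 0), (4, 0, 0), (4, 0, 0), (0, 0, 35), (4, 0, 0), (4, 0, 0), (4, 0, 0), (4, 0, 0), (4, 0, 0), (4, 0, 0), (4, 0, 0), (4, 0, 0), (4, 0, 0), (0, 0, 25), (4, 0, 0), (4, 0, 0), (4, 0, 0), (4, 0, 0), (4, 0, 0), (4, 0, 0), (4, 0, 0), (4, 0, 0), (4, 0, 0), (4, 0, 0), (4, 0, 0), (4, 0, 0), (4, 0, 0),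 (4, 0, 0), (4, 0, 0), (4, 0, 0), (4, 0, 0), (4, 0, 0), (4, 0, 0), (4, 0, 0), (4, 0, 0), (4, 0, 0), (4, 0, 0), (4, 0, 0), (4, 0, 0), (4, 0, 0), (4, 0, 0), (4, 0, 0), (4, 0, 0), (4, 0, 0), (4, 0, 0), (4, 0, 0), (4, 0, 0), (4, 0, 0), (4, 0, 0), (4, 0, 0), (0, 0, 84), (4, 0, 0), (0, 0, 86), (4, 0, 0), (4, 0, 0), (4, 0, 0), (0, 0, 90), (4, 0, 0), (4, 0, 0), (4, 0, 0), (4, 0, 0), (4, 0, 0), (0, 0, 72), (4, 0, 0), (0, 0, 74), (4, 0, 0), (4, 0, 0), (4, 0, 0), (0, 0, 78), (4, 0, 0), (4, 0, 0), (4, 0, 0), (4, 0, 0), (4, 0, 0), (4, 0, 0), (4, 0, 0), (4, 0, 0), (4, 0, 0)]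

/-- Part of `okTabW`. -/
def okTabW1 : List (ℕ × ℕ × ℕ) :=
  [(4, 0, 0), (4, 0, 0), (4, 0, 0), (4, 0, 0), (4, 0, 0), (4, 0, 0), (4, 0, 0), (4, 0, 0), (4, 0, 0), (4, 0, 0), (4, 0, 0), (4, 0, 0), (4, 0, 0), (4, 0, 0), (4, 0, 0), (4, 0, 0), (4, 0, 0), (4, 0, 0), (4, 0, 0), (4, 0, 0), (4, 0, 0), (4, 0, 0), (4, 0, 0), (4, 0, 0), (4, 0, 0), (4, 0, 0), (4, 0, 0), (4, 0, 0), (4, 0, 0), (4, 0, 0), (4, 0, 0), (4, 0, 0), (4, 0, 0), (4, 0, 0), (4, 0, 0), (4, 0, 0), (4, 0, 0), (4, 0, 0), (4, 0, 0), (4, 0, 0), (4, 0, 0), (4, 0, 0), (4, 0, 0), (4, 0, 0), (4, 0, 0), (4, 0, 0), (4, 0, 0), (4, 0, 0), (4, 0, 0), (4, 0, 0), (4, 0, 0), (4, 0, 0), (4, 0, 0), (4, 0, 0), (4, 0, 0), (4, 0, 0), (4, 0, 0), (4, 0, 0), (4, 0, 0), (4, 0, 0), (4, 0, 0), (4, 0, 0), (4, 0, 0), (4, 0, 0), (4, 0, 0), (4, 0, 0), (4, 0, 0), (4, 0, 0),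 (4, 0, 0), (4, 0, 0), (4, 0, 0), (4, 0, 0), (4, 0, 0), (4, 0, 0), (4, 0, 0), (4, 0, 0), (4, 0, 0), (4, 0, 0), (4, 0, 0), (4, 0, 0), (4, 0, 0), (4, 0, 0), (4, 0, 0), (4, 0, 0), (4, 0, 0), (4, 0, 0), (4, 0, 0), (4, 0, 0), (4, 0, 0), (4, 0, 0), (4, 0, 0), (4, 0, 0), (4, 0, 0), (4, 0, 0), (4, 0, 0), (4, 0, 0), (4, 0, 0), (4, 0, 0), (4, 0, 0)]

/-- Witnesses for the large class. -/
def okTabW : List (ℕ × ℕ × ℕ) := okTabW0 ++ okTabW1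

/-- Part of `okTabW2`. -/
def okTabW20 : List (ℕ × ℕ × ℕ) :=
  [(3, 0, 0), (0, 0, 2), (0, 0, 1), (4, 0, 0), (4, 0, 0), (0, 0, 8), (4, 0, 0), (4, 0, 0), (0, 0, 5), (4, 0, 0), (4, 0, 0), (4, 0, 0), (4, 0, 0), (4, 0, 0), (0, 0, 20), (4, 0, 0), (4, 0, 0), (4, 0, 0), (4, 0, 0), (4, 0, 0), (0, 0, 14), (4, 0, 0), (4, 0, 0), (4, 0, 0), (0, 0, 250), (4, 0, 0), (4, 0, 0), (0, 0, 182), (4, 0, 0), (4, 0, 0), (0, 0, 117), (4, 0, 0), (4, 0, 0), (4, 0, 0), (0, 0, 257), (4, 0, 0), (4, 0, 0), (0, 0, 189), (4, 0, 0), (4, 0, 0), (0, 0, 124), (4, 0, 0), (4, 0, 0), (4, 0, 0), (4, 0, 0), (0, 0, 199), (4, 0, 0), (4, 0, 0), (4, 0, 0), (4, 0, 0), (4, 0, 0), (4, 0, 0), (4, 0, 0), (0, 0, 131), (4, 0, 0), (4, 0, 0), (4, 0, 0), (4, 0, 0), (4, 0, 0), (4, 0, 0), (0, 0, 210), (4, 0, 0), (4, 0, 0), (4, 0, 0), (4, 0, 0), (4, 0, 0),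 (4, 0, 0), (4, 0, 0), (0, 0, 142), (4, 0, 0), (4, 0, 0), (0, 0, 283), (4, 0, 0), (4, 0, 0), (4, 0, 0), (4, 0, 0), (4, 0, 0), (4, 0, 0), (4, 0, 0), (4, 0, 0), (4, 0, 0), (4, 0, 0), (4, 0, 0), (0, 0, 292), (4, 0, 0), (4, 0, 0), (4, 0, 0), (4, 0, 0), (4, 0, 0), (4, 0, 0), (4, 0, 0), (4, 0, 0), (4, 0, 0), (4, 0, 0), (4, 0, 0), (4, 0, 0), (4, 0, 0), (4, 0, 0), (4, 0, 0), (4, 0, 0)]

/-- Part of `okTabW2`. -/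
def okTabW21 : List (ℕ × ℕ × ℕ) :=
  [(4, 0, 0), (4, 0, 0), (4, 0, 0), (0, 1, 250), (0, 1, 257), (4, 0, 0), (4, 0, 0), (4, 0, 0), (4, 0, 0), (4, 0, 0), (4, 0, 0), (0, 1, 283), (4, 0, 0), (4, 0, 0), (0, 1, 292), (4, 0, 0), (4, 0, 0), (4, 0, 0), (4, 0, 0), (0, 2, 250), (0, 2, 257), (4, 0, 0), (4, 0, 0), (4, 0, 0), (4, 0, 0), (4, 0, 0), (4, 0, 0), (0, 2, 283), (4, 0, 0), (4, 0, 0), (0, 2, 292), (4, 0, 0), (4, 0, 0), (4, 0, 0), (4, 0, 0), (4, 0, 0), (4, 0, 0), (4, 0, 0), (4, 0, 0), (4, 0, 0), (4, 0, 0), (4, 0, 0), (4, 0, 0), (4, 0, 0), (4, 0, 0), (4, 0, 0), (4, 0, 0), (4, 0, 0), (4, 0, 0), (4, 0, 0), (4, 0, 0), (4, 0, 0), (4, 0, 0), (4, 0, 0), (4, 0, 0), (4, 0, 0), (4, 0, 0), (4, 0, 0), (4, 0, 0), (4, 0, 0), (4, 0, 0), (4, 0, 0), (4, 0, 0), (4, 0, 0), (4, 0, 0), (4, 0, 0), (4, 0, 0), (4, 0, 0), (4, 0,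 0), (4, 0, 0), (4, 0, 0), (4, 0, 0), (4, 0, 0), (4, 0, 0), (4, 0, 0), (4, 0, 0), (4, 0, 0), (4, 0, 0), (4, 0, 0), (4, 0, 0), (4, 0, 0), (4, 0, 0), (4, 0, 0), (4, 0, 0), (4, 0, 0), (4, 0, 0), (4, 0, 0), (4, 0, 0), (4, 0, 0), (4, 0, 0), (4, 0, 0), (4, 0, 0), (4, 0, 0), (4, 0, 0), (4, 0, 0), (4, 0, 0), (4, 0, 0), (4, 0, 0), (4, 0, 0)]

/-- Witnesses for the second involution of the large class. -/
def okTabW2 : List (ℕ × ℕ × ℕ) := okTabW20 ++ okTabW21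

/-- The special involutions. -/
def zTab : Fin 3 → List (List (Fin 24)) :=
  ![[[23, 21, 18], [23, 20, 18], [23, 22, 21, 18], [23, 22, 20, 18], [23, 21, 19, 18], [23, 20, 19, 18], [23, 23, 22, 21, 19, 18], [23, 23, 22, 20, 19, 18]], [[23, 21, 13], [23, 17, 13], [23, 22, 21, 13], [23, 22, 17, 13], [23, 21, 16, 13], [23, 17, 16, 13], [23, 23, 22, 21, 16, 13], [23, 23, 22, 17, 16, 13]], [[23, 20, 12], [23, 17, 12], [23, 22, 20, 12], [23, 22, 17, 12], [23, 20, 15, 12], [23, 17, 15, 12], [23, 23, 22, 20, 15, 12], [23, 23, 22, 17, 15, 12]]]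

/-- The three translations. -/
def mTab : Fin 3 → List (List (Fin 24)) :=
  ![[[], [9, 6, 4, 23, 4, 6, 9], [8, 7, 1, 23, 1, 7, 8]], [[], [18, 9, 2, 1, 23, 1, 2, 9, 18], [14, 9, 1, 23, 1, 9, 14]], [[], [9, 1, 23, 1, 9], [14, 9, 1, 23, 1, 9, 14]]]

/-- The partner root. -/
def pRoot : Fin 3 → Fin 24 := ![21, 21, 20]

/-- The second representative of the large class. -/
def wTwo : ℕ := 1537

/-- The move to the second representative. -/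
def wMove : List (Fin 24) := [14, 9, 14, 12, 11, 12]

end CfsgLib.O8C
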