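import Mathlib.GroupTheory.OrderOfElement
import Mathlib.Tactic.Group
import Mathlib.Algebra.Group.Conj

/-!
Two involutions which are not conjugate in the group they generate.
-/

set_option autoImplicit false

namespace CfsgLib.O8C

universe u

variable {G : Type u} [Group G]

/-- Two involutions not conjugate inside a subgroup `H` containing them centralise a common involution of `H`
whose product with the first is conjugate to one of them. -/
theorem dihedral_central [Finite G] {H : Subgroup G} {x y : G} (hx : x ∈ H) (hy : y ∈ H) (hxx : x * x = 1)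
    (hyy : y * y = 1) (hnc : ¬ ∃ c ∈ H, c * x * c⁻¹ = y) :
    ∃ z ∈ H, z * z = 1 ∧ z ≠ 1 ∧ z * x = x * z ∧ z * y = y * z ∧ (IsConj x (x * z) ∨ IsConj y (x * z)) := by
  have hd : x * y ∈ H := mul_mem hx hy
  have hxi : x⁻¹ = x := inv_eq_of_mul_eq_one_right hxx
  have hyi : y⁻¹ = y := inv_eq_of_mul_eq_one_right hyy
  set d := x * y with hddef
  have hinv : x * d * x⁻¹ = d⁻¹ := by
    rw [hddef, mul_inv_rev, hxi, hyi, ← mul_assoc x x y, hxx, one_mul]
  have hpow : ∀ j : ℕ, x * d ^ j * x⁻¹ = (d ^ j)⁻¹ := fun j => by rw [← conj_pow, hinv, inv_pow]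
  have hdx : ∀ j : ℕ, (d ^ j)⁻¹ * x * d ^ j = x * d ^ (2 * j) := fun j => by
    rw [← hpow j, two_mul, pow_add]; group
  have hxd : ∀ j : ℕ, d ^ j * x * (d ^ j)⁻¹ = x * (d ^ (2 * j))⁻¹ := fun j => by
    have e : d ^ j * x = x * (d ^ j)⁻¹ := by
      have := congrArg (fun t => x * t) (hpow j)
      rw [← mul_assoc, ← mul_assoc, hxx, one_mul, hxi] at this
      exact this
    rw [e, two_mul, pow_add, mul_inv_rev]; group
  obtain ⟨n, hn⟩ : ∃ n, n = orderOf d := ⟨_, rfl⟩
  have hdn : d ^ n = 1 := hn ▸ pow_orderOf_eq_one d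
  rcases Nat.even_or_odd n with ⟨k, hk⟩ | ⟨k, hk⟩
  · have hk0 : k ≠ 0 := by
      rintro rfl
      exact absurd (hn.symm.trans hk) (orderOf_pos d).ne'
    refine ⟨d ^ k, pow_mem hd k, by rw [← pow_add, ← hk, hdn], fun e => ?_, ?_, ?_, ?_⟩
    · have := Nat.le_of_dvd (Nat.pos_of_ne_zero hk0) (hn ▸ orderOf_dvd_of_pow_eq_one e)
      omega
    · have hzi : (d ^ k)⁻¹ = d ^ k := inv_eq_of_mul_eq_one_right (by rw [← pow_add, ← hk, hdn])
      have := hpow k
      rw [hzi, mul_inv_eq_iff_eq_mul] at this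
      exact this.symm
    · have hzi : (d ^ k)⁻¹ = d ^ k := inv_eq_of_mul_eq_one_right (by rw [← pow_add, ← hk, hdn])
      have hx' := hpow k
      rw [hzi, mul_inv_eq_iff_eq_mul] at hx'
      have hy' : y = x * d := by rw [hddef, ← mul_assoc, hxx, one_mul]
      rw [hy', ← mul_assoc, ← hx', mul_assoc, mul_assoc, ← pow_succ, ← pow_succ']
    · rcases Nat.even_or_odd k with ⟨j, hj⟩ | ⟨j, hj⟩
      · left
        refine isConj_iff.mpr ⟨(d ^ j)⁻¹, ?_⟩
        rw [inv_inv, hdx, hj, two_mul]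
      · right
        refine isConj_iff.mpr ⟨(d ^ j)⁻¹, ?_⟩
        have hy' : y = x * d := by rw [hddef, ← mul_assoc, hxx, one_mul]
        rw [inv_inv, hy', ← mul_assoc, mul_assoc (_ * x), ← pow_succ', pow_succ, ← mul_assoc, hdx, mul_assoc,
          ← pow_succ, hj]
  · refine absurd ⟨d ^ k, pow_mem hd k, ?_⟩ hnc
    have hy' : y = x * d := by rw [hddef, ← mul_assoc, hxx, one_mul]
    rw [hxd, hy']
    refine congrArg (x * ·) (inv_eq_of_mul_eq_one_right ?_)
    rw [← pow_succ, ← hk, hdn]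

end CfsgLib.O8C
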