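import Cfsg.Agent.Lib.OEightCent.Classify
import Cfsg.Agent.Lib.OEightCent.ChecksRes
import Cfsg.Agent.Lib.OEightCent.Dihedral
import Mathlib.GroupTheory.Sylow

/-!
The subgroup generated by the root elements contains the centralizers of its involutions, hence is the whole group.
-/

set_option autoImplicit false
set_option maxRecDepth 8000

namespace CfsgLib.O8C.O8Frame

open Subgroup CfsgLib.O8C

universe u

variable {G : Type u} [Group G] [Finite G] {rt : Fin 24 → G} {E S : Subgroup G} (F : O8Frame rt E S)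
include F

omit [Finite G] in
theorem conj_back {c x : G} (h : c * x = x * c) (m : G) :
    m * c * m⁻¹ * (m * x * m⁻¹) = m * x * m⁻¹ * (m * c * m⁻¹) := by
  calc m * c * m⁻¹ * (m * x * m⁻¹) = m * (c * x) * m⁻¹ := by group
    _ = m * (x * c) * m⁻¹ := by rw [h]
    _ = _ := by group

theorem isConj_sq {y : G} (h : IsConj (rt 23) y) : y * y = 1 := by
  obtain ⟨g, rfl⟩ := isConj_iff.mp h
  calc g * rt 23 * g⁻¹ * (g * rt 23 * g⁻¹) = g * (rt 23 * rt 23) * g⁻¹ := by group
    _ = 1 := by rw [F.rel.sq 23]; group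

theorem tW_comm (a : ℕ) (ha : a < 27) : ev rt (tW a) * rt 23 = rt 23 * ev rt (tW a) := by
  have h : ∀ a : Fin 27, sameW (tW a ++ [23]) ([23] ++ tW a) = true := by decide +kernel
  simpa [ev_append, ev_cons, F.ev_one] using ev_eq F.rel (h ⟨a, ha⟩)

theorem fusW_conj {x : List (Fin 24)} (hx : x ∈ fusW) : IsConj (rt 23) (ev rt x) := by
  have hs : IsConj (rt 22) (rt 22 * rt 23) := by
    refine isConj_iff.mpr ⟨rt 14, ?_⟩
    rw [inv_eq_of_mul_eq_one_right (F.rel.sq 14)]
    have := ev_eq F.rel swap_check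
    simpa [ev, mul_assoc] using this
  have ht : ∀ (m : G), m ∈ F.M → m * rt 23 = rt 23 * m → IsConj (rt 23) (m * rt 22 * m⁻¹ * rt 23) := fun m _ hc => by
    refine F.s_conj.trans (hs.trans (isConj_iff.mpr ⟨m, ?_⟩))
    calc m * (rt 22 * rt 23) * m⁻¹ = m * rt 22 * m⁻¹ * (m * rt 23 * m⁻¹) := by group
      _ = _ := by rw [hc, mul_inv_cancel_right]
  simp only [fusW, List.cons_append, List.mem_cons, List.mem_append, List.mem_map, List.mem_range] at hx
  rcases hx with rfl | ⟨a, -, rfl⟩ | ⟨a, ha, rfl⟩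
  · rw [F.ev_one]
  · rw [F.ev_conj, F.ev_one]
    exact F.s_conj.trans (isConj_iff.mpr ⟨_, rfl⟩)
  · rw [ev_append, F.ev_conj, F.ev_one, F.ev_one]
    refine ht _ (ev_mem F.rel _) ?_
    refine (F.tW_comm a ha)

/-- The alternative for a conjugate of the centre commuting with `v` and not conjugate to the centre there. -/
theorem dicho {v : List (Fin 24)} {maxl : ℕ} {Z : List (List (Fin 24))} {tab : List (ℕ × ℕ × ℕ)}
    (hok : okAll v maxl Z tab = true) (hv : ev rt v * rt 23 = rt 23 * ev rt v)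
    (hM : ∀ l : Fin 5, l.val ≤ maxl → F.CM (ev rt (repW l)))
    {y : G} (hy : IsConj (rt 23) y) (hyv : y * ev rt v = ev rt v * y)
    (hnc : ¬ ∃ c : G, c * ev rt v = ev rt v * c ∧ c * rt 23 * c⁻¹ = y) :
    y ∈ F.M ∨ ∃ a < Z.length, y * ev rt (Z.getD a []) = ev rt (Z.getD a []) * y := by
  set t := rt 23 with ht
  have hH : ∀ g : G, g ∈ Subgroup.centralizer ({ev rt v} : Set G) ↔ g * ev rt v = ev rt v * g :=
    fun g => Subgroup.mem_centralizer_singleton_iff
  obtain ⟨z, hzH, hzz, hz1, hzt, hzy, hconj⟩ := dihedral_central (x := t) (y := y) ((hH t).mpr hv.symm) ((hH y).mpr hyv)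
    (F.rel.sq 23) (F.isConj_sq hy) (fun ⟨c, hc, e⟩ => hnc ⟨c, (hH c).mp hc, e⟩)
  have hzv := (hH z).mp hzH
  have hr : IsConj t (t * z) := hconj.elim id hy.trans
  have hrt : t * z * t = t * (t * z) := by rw [mul_assoc, hzt]
  obtain ⟨j, hj, e⟩ := F.cent_root hrt hr
  have ez : ev rt (23 :: crW j) = z := by
    rw [ev_cons, ← e, ← mul_assoc, ← ht, F.rel.sq 23, one_mul]
  have h := List.all_eq_true.mp hok j (List.mem_range.mpr hj)
  simp only [okAt, Bool.or_eq_true, Bool.and_eq_true, beq_iff_eq, decide_eq_true_eq, Bool.not_eq_true'] at h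
  have hcinv : ∀ a k u, k < 495 → (tblAt k).2.1 ≤ maxl → sameW u (cinvW a k) = true →
      y * ev rt u = ev rt u * y → y ∈ F.M := by
    intro a k u hk hl hs hc
    obtain ⟨l, hl', m, hm, e'⟩ := F.table_conj k hk
    refine (?_ : F.CM (ev rt u)) y hc
    rw [ev_eq F.rel hs, cinvW, F.ev_conj]
    refine F.CM_conj (ev_mem F.rel _) ?_
    rw [e']
    exact F.CM_conj hm (hM l (hl' ▸ hl))
  rcases h with (((⟨-, h⟩ | ⟨-, h⟩) | ⟨⟨-, -, hk, hl⟩, h⟩) | ⟨⟨-, -, hk, hl⟩, h⟩) | ⟨⟨-, ha⟩, h⟩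
  · refine absurd ?_ (ev_ne F.rel F.ne h)
    rw [ev_append, ev_append, ← e]
    exact ((show Commute t (ev rt v) from hv.symm).mul_left (show Commute z (ev rt v) from hzv)).eq
  · have e2 := ev_eq F.rel h
    rw [F.ev_one, ← e, ← ht] at e2
    exact absurd (mul_eq_left.mp e2) hz1
  · exact Or.inl (hcinv _ _ _ hk hl h (by rw [ez]; exact hzy.symm))
  · exact Or.inl (hcinv _ _ _ hk hl h (by
      rw [ev_append, ez]; exact ((show Commute y z from hzy.symm).mul_right hyv).eq))
  · refine Or.inr ⟨_, ha, ?_⟩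
    rw [← ev_eq F.rel h, ez]
    exact hzy.symm

theorem rep_comm_t (l : Fin 5) : ev rt (repW l) * rt 23 = rt 23 * ev rt (repW l) := by
  have h : ∀ l : Fin 5, sameW (repW l ++ [23]) ([23] ++ repW l) = true := by decide +kernel
  simpa [ev_append, ev_cons, F.ev_one] using ev_eq F.rel (h l)

theorem t_conj_M {m y : G} (hm : m ∈ F.M) (h : m⁻¹ * y * m ∈ F.M) : y ∈ F.M := by
  have := mul_mem (mul_mem hm h) (inv_mem hm)
  simpa [mul_assoc] using this

/-- Partners lie in `M`. -/
theorem partner_mem (i : Fin 3) {y : G} (hy : IsConj (rt 23) y)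
    (hyw : y * ev rt (repW (midI i)) = ev rt (repW (midI i)) * y)
    (hp : IsConj (rt 23) (y * ev rt (repW (midI i)))) : y ∈ F.M := by
  set w := ev rt (repW (midI i)) with hw
  by_contra hyM
  have step : ∀ k : Fin 3, ∃ a < 8, y * ev rt (conjW ((mTab i).getD k.val []) ((zTab i).getD a [])) =
      ev rt (conjW ((mTab i).getD k.val []) ((zTab i).getD a [])) * y := by
    intro k
    set m := ev rt ((mTab i).getD k.val []) with hm
    have hmw : m * w * m⁻¹ = w := by rw [hm, hw, ← F.ev_conj]; exact ev_eq F.rel (mTab_comm i k)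
    have hmw' : m⁻¹ * w * m = w := by conv_lhs => rw [← hmw]
                                      group
    have hy' : IsConj (rt 23) (m⁻¹ * y * m) := hy.trans (isConj_iff.mpr ⟨m⁻¹, by rw [inv_inv]⟩)
    have hy'w : m⁻¹ * y * m * w = w * (m⁻¹ * y * m) := by
      calc m⁻¹ * y * m * w = m⁻¹ * (y * (m * w * m⁻¹)) * m := by group
        _ = m⁻¹ * ((m * w * m⁻¹) * y) * m := by rw [hmw, hyw]
        _ = w * (m⁻¹ * y * m) := by group
    have hnc : ¬ ∃ c : G, c * w = w * c ∧ c * rt 23 * c⁻¹ = m⁻¹ * y * m := by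
      rintro ⟨c, hcw, hc⟩
      have h1 : IsConj (rt 23) (rt 23 * w) := by
        refine hp.trans (isConj_iff.mpr ⟨c⁻¹ * m⁻¹, ?_⟩)
        calc c⁻¹ * m⁻¹ * (y * w) * (c⁻¹ * m⁻¹)⁻¹ = c⁻¹ * (m⁻¹ * y * m * (m⁻¹ * w * m)) * c := by group
          _ = c⁻¹ * (c * rt 23 * c⁻¹ * w) * c := by rw [hmw', hc]
          _ = rt 23 * (c⁻¹ * (w * c)) := by group
          _ = rt 23 * (c⁻¹ * (c * w)) := by rw [hcw]
          _ = rt 23 * w := by group
      have hE : rt 23 * w ∈ E := mul_mem ((F.E_iff _).mpr ⟨1, by norm_num, by rw [show sW 1 = [23] by decide +kernel, F.ev_one]⟩)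
        (F.rep_mem_E _)
      obtain ⟨x, hx, e⟩ := F.fus _ hE h1
      have := List.all_eq_true.mp (free_check i) x hx
      rw [Bool.not_eq_true'] at this
      refine ev_ne F.rel F.ne this ?_
      rw [ev_cons]; exact e
    have hM0 : ∀ l : Fin 5, l.val ≤ 0 → F.CM (ev rt (repW l)) := fun l hl => by
      obtain rfl : l = 0 := Fin.ext (Nat.le_zero.mp hl)
      rw [F.rep_zero]; exact F.CM_t
    rcases F.dicho (okP i) (F.rep_comm_t _) hM0 hy' hy'w hnc with h | ⟨a, ha, h⟩
    · exact absurd (F.t_conj_M (ev_mem F.rel _) h) hyM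
    · refine ⟨a, z_length i ▸ ha, ?_⟩
      rw [F.ev_conj, ← hm]
      have := F.conj_back h m
      rwa [show m * (m⁻¹ * y * m) * m⁻¹ = y by group] at this
  obtain ⟨a0, ha0, h0⟩ := step 0
  obtain ⟨a1, ha1, h1⟩ := step 1
  obtain ⟨a2, ha2, h2⟩ := step 2
  have hres := res_all i (q := 64 * a0 + 8 * a1 + a2) (by omega)
  unfold resOk at hres
  generalize hq : 64 * a0 + 8 * a1 + a2 = q at hres
  have hg : ∀ g ∈ gensW i q, y * ev rt g = ev rt g * y := by
    intro g hg
    simp only [gensW, List.mem_cons, List.not_mem_nil, or_false] at hg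
    rw [show q / 64 = a0 by omega, show q / 8 % 8 = a1 by omega, show q % 8 = a2 by omega] at hg
    rcases hg with rfl | rfl | rfl | rfl
    exacts [hyw, h0, h1, h2]
  have hk : ∀ ks : List ℕ, Commute y (ev rt ((ks.map fun k => (gensW i q).getD k []).flatten)) := by
    intro ks
    induction ks with
    | nil => exact Commute.one_right y
    | cons k ks ih =>
      rw [List.map_cons, List.flatten_cons, ev_append]
      refine Commute.mul_right ?_ ih
      rcases Nat.lt_or_ge k (gensW i q).length with h | h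
      · rw [List.getD_eq_getElem _ _ h]; exact hg _ (List.getElem_mem h)
      · rw [List.getD_eq_default _ _ h]; exact Commute.one_right y
  have e := hk ((resTabP i).getD q ([], [])).1
  rw [ev_eq F.rel hres, F.ev_conj, F.ev_one] at e
  exact hyM (F.CM_conj (ev_mem F.rel _) F.CM_t y e)

/-- The centralizers of the middle classes. -/
theorem CM_mid (i : Fin 3) : F.CM (ev rt (repW (midI i))) := by
  set w := ev rt (repW (midI i)) with hw
  intro x hx
  obtain ⟨h1, h2⟩ := partner_check i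
  obtain ⟨f1, hf1, e1⟩ := List.any_eq_true.mp h1
  obtain ⟨f2, hf2, e2⟩ := List.any_eq_true.mp h2
  have hr : IsConj (rt 23) (rt (pRoot i)) := by
    rw [← F.ev_one (pRoot i), ev_eq F.rel e1]; exact F.fusW_conj hf1
  have hrw : IsConj (rt 23) (rt (pRoot i) * w) := by
    rw [← F.ev_one (pRoot i), hw, ← ev_append, ev_eq F.rel e2]; exact F.fusW_conj hf2
  have hcomm : rt (pRoot i) * w = w * rt (pRoot i) := by
    rw [← F.ev_one (pRoot i)]; exact F.commute_of_same (pRoot_check i)
  have hxw : x * w * x⁻¹ = w := by rw [hx, mul_inv_cancel_right]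
  have hy : x * rt (pRoot i) * x⁻¹ ∈ F.M := by
    refine F.partner_mem i (hr.trans (isConj_iff.mpr ⟨x, rfl⟩)) ?_ ?_
    · have := F.conj_back hcomm x
      rwa [hxw] at this
    · refine hrw.trans (isConj_iff.mpr ⟨x, ?_⟩)
      calc x * (rt (pRoot i) * w) * x⁻¹ = x * rt (pRoot i) * x⁻¹ * (x * w * x⁻¹) := by group
        _ = _ := by rw [hxw]
  obtain ⟨m, hm, e⟩ := F.root_conj hy (hr.trans (isConj_iff.mpr ⟨x, rfl⟩))
  obtain ⟨m0, hm0, e0⟩ := F.root_conj (F.ev_one (pRoot i) ▸ ev_mem F.rel _) hr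
  have hcm : m⁻¹ * x * m0 ∈ F.M := by
    refine F.CM_t _ ?_
    calc m⁻¹ * x * m0 * rt 23 = m⁻¹ * (x * (m0 * rt 23 * m0⁻¹) * x⁻¹) * x * m0 := by group
      _ = m⁻¹ * (m * rt 23 * m⁻¹) * x * m0 := by rw [← e0, e]
      _ = rt 23 * (m⁻¹ * x * m0) := by group
  have := mul_mem (mul_mem hm hcm) (inv_mem hm0)
  simpa [mul_assoc] using this

theorem CM_small (l : Fin 5) (hl : l.val ≤ 3) : F.CM (ev rt (repW l)) := by
  rcases eq_or_ne l 0 with rfl | h
  · rw [F.rep_zero]; exact F.CM_t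
  · have h' : l.val ≠ 0 := fun e => h (Fin.ext e)
    rw [show l = midI ⟨l.val - 1, by omega⟩ from Fin.ext (by simp only [midI]; omega)]
    exact F.CM_mid _

/-- The centralizer of the large class. -/
theorem CM_large : F.CM (ev rt (repW 4)) := by
  set w := ev rt (repW 4) with hw
  set c0 := ev rt wMove with hc0
  set w' := ev rt (sW wTwo) with hw'
  have ew : c0 * w * c0⁻¹ = w' := by rw [hc0, hw, hw', ← F.ev_conj]; exact ev_eq F.rel wTwo_check.1
  have hne : w' ∉ E := fun h => by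
    obtain ⟨i, hi, e⟩ := (F.E_iff _).mp h
    have := List.all_eq_true.mp wTwo_check.2 i (List.mem_range.mpr hi)
    rw [Bool.not_eq_true'] at this
    exact ev_ne F.rel F.ne this e
  have hw't : w' * rt 23 = rt 23 * w' := by
    have h : sameW (sW wTwo ++ [23]) ([23] ++ sW wTwo) = true := by decide +kernel
    simpa [ev_append, ev_cons, F.ev_one] using ev_eq F.rel h
  have hall : ∀ y : G, IsConj (rt 23) y → y * w = w * y → y ∈ F.M := by
    intro y hy hyw
    by_contra hyM
    obtain ⟨c, hc, ec⟩ : ∃ c : G, c * w = w * c ∧ c * rt 23 * c⁻¹ = y := by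
      by_contra hn
      rcases F.dicho okW (F.rep_comm_t _) F.CM_small hy hyw hn with h | ⟨a, ha, -⟩
      · exact hyM h
      · simp at ha
    obtain ⟨c', hc', ec'⟩ : ∃ c' : G, c' * w' = w' * c' ∧ c' * rt 23 * c'⁻¹ = c0 * y * c0⁻¹ := by
      by_contra hn
      have h1 := F.conj_back hyw c0
      rw [ew] at h1
      rcases F.dicho okW2 hw't F.CM_small (hy.trans (isConj_iff.mpr ⟨c0, rfl⟩)) h1 hn with h | ⟨a, ha, -⟩
      · exact hyM (F.t_conj_M (inv_mem (ev_mem F.rel wMove)) (by rwa [inv_inv, ← hc0]))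
      · simp at ha
    set d := c'⁻¹ * c0 * c with hd
    have hdt : d * rt 23 = rt 23 * d := by
      calc d * rt 23 = c'⁻¹ * (c0 * (c * rt 23 * c⁻¹) * c0⁻¹) * c0 * c := by rw [hd]; group
        _ = c'⁻¹ * (c' * rt 23 * c'⁻¹) * c0 * c := by rw [ec, ec']
        _ = rt 23 * d := by rw [hd]; group
    have hE := F.nor d hdt w (F.rep_mem_E 4)
    have e : d * w * d⁻¹ = w' := by
      calc d * w * d⁻¹ = c'⁻¹ * (c0 * (c * w * c⁻¹) * c0⁻¹) * c' := by rw [hd]; group
        _ = c'⁻¹ * (w' * c') := by rw [hc, mul_inv_cancel_right, ew, mul_assoc]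
        _ = w' := by rw [← hc']; group
    exact hne (e ▸ hE)
  intro x hx
  have hy : IsConj (rt 23) (x * rt 23 * x⁻¹) := isConj_iff.mpr ⟨x, rfl⟩
  have h1 := F.conj_back (F.rep_comm_t 4).symm x
  have hxw : x * w * x⁻¹ = w := by rw [hx, mul_inv_cancel_right]
  rw [← hw, hxw] at h1
  obtain ⟨m, hm, e⟩ := F.root_conj (hall _ hy h1) hy
  have hcm : m⁻¹ * x ∈ F.M := by
    refine F.CM_t _ ?_
    calc m⁻¹ * x * rt 23 = m⁻¹ * (x * rt 23 * x⁻¹) * x := by group
      _ = rt 23 * (m⁻¹ * x) := by rw [e]; group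
  have := mul_mem hm hcm
  simpa [mul_assoc] using this

theorem CM_rep (l : Fin 5) : F.CM (ev rt (repW l)) := by
  rcases le_or_gt l.val 3 with h | h
  · exact F.CM_small l h
  · obtain rfl : l = 4 := Fin.ext (by show l.val = 4; omega)
    exact F.CM_large

theorem CM_all {z : G} (hz : z ∈ F.M) (hzz : z * z = 1) (h1 : z ≠ 1) : F.CM z := by
  obtain ⟨l, m, hm, e⟩ := F.M_class hz hzz h1
  rw [e]
  exact F.CM_conj hm (F.CM_rep l)

/-- **The root elements generate the group.** -/
theorem M_top : F.M = ⊤ := by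
  set u := ev rt (repW 1) with hu
  have hun : ¬ IsConj (rt 23) u := F.rep_not_conj (by decide)
  have hu1 : u ≠ 1 := by
    intro e
    have h : sameW (repW 1) [] = false := by decide +kernel
    exact ev_ne F.rel F.ne h (e.trans ev_nil.symm)
  have huu : u * u = 1 := by
    have h : sameW (repW 1 ++ repW 1) [] = true := by decide +kernel
    rw [hu, ← ev_append, ev_eq F.rel h, ev_nil]
  have hsub : ∀ g : G, g * u * g⁻¹ ∈ F.M := by
    intro g
    set y := g * u * g⁻¹ with hy
    have hyy : y * y = 1 := by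
      calc y * y = g * (u * u) * g⁻¹ := by rw [hy]; group
        _ = 1 := by rw [huu]; group
    obtain ⟨z, -, hzz, hz1, hzt, hzy, -⟩ := dihedral_central (H := (⊤ : Subgroup G)) (x := rt 23) (y := y)
      (mem_top _) (mem_top _) (F.rel.sq 23) hyy (by
        rintro ⟨c, -, hc⟩
        exact hun ((isConj_iff.mpr ⟨c, hc⟩).trans (isConj_iff.mpr ⟨g, rfl⟩).symm))
    exact F.CM_all (F.CM_t z hzt) hzz hz1 y hzy.symm
  set N := Subgroup.normalClosure ({u} : Set G) with hN
  have hNM : N ≤ F.M := by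
    rw [hN, Subgroup.normalClosure, Subgroup.closure_le]
    intro v hv
    obtain ⟨w, hw, hvw⟩ := Group.mem_conjugatesOfSet_iff.mp hv
    obtain rfl := hw
    obtain ⟨g, rfl⟩ := isConj_iff.mp hvw
    exact hsub g
  have hMn : F.M.Normal := by
    have := M_simple F.rel F.ne
    have hN' : N.subgroupOf F.M = ⊤ := by
      refine (Subgroup.Normal.eq_bot_or_eq_top inferInstance).resolve_left fun hb => hu1 ?_
      have : (⟨u, ev_mem F.rel _⟩ : ↥F.M) ∈ N.subgroupOf F.M := Subgroup.subset_normalClosure rfl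
      rw [hb, Subgroup.mem_bot] at this
      exact congrArg Subtype.val this
    rw [le_antisymm (Subgroup.subgroupOf_eq_top.mp hN') hNM]
    infer_instance
  have := Fact.mk Nat.prime_two
  let P : Sylow 2 ↥F.M :=
    { toSubgroup := S.subgroupOf F.M
      isPGroup' := F.S_two.of_equiv (Subgroup.subgroupOfEquivOfLe F.S_le_M).symm
      is_maximal' := fun {Q} hQ hle => by
        have h1 : S ≤ Q.map F.M.subtype := fun s hs => ⟨⟨s, F.S_le_M hs⟩, hle hs, rfl⟩
        have h2 := F.S_max _ (hQ.map F.M.subtype) h1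
        refine le_antisymm (fun q hq => ?_) hle
        show (q : G) ∈ S
        exact h2.le ⟨q, hq, rfl⟩ }
  have hfr := Sylow.normalizer_sup_eq_top P
  rw [eq_top_iff, ← hfr]
  refine sup_le (fun g hg => ?_) le_rfl
  refine F.CM_t g (F.S_nor g ?_)
  rwa [show (P : Subgroup ↥F.M).map F.M.subtype = S from
    Subgroup.map_subgroupOf_eq_of_le F.S_le_M] at hg

/-- **The group is `Ω⁺₈(2)`.** -/
theorem omega_iso : Nonempty (G ≃* Cfsg.Omega (ZMod 2) (Cfsg.quadFormPlus 4 (ZMod 2))) := by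
  obtain ⟨e⟩ := M_omega F.rel F.ne
  exact ⟨(Subgroup.topEquiv.symm.trans (MulEquiv.subgroupCongr F.M_top.symm)).trans e⟩

end CfsgLib.O8C.O8Frame
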