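import Cfsg.Agent.Lib.OEightCent.Relations
import Cfsg.Agent.Lib.OEightCent.Endgame

/-!
The root elements form a frame for the end game.
-/

set_option autoImplicit false
set_option maxRecDepth 8000

namespace CfsgLib.O8C

open Subgroup CfsgLargeExtra

universe u

/-- The translates in the order of the basis. -/
def basR : List ((Fin 2 × Fin 2 × Fin 2) × Fin 24) :=
  [((0, 0, 0), 22), ((1, 0, 0), 17), ((0, 1, 0), 20), ((0, 0, 1), 21), ((0, 1, 1), 19), ((1, 0, 1), 16),
    ((1, 1, 0), 15), ((1, 1, 1), 14)]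

/-- The word of a product of translates. -/
def prodW (c : Fin 2 × Fin 2 × Fin 2 → Bool) : List (Fin 24) := (basR.filter fun p => c p.1).map Prod.snd

/-- All coefficient vectors. -/
def cOf (k : ℕ) (m : Fin 2 × Fin 2 × Fin 2) : Bool := k.testBit (4 * m.1.val + 2 * m.2.1.val + m.2.2.val)

theorem cOf_surj : ∀ c : Fin 2 × Fin 2 × Fin 2 → Bool, ∃ k, k < 256 ∧ cOf k = c := by
  intro c
  have h : ∀ b0 b1 b2 b3 b4 b5 b6 b7 : Bool,
      b0.toNat + 2 * b1.toNat + 4 * b2.toNat + 8 * b3.toNat + 16 * b4.toNat + 32 * b5.toNat + 64 * b6.toNat +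
        128 * b7.toNat < 256 ∧
      [cOf (b0.toNat + 2 * b1.toNat + 4 * b2.toNat + 8 * b3.toNat + 16 * b4.toNat + 32 * b5.toNat + 64 * b6.toNat +
        128 * b7.toNat)].map (fun f => [f (0, 0, 0), f (0, 0, 1), f (0, 1, 0), f (0, 1, 1), f (1, 0, 0), f (1, 0, 1),
          f (1, 1, 0), f (1, 1, 1)]) = [[b0, b1, b2, b3, b4, b5, b6, b7]] := by
    decide +kernel
  obtain ⟨h1, h2⟩ := h (c (0, 0, 0)) (c (0, 0, 1)) (c (0, 1, 0)) (c (0, 1, 1)) (c (1, 0, 0)) (c (1, 0, 1))
    (c (1, 1, 0)) (c (1, 1, 1))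
  refine ⟨_, h1, funext fun m => ?_⟩
  simp only [List.map_cons, List.map_nil, List.cons.injEq, and_true] at h2
  obtain ⟨e0, e1, e2, e3, e4, e5, e6, e7⟩ := h2
  obtain ⟨m0, m1, m2⟩ := m
  fin_cases m0 <;> fin_cases m1 <;> fin_cases m2
  exacts [e0, e1, e2, e3, e4, e5, e6, e7]

theorem reorder_check : (List.range 256).all (fun k => (List.range 256).any fun j =>
    sameW (prodW (cOf k)) (sW (2 * j)) || sameW (prodW (cOf k)) (sW (2 * j + 1))) = true := by
  decide +kernel

theorem shift_check : ∀ k : Fin 256, sameW (sW (2 * k.val) ++ [23]) (sW (2 * k.val + 1)) = true ∧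
    sameW (sW (2 * k.val + 1) ++ [23]) (sW (2 * k.val)) = true := by decide +kernel

theorem sW_E_roots : ∀ i : Fin 512, ∀ r ∈ sW i.val,
    r = 23 ∨ (r.val ∈ [22, 21, 20, 19, 17, 16, 15, 14]) := by decide +kernel

theorem sW_S_roots : ∀ i : Fin 4096, ∀ r ∈ sW i.val, 12 ≤ r.val := by decide +kernel

theorem tW_roots : ∀ j : Fin 27, ∀ r ∈ tW j.val, r.val ∈ [18, 5, 13, 10, 12, 11] := by decide +kernel

theorem sW_split : ∀ i : Fin 512, ∀ j : Fin 8,
    sW (512 * j.val + i.val) = sW i.val ++ sW (512 * j.val) := by decide +kernel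

theorem sW_top : ∀ j : Fin 8, sW (512 * j.val) =
    (if j.val % 2 = 1 then [18] else []) ++ (if j.val / 2 % 2 = 1 then [13] else []) ++
      (if j.val / 4 = 1 then [12] else []) := by decide +kernel

theorem coset_check : ∀ q : Q3, ∃ j : Fin 27, ((σg 0) ^ (j.val / 9) * (σg 1) ^ (j.val / 3 % 3) * (σg 2) ^ (j.val % 3))⁻¹ * q
    ∈ A0 := by
  simp only [mem_A0]
  decide +kernel

theorem a0_forms : ∀ q : Q3, q ∈ A0 → ∃ j : Fin 8, q = (if j.val % 2 = 1 then τg 0 else 1) *
    (if j.val / 2 % 2 = 1 then τg 1 else 1) * (if j.val / 4 = 1 then τg 2 else 1) := by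
  simp only [mem_A0]
  decide +kernel

variable {G : Type u} [Group G] [Finite G] {t : G} {E : Subgroup G} {π : G → Q3} {g : G} {x a : Fin 3 → G} {n : G}

namespace Swap8

variable (S : Swap8 t E π g x a n)
include S

theorem root_t : S.root 23 = t := rfl

theorem root_s : S.root 22 = g * t * g⁻¹ := by
  rw [S.root_pos 22 (by decide)]
  exact S.bv_zero

theorem root_mem_E {r : Fin 24} (h : r.val ∈ [22, 21, 20, 19, 17, 16, 15, 14]) : S.root r ∈ E := by
  have key : ∀ r : Fin 24, r.val ∈ [22, 21, 20, 19, 17, 16, 15, 14] →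
      12 ≤ r.val ∧ ∃ m, r = ridx (some (Sum.inr m)) := by decide
  obtain ⟨h12, m, rfl⟩ := key r h
  rw [S.root_pos _ h12, S.posR_ridx]
  exact S.bv_mem m

theorem prodW_ev (c : Fin 2 × Fin 2 × Fin 2 → Bool) : ev S.root (prodW c) = prodS x (g * t * g⁻¹) c := by
  have hb : ∀ p ∈ basR, S.root p.2 = trS x (g * t * g⁻¹) p.1 := by
    intro p hp
    have key : ∀ p ∈ basR, p.2 = ridx (some (Sum.inr p.1)) ∧ 12 ≤ p.2.val := by decide
    obtain ⟨e, h12⟩ := key p hp
    rw [S.root_pos _ h12, e, S.posR_ridx]; rfl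
  have main : ∀ l : List ((Fin 2 × Fin 2 × Fin 2) × Fin 24), (∀ p ∈ l, S.root p.2 = trS x (g * t * g⁻¹) p.1) →
      ev S.root ((l.filter fun p => c p.1).map Prod.snd) =
        ((l.map Prod.fst).map fun m => bif c m then trS x (g * t * g⁻¹) m else 1).prod := by
    intro l
    induction l with
    | nil => intro _; rfl
    | cons p l ih =>
      intro hl
      have h' := ih fun q hq => hl q (List.mem_cons_of_mem _ hq)
      rw [List.map_cons, List.map_cons, List.prod_cons, ← h', List.filter_cons]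
      cases hc : c p.1
      · simp
      · simp only [↓reduceIte, List.map_cons, ev_cons, cond_true, hl p List.mem_cons_self]
  exact main basR hb

theorem E_iff (y : G) : y ∈ E ↔ ∃ i < 512, y = ev S.root (sW i) := by
  constructor
  · intro hy
    obtain ⟨c, hc⟩ := (S.module_facts S.x_t S.a_t S.πx S.πa).1 y hy
    obtain ⟨k, hk, rfl⟩ := cOf_surj c
    have h := List.all_eq_true.mp reorder_check k (List.mem_range.mpr hk)
    obtain ⟨j, hj, hj'⟩ := List.any_eq_true.mp h
    rw [Bool.or_eq_true] at hj'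
    have hj0 := List.mem_range.mp hj
    obtain ⟨i, hi, hi'⟩ : ∃ i < 512, prodS x (g * t * g⁻¹) (cOf k) = ev S.root (sW i) := by
      rw [← S.prodW_ev]
      rcases hj' with e | e
      exacts [⟨_, by omega, ev_eq S.rel e⟩, ⟨_, by omega, ev_eq S.rel e⟩]
    rcases hc with rfl | rfl
    · exact ⟨i, hi, hi'⟩
    · obtain ⟨k', hk'⟩ : ∃ k', i = 2 * k' ∨ i = 2 * k' + 1 := ⟨i / 2, by omega⟩
      have hlt : k' < 256 := by omega
      rcases hk' with rfl | rfl
      · refine ⟨2 * k' + 1, by omega, ?_⟩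
        rw [hi', ← ev_eq S.rel (shift_check ⟨k', hlt⟩).1, ev_append, ev_cons, ev_nil, mul_one, S.root_t]
      · refine ⟨2 * k', by omega, ?_⟩
        rw [hi', ← ev_eq S.rel (shift_check ⟨k', hlt⟩).2, ev_append, ev_cons, ev_nil, mul_one, S.root_t]
  · rintro ⟨i, hi, rfl⟩
    refine Subgroup.list_prod_mem _ fun z hz => ?_
    obtain ⟨r, hr, rfl⟩ := List.mem_map.mp hz
    rcases sW_E_roots ⟨i, hi⟩ r hr with rfl | h
    exacts [S.es.mem, S.root_mem_E h]

/-- The Sylow subgroup. -/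
def SS : Subgroup G := (A0.comap S.πhom).map (Subgroup.centralizer ({t} : Set G)).subtype

theorem mem_SS {y : G} : y ∈ S.SS ↔ y * t = t * y ∧ π y ∈ A0 := by
  constructor
  · rintro ⟨c, hc, rfl⟩
    exact ⟨Subgroup.mem_centralizer_singleton_iff.mp c.2, hc⟩
  · rintro ⟨h1, h2⟩
    exact ⟨⟨y, Subgroup.mem_centralizer_singleton_iff.mpr h1⟩, h2, rfl⟩

theorem card_SS : Nat.card S.SS = 4096 := by
  rw [SS, Subgroup.card_map_of_injective (Subgroup.subtype_injective _)]
  have h := Subgroup.card_mul_index (A0.comap S.πhom)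
  rw [Subgroup.index_comap_of_surjective _ S.πhom_surj, S.card_C] at h
  have h2 := Subgroup.card_mul_index A0
  rw [card_A0, card_Q3] at h2
  have : A0.index = 27 := by omega
  rw [this] at h
  omega

theorem SS_two : IsPGroup 2 S.SS := IsPGroup.of_card (n := 12) S.card_SS

theorem SS_le : S.SS ≤ Subgroup.centralizer ({t} : Set G) := fun _ hy =>
  Subgroup.mem_centralizer_singleton_iff.mpr (S.mem_SS.mp hy).1

theorem top_eq : S.root 18 = a 0 ∧ S.root 13 = a 1 ∧ S.root 12 = a 2 :=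
  ⟨S.root_pos 18 (by decide), S.root_pos 13 (by decide), S.root_pos 12 (by decide)⟩

theorem S_iff (y : G) : y ∈ S.SS ↔ ∃ i < 4096, y = ev S.root (sW i) := by
  obtain ⟨e18, e13, e12⟩ := S.top_eq
  constructor
  · intro hy
    obtain ⟨hyt, hya⟩ := S.mem_SS.mp hy
    obtain ⟨j, hj⟩ := a0_forms _ hya
    set A := (if j.val % 2 = 1 then a 0 else 1) * (if j.val / 2 % 2 = 1 then a 1 else 1) *
      (if j.val / 4 = 1 then a 2 else 1) with hA
    have hp : ∀ (P : Prop) [Decidable P] (i : Fin 3), Commute (if P then a i else 1) t ∧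
        π (if P then a i else 1) = if P then τg i else 1 := fun P _ i => by
      split_ifs
      exacts [⟨S.a_t i, S.πa i⟩, ⟨Commute.one_left t, S.π_one⟩]
    have hAt : Commute A t := (((hp _ 0).1.mul_left (hp _ 1).1).mul_left (hp _ 2).1)
    have hπA : π A = π y := by
      rw [hj, hA, S.π_mul _ _ ((hp _ 0).1.mul_left (hp _ 1).1).eq (hp _ 2).1.eq,
        S.π_mul _ _ (hp _ 0).1.eq (hp _ 1).1.eq, (hp _ 0).2, (hp _ 1).2, (hp _ 2).2]
    have he : y * A⁻¹ ∈ E := (S.π_ker _ ((show Commute y t from hyt).mul_left hAt.inv_left).eq).mp (by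
      rw [S.π_mul _ _ hyt hAt.inv_left.eq, S.π_inv hAt.eq, hπA, mul_inv_cancel])
    obtain ⟨i, hi, e⟩ := (S.E_iff _).mp he
    refine ⟨512 * j.val + i, by omega, ?_⟩
    rw [sW_split ⟨i, hi⟩ j, ev_append, ← e, sW_top j]
    have : ev S.root ((if j.val % 2 = 1 then [18] else []) ++ (if j.val / 2 % 2 = 1 then [13] else []) ++
        (if j.val / 4 = 1 then [12] else [])) = A := by
      rw [hA, ev_append, ev_append]
      split_ifs <;> simp [ev, e18, e13, e12]
    rw [this, inv_mul_cancel_right]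
  · rintro ⟨i, hi, rfl⟩
    refine Subgroup.list_prod_mem _ fun z hz => ?_
    obtain ⟨r, hr, rfl⟩ := List.mem_map.mp hz
    have h12 := sW_S_roots ⟨i, hi⟩ r hr
    obtain ⟨p, rfl⟩ := ridx_surj r h12
    rw [S.root_pos _ h12, S.posR_ridx, S.mem_SS]
    rcases p with _ | i | m
    · exact ⟨rfl, by show π t ∈ A0; rw [S.π_E S.es.mem]; exact one_mem _⟩
    · exact ⟨S.a_t i, by show π (a i) ∈ A0; rw [S.πa]; exact τg_mem i⟩
    · exact ⟨(S.bv_t m).eq, by show π (S.bv m) ∈ A0; rw [S.π_E (S.bv_mem m)]; exact one_mem _⟩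

theorem tW_ev {j : ℕ} : ev S.root (tW j) = x 0 ^ (j / 9) * x 1 ^ (j / 3 % 3) * x 2 ^ (j % 3) := by
  obtain ⟨e18, e13, e12⟩ := S.top_eq
  have hx : ∀ k : Fin 3, a k * (S.nk k * a k * S.nk k) = x k := by
    intro k
    have hai : (a k)⁻¹ = a k := inv_eq_of_mul_eq_one_right (S.a_sq k)
    have hax : a k * x k * a k = x k * x k := by
      have := S.ax k; rwa [hai] at this
    calc a k * (x k * a k * a k * (x k * a k)) = a k * x k * (a k * a k) * x k * a k := by group
      _ = a k * x k * x k * a k := by rw [S.a_sq, mul_one]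
      _ = (a k * x k * a k) * (a k * x k * a k) := by
          rw [show a k * x k * a k * (a k * x k * a k) = a k * x k * (a k * a k) * x k * a k by group, S.a_sq, mul_one]
      _ = x k * (x k * (x k * x k)) := by rw [hax]; group
      _ = x k := by rw [S.x3, mul_one]
  have r5 : S.root 5 = S.nk 0 * a 0 * S.nk 0 := rfl
  have r10 : S.root 10 = S.nk 1 * a 1 * S.nk 1 := rfl
  have r11 : S.root 11 = S.nk 2 * a 2 * S.nk 2 := rfl
  have hrep : ∀ (l : List (Fin 24)) (z : G), ev S.root l = z → ∀ q, ev S.root (List.replicate q l).flatten = z ^ q := by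
    intro l z hl q
    induction q with
    | zero => simp [ev]
    | succ q ih => rw [List.replicate_succ, List.flatten_cons, ev_append, ih, hl, pow_succ']
  have h0 : ev S.root [18, 5] = x 0 := by rw [ev_cons, ev_cons, ev_nil, mul_one, e18, r5, hx]
  have h1 : ev S.root [13, 10] = x 1 := by rw [ev_cons, ev_cons, ev_nil, mul_one, e13, r10, hx]
  have h2 : ev S.root [12, 11] = x 2 := by rw [ev_cons, ev_cons, ev_nil, mul_one, e12, r11, hx]
  rw [tW, ev_append, ev_append, hrep _ _ h0, hrep _ _ h1, hrep _ _ h2]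

theorem cent_forms {c : G} (hc : c * t = t * c) : ∃ j < 27, ∃ i < 4096, c = ev S.root (tW j ++ sW i) := by
  obtain ⟨j, hj⟩ := coset_check (π c)
  set T := x 0 ^ (j.val / 9) * x 1 ^ (j.val / 3 % 3) * x 2 ^ (j.val % 3) with hT
  have hxp : ∀ (k : Fin 3) (q : ℕ), Commute (x k ^ q) t ∧ π (x k ^ q) = σg k ^ q := fun k q => by
    induction q with
    | zero => exact ⟨by simp, by simp [S.π_one]⟩
    | succ q ih =>
      refine ⟨(show Commute (x k) t from S.x_t k).pow_left _, ?_⟩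
      rw [pow_succ, pow_succ, S.π_mul _ _ ih.1.eq (S.x_t k), ih.2, S.πx]
  have hTt : Commute T t := ((hxp 0 _).1.mul_left (hxp 1 _).1).mul_left (hxp 2 _).1
  have hπT : π T = σg 0 ^ (j.val / 9) * σg 1 ^ (j.val / 3 % 3) * σg 2 ^ (j.val % 3) := by
    rw [hT, S.π_mul _ _ ((hxp 0 _).1.mul_left (hxp 1 _).1).eq (hxp 2 _).1.eq,
      S.π_mul _ _ (hxp 0 _).1.eq (hxp 1 _).1.eq, (hxp 0 _).2, (hxp 1 _).2, (hxp 2 _).2]
  have hs : T⁻¹ * c ∈ S.SS := S.mem_SS.mpr ⟨(hTt.inv_left.mul_left hc).eq, by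
    rw [S.π_mul _ _ hTt.inv_left.eq hc, S.π_inv hTt.eq, hπT]; exact hj⟩
  obtain ⟨i, hi, e⟩ := (S.S_iff _).mp hs
  exact ⟨j.val, j.isLt, i, hi, by rw [ev_append, S.tW_ev, ← hT, ← e, mul_inv_cancel_left]⟩

/-- Fusion of the centre in the core. -/
theorem fus_forms {y : G} (hy : y ∈ E) (hc : IsConj t y) : ∃ w ∈ fusW, y = ev S.root w := by
  obtain ⟨g', hg'⟩ := isConj_iff.mp hc
  by_cases hyt : y = t
  · exact ⟨[23], by simp [fusW], by rw [ev_cons, ev_nil, mul_one, hyt, S.root_t]⟩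
  set s := g * t * g⁻¹ with hs
  have P : Pair8 t E π g' := { toCent8 := S.toCent8, hs := hg' ▸ hy, hne := hg' ▸ hyt }
  obtain ⟨c, hct, hy'⟩ : ∃ c : G, c * t = t * c ∧ ∀ i, a i * (c⁻¹ * y * c) * (a i)⁻¹ = c⁻¹ * y * c ∨
      a i * (c⁻¹ * y * c) * (a i)⁻¹ = c⁻¹ * y * c * t := by
    have := Fact.mk Nat.prime_two
    have hf : 2 ^ (Nat.card Q3).factorization 2 = 8 := by
      rw [card_Q3, show (216 : ℕ) = 2 ^ 3 * 27 from rfl, Nat.factorization_mul (by norm_num) (by norm_num),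
        Nat.Prime.factorization_pow Nat.prime_two, Finsupp.add_apply, Finsupp.single_eq_same,
        Nat.factorization_eq_zero_of_not_dvd (by norm_num : ¬ 2 ∣ 27)]
      rfl
    let S1 : Sylow 2 Q3 := Sylow.ofCard P.πB.range (P.card_X0_range.2.trans hf.symm)
    let S2 : Sylow 2 Q3 := Sylow.ofCard A0 (card_A0.trans hf.symm)
    obtain ⟨k, hk⟩ := MulAction.exists_smul_eq Q3 S2 S1
    obtain ⟨c, hct, hck⟩ := S.π_surj k
    refine ⟨c, hct, fun i => ?_⟩
    have hmem : k * τg i * k⁻¹ ∈ P.πB.range := by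
      have h1 : k * τg i * k⁻¹ ∈ (S1 : Subgroup Q3) := by
        rw [← hk, Sylow.coe_subgroup_smul, Subgroup.mem_pointwise_smul_iff_inv_smul_mem]
        simpa [MulAut.smul_def, S2, mul_assoc] using τg_mem i
      exact h1
    obtain ⟨⟨b, hb, hbt⟩, hbk⟩ := hmem
    have hbt' : Commute b t := Subgroup.mem_centralizer_singleton_iff.mp hbt
    have hby : b * y * b⁻¹ = y := by
      rw [← hg']
      exact mul_inv_eq_iff_eq_mul.mpr (P.es'.comm b hb)
    have hcC : Commute c t := hct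
    have he : (c⁻¹ * b * c)⁻¹ * a i ∈ E := by
      have h3 : Commute (c⁻¹ * b * c) t := (hcC.inv_left.mul_left hbt').mul_left hcC
      refine (S.π_ker _ (h3.inv_left.mul_left (S.a_t i)).eq).mp ?_
      rw [S.π_mul _ _ h3.inv_left.eq (S.a_t i), S.π_inv h3.eq, S.π_mul _ _ (hcC.inv_left.mul_left hbt').eq hct,
        S.π_mul _ _ hcC.inv_left.eq hbt'.eq, S.π_inv hct, hck, show π b = k * τg i * k⁻¹ from hbk, S.πa]
      group
    set b' := c⁻¹ * b * c with hb'
    set y' := c⁻¹ * y * c with hy'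
    have hb'y : b' * y' * b'⁻¹ = y' := by
      rw [hb', hy']
      calc c⁻¹ * b * c * (c⁻¹ * y * c) * (c⁻¹ * b * c)⁻¹ = c⁻¹ * (b * y * b⁻¹) * c := by group
        _ = c⁻¹ * y * c := by rw [hby]
    have hy'E : y' ∈ E := by
      have := S.es.nor c⁻¹ hcC.inv_left.eq y hy
      rwa [inv_inv] at this
    have hb't : b' * t * b'⁻¹ = t :=
      mul_inv_eq_iff_eq_mul.mpr ((hcC.inv_left.mul_left hbt').mul_left hcC).eq
    rcases S.es.conj_cases he hy'E with e | e
    · left
      rw [show a i * y' * (a i)⁻¹ = b' * (b'⁻¹ * a i * y' * (b'⁻¹ * a i)⁻¹) * b'⁻¹ by group, e, hb'y]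
    · right
      rw [show a i * y' * (a i)⁻¹ = b' * (b'⁻¹ * a i * y' * (b'⁻¹ * a i)⁻¹) * b'⁻¹ by group, e,
        show b' * (y' * t) * b'⁻¹ = b' * y' * b'⁻¹ * (b' * t * b'⁻¹) by group, hb'y, hb't]
  set y' := c⁻¹ * y * c with hy'def
  have hcC : Commute c t := hct
  have hy'E : y' ∈ E := by
    have := S.es.nor c⁻¹ hcC.inv_left.eq y hy
    rwa [inv_inv] at this
  -- only the first coefficient survives
  obtain ⟨d, hd⟩ := (S.module_facts S.x_t S.a_t S.πx S.πa).1 y' hy'E
  have hfree : ∀ m i, crd m i ≠ 0 → Commute y' (S.bv (clr i m)) := by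
    intro m i hm
    have hai := S.a_conj_bv i hm
    have h1 : Commute y' (S.bv m) ↔ Commute y' (S.bv (clr i m) * S.bv m) := by
      rw [← commute_conj_iff' (u := y') (v := S.bv m) (a i), hai]
      rcases hy' i with e | e <;> rw [e]
      rw [Commute.symm_iff, commute_mul_z_iff, Commute.symm_iff]
      exact S.es.comm _ (mul_mem (S.bv_mem _) (S.bv_mem _))
    have h2 := es_mul_comm_iff S.es (S.bv_mem (clr i m)) (S.bv_mem m) hy'E
    rw [Commute.symm_iff (a := S.bv (clr i m) * S.bv m), Commute.symm_iff (a := S.bv (clr i m)),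
      Commute.symm_iff (a := S.bv m), ← h1] at h2
    tauto
  have hd0 : ∀ m, m ≠ 0 → d m = false := by
    intro m hm
    obtain ⟨m', i, h1, h2⟩ := (by decide : ∀ m : Fin 2 × Fin 2 × Fin 2, m ≠ 0 →
      ∃ m' i, crd m' i ≠ 0 ∧ clr i m' = cpl m) m hm
    have hcomm := h2 ▸ hfree m' i h1
    have hp : Commute (prodS x s d) (S.bv (cpl m)) := by
      rcases hd with e | e
      · rwa [← e]
      · have h := hcomm.mul_left (S.bv_t (cpl m)).symm.inv_left
        rwa [e, mul_inv_cancel_right] at h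
    have := (S.bv_prod_commute_iff d (cpl m)).mp hp
    rwa [(by decide : ∀ m, cpl (cpl m) = m) m] at this
  have hpd : prodS x s d = bif d 0 then s else 1 := by
    rw [prodS]
    simp only [L8, List.map_cons, List.map_nil, List.prod_cons, List.prod_nil, hd0 (1, 0, 0) (by decide),
      hd0 (0, 1, 0) (by decide), hd0 (0, 0, 1) (by decide), hd0 (0, 1, 1) (by decide), hd0 (1, 0, 1) (by decide),
      hd0 (1, 1, 0) (by decide), hd0 (1, 1, 1) (by decide), cond_false, mul_one]
    rw [show trS x s (0, 0, 0) = s from S.bv_zero]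
    rfl
  have hy's : y' = s ∨ y' = s * t := by
    rw [hpd] at hd
    cases h : d 0 <;> rw [h] at hd
    · exfalso
      have hy2 : y = c * y' * c⁻¹ := by rw [hy'def]; group
      simp only [cond_false, one_mul] at hd
      rcases hd with e | e
      · refine S.es.ne (conj_eq_one_iff.mp (hg'.trans ?_))
        rw [hy2, e]; group
      · refine hyt ?_
        rw [hy2, e, hct, mul_inv_cancel_right]
    · exact hd
  obtain ⟨j, hj, i, hi, hce⟩ := S.cent_forms hct
  set T := ev S.root (tW j) with hT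
  set u := ev S.root (sW i) with hu
  have huS : u ∈ S.SS := (S.S_iff u).mpr ⟨i, hi, rfl⟩
  obtain ⟨hut, hua⟩ := S.mem_SS.mp huS
  have hTt : Commute T t := by
    rw [hT, S.tW_ev]
    exact (((show Commute (x 0) t from S.x_t 0).pow_left _).mul_left ((show Commute (x 1) t from S.x_t 1).pow_left _)).mul_left
      ((show Commute (x 2) t from S.x_t 2).pow_left _)
  have hus : u * s * u⁻¹ = s ∨ u * s * u⁻¹ = s * t := by
    obtain ⟨b, hb, hbt, hbq⟩ := S.onto _ hua
    have he : b⁻¹ * u ∈ E := (S.π_ker _ ((show Commute b t from hbt).inv_left.mul_left hut).eq).mp (by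
      rw [S.π_mul _ _ (show Commute b t from hbt).inv_left.eq hut, S.π_inv hbt, hbq, inv_mul_cancel])
    have hbs : b * s * b⁻¹ = s := mul_inv_eq_iff_eq_mul.mpr (S.es'.comm b hb)
    rcases S.es.conj_cases he S.hs with e | e
    · left
      rw [show u * s * u⁻¹ = b * (b⁻¹ * u * s * (b⁻¹ * u)⁻¹) * b⁻¹ by group, e, hbs]
    · right
      rw [show u * s * u⁻¹ = b * (b⁻¹ * u * s * (b⁻¹ * u)⁻¹) * b⁻¹ by group, e,
        show b * (s * t) * b⁻¹ = b * s * b⁻¹ * (b * t * b⁻¹) by group, hbs, mul_inv_eq_iff_eq_mul.mpr hbt]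
  have hut' : u * t * u⁻¹ = t := mul_inv_eq_iff_eq_mul.mpr hut
  have hTt' : T * t * T⁻¹ = t := mul_inv_eq_iff_eq_mul.mpr hTt.eq
  have hfin : y = T * s * T⁻¹ ∨ y = T * s * T⁻¹ * t := by
    rw [ev_append, ← hT, ← hu] at hce
    have hy2 : y = T * (u * y' * u⁻¹) * T⁻¹ := by rw [hy'def, hce]; group
    have hus' : ∀ z, (z = s ∨ z = s * t) → u * z * u⁻¹ = s ∨ u * z * u⁻¹ = s * t := by
      rintro z (rfl | rfl)
      · exact hus
      · rw [show u * (s * t) * u⁻¹ = u * s * u⁻¹ * (u * t * u⁻¹) by group, hut']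
        rcases hus with e | e <;> rw [e]
        · exact Or.inr rfl
        · left; rw [mul_assoc, S.es.zz, mul_one]
    rcases hus' y' hy's with e | e <;> rw [hy2, e]
    · exact Or.inl rfl
    · right
      rw [show T * (s * t) * T⁻¹ = T * s * T⁻¹ * (T * t * T⁻¹) by group, hTt']
  have hev : ev S.root (conjW (tW j) [22]) = T * s * T⁻¹ := by
    rw [conjW, ev_append, ev_append, ev_reverse S.rel, ev_cons, ev_nil, mul_one, S.root_s]
  rcases hfin with e | e
  · refine ⟨_, ?_, e.trans hev.symm⟩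
    simp only [fusW, List.cons_append, List.mem_cons, List.mem_append, List.mem_map, List.mem_range]
    exact Or.inr (Or.inl ⟨j, hj, rfl⟩)
  · refine ⟨conjW (tW j) [22] ++ [23], ?_, ?_⟩
    · simp only [fusW, List.cons_append, List.mem_cons, List.mem_append, List.mem_map, List.mem_range]
      exact Or.inr (Or.inr ⟨j, hj, rfl⟩)
    · rw [ev_append, hev, ev_cons, ev_nil, mul_one, S.root_t]
      exact e

/-- **The frame of the end game.** -/
theorem frame : O8Frame S.root E S.SS where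
  rel := S.rel
  ne := by rw [S.root_t]; exact S.es.ne
  nor := fun c hc => S.es.nor c (by rw [S.root_t] at hc; exact hc)
  E_iff := S.E_iff
  S_iff := S.S_iff
  S_two := S.SS_two
  S_max := fun P hP hle => S.sylow_max S.SS_two S.SS_le S.card_SS P hP hle
  S_nor := fun g hg => by rw [S.root_t]; exact S.sylow_nor S.SS_two S.SS_le S.card_SS hg
  cent := fun c hc => S.cent_forms (by rw [S.root_t] at hc; exact hc)
  s_conj := isConj_iff.mpr ⟨g, by rw [S.root_t, S.root_s]⟩
  fus := fun y hy hc => S.fus_forms hy (by rw [S.root_t] at hc; exact hc)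

end Swap8

end CfsgLib.O8C
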