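import Cfsg.Agent.Lib.OEightCent.Odd
import Mathlib.Tactic

/-!
Translates of the second involution: commutation, the sign normalisation, and a complement to the core.
-/

set_option autoImplicit false
set_option maxRecDepth 8000

namespace CfsgLib.O8C

open Subgroup CfsgLargeExtra

universe u

variable {G : Type u} [Group G]

/-- The complementary coordinate vector. -/
def cpl (m : Fin 2 × Fin 2 × Fin 2) : Fin 2 × Fin 2 × Fin 2 := (m.1 + 1, m.2.1 + 1, m.2.2 + 1)

/-- A coordinate of a vector. -/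
def crd (m : Fin 2 × Fin 2 × Fin 2) : Fin 3 → ℕ := ![m.1.val, m.2.1.val, m.2.2.val]

/-- The translating element without one coordinate. -/
def restW (x : Fin 3 → G) (m : Fin 2 × Fin 2 × Fin 2) : Fin 3 → G :=
  ![x 2 ^ m.2.2.val * x 1 ^ m.2.1.val, x 2 ^ m.2.2.val * x 0 ^ m.1.val, x 1 ^ m.2.1.val * x 0 ^ m.1.val]

/-- Commutation with a product in the extraspecial core. -/
theorem es_mul_comm_iff {Q : Subgroup G} {z : G} (h : ES Q z) {a b c : G} (ha : a ∈ Q) (hb : b ∈ Q) (hc : c ∈ Q) :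
    Commute (a * b) c ↔ (Commute a c ↔ Commute b c) := by
  have := h.toExt.mul_comm_iff (g₁ := ⟨a, ha⟩) (g₂ := ⟨b, hb⟩) (a := ⟨c, hc⟩)
  simpa only [Subtype.ext_iff, Subgroup.coe_mul, commute_iff_eq] using this

theorem commute_mul_z_iff {u v z : G} (huz : u * z = z * u) : Commute u (v * z) ↔ Commute u v :=
  ⟨fun h => by simpa using h.mul_right (Commute.inv_right huz), fun h => h.mul_right huz⟩

theorem commute_conj_iff' {u v : G} (c : G) : Commute (c * u * c⁻¹) (c * v * c⁻¹) ↔ Commute u v := by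
  constructor
  · intro h
    have := congrArg (fun y => c⁻¹ * y * c) h.eq
    simpa [mul_assoc, commute_iff_eq] using this
  · intro h
    show c * u * c⁻¹ * (c * v * c⁻¹) = c * v * c⁻¹ * (c * u * c⁻¹)
    rw [show c * u * c⁻¹ * (c * v * c⁻¹) = c * (u * v) * c⁻¹ by group, h.eq]; group

/-- An element commuting with a maximal abelian subgroup lies in it. -/
theorem abelian_mem [Finite G] {Q : Subgroup G} {z : G} (h : ES Q z) (hcard : Nat.card Q = 512) {A : Subgroup G}
    (hA : A ≤ Q) (hz : z ∈ A) (hcA : Nat.card A = 32) (hc : ∀ a ∈ A, ∀ b ∈ A, a * b = b * a) {w : G} (hw : w ∈ Q)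
    (hwc : ∀ a ∈ A, w * a = a * w) : w ∈ A := by
  set A' := A ⊔ Subgroup.zpowers w with hA'
  have hcomm : ∀ a ∈ A', ∀ c ∈ A', a * c = c * a := by
    have hsub : A' ≤ Subgroup.centralizer (A' : Set G) := by
      rw [hA', Subgroup.sup_eq_closure, Subgroup.centralizer_closure, Subgroup.closure_le]
      rintro x (hx | hx) <;> refine Subgroup.mem_centralizer_iff.mpr ?_ <;> rintro y (hy | hy)
      · exact hc y hy x hx
      · obtain ⟨n, rfl⟩ := Subgroup.mem_zpowers_iff.mp hy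
        exact ((show Commute w x from hwc x hx).zpow_left n).eq
      · obtain ⟨n, rfl⟩ := Subgroup.mem_zpowers_iff.mp hx
        exact ((show Commute w y from hwc y hy).zpow_left n).eq.symm
      · obtain ⟨n, rfl⟩ := Subgroup.mem_zpowers_iff.mp hx
        obtain ⟨m, rfl⟩ := Subgroup.mem_zpowers_iff.mp hy
        exact (Commute.refl w).zpow_zpow m n
    exact fun a ha c hc => Subgroup.mem_centralizer_iff.mp (hsub hc) a ha
  have h32 := abelian_le h hcard (A := A') (sup_le hA ((Subgroup.zpowers_le).mpr hw)) (Subgroup.mem_sup_left hz) hcomm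
  have he : A = A' := Subgroup.eq_of_le_of_card_ge le_sup_left (by rw [hcA]; exact h32)
  exact he ▸ Subgroup.mem_sup_right (Subgroup.mem_zpowers w)

namespace Odd8

variable {t : G} {π : G → Q3} {x a : Fin 3 → G} (O : Odd8 t π x a)
include O

theorem trW_t (m : Fin 2 × Fin 2 × Fin 2) : trW x m * t = t * trW x m :=
  ((Commute.pow_left (O.x_t 2) _).mul_left ((Commute.pow_left (O.x_t 1) _).mul_left (Commute.pow_left (O.x_t 0) _))).eq

theorem trW_rest (m : Fin 2 × Fin 2 × Fin 2) (i : Fin 3) : trW x m = restW x m i * x i ^ crd m i := by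
  have h : ∀ i j (p q : ℕ), Commute (x i ^ p) (x j ^ q) := fun i j p q => (show Commute (x i) (x j) from O.xx i j).pow_pow p q
  fin_cases i
  · exact (mul_assoc _ _ _).symm
  · show trW x m = x 2 ^ m.2.2.val * x 0 ^ m.1.val * x 1 ^ m.2.1.val
    rw [trW, (h 1 0 _ _).eq, mul_assoc]
  · show trW x m = x 1 ^ m.2.1.val * x 0 ^ m.1.val * x 2 ^ m.2.2.val
    exact ((h 2 1 _ _).mul_right (h 2 0 _ _)).eq

theorem rest_comm (m : Fin 2 × Fin 2 × Fin 2) (i : Fin 3) :
    Commute (a i) (restW x m i) ∧ Commute (x i) (restW x m i) := by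
  have h : ∀ j, Commute (x i) (x j) := fun j => O.xx i j
  have h' : ∀ j, i ≠ j → Commute (a i) (x j) := fun j hj => mul_inv_eq_iff_eq_mul.mp (O.axj i j hj)
  fin_cases i
  · exact ⟨((h' 2 (by decide)).pow_right _).mul_right ((h' 1 (by decide)).pow_right _),
      ((h 2).pow_right _).mul_right ((h 1).pow_right _)⟩
  · exact ⟨((h' 2 (by decide)).pow_right _).mul_right ((h' 0 (by decide)).pow_right _),
      ((h 2).pow_right _).mul_right ((h 0).pow_right _)⟩
  · exact ⟨((h' 1 (by decide)).pow_right _).mul_right ((h' 0 (by decide)).pow_right _),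
      ((h 1).pow_right _).mul_right ((h 0).pow_right _)⟩

end Odd8

variable [Finite G] {t : G} {E : Subgroup G} {π : G → Q3} {g : G} {x a : Fin 3 → G}

namespace Std8

variable (D : Std8 t E π g) (O : Odd8 t π x a)
include D O

theorem s_ne_one : g * t * g⁻¹ ≠ 1 := D.es'.ne

theorem a_s (i : Fin 3) : a i * (g * t * g⁻¹) * (a i)⁻¹ = g * t * g⁻¹ ∨
    a i * (g * t * g⁻¹) * (a i)⁻¹ = g * t * g⁻¹ * t := by
  obtain ⟨b, hb, hbt, hb'⟩ := D.onto _ (τg_mem i)
  have he : b⁻¹ * a i ∈ E := (D.π_ker _ (Commute.mul_left (Commute.inv_left hbt) (O.a_t i)).eq).mp (by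
    rw [D.π_mul _ _ (Commute.inv_left hbt) (O.a_t i), D.π_inv hbt, hb', O.πa, inv_mul_cancel])
  have hs := D.es'.comm b hb
  rcases D.es.conj_cases he D.hs with e | e
  · left
    calc a i * (g * t * g⁻¹) * (a i)⁻¹ = b * (b⁻¹ * a i * (g * t * g⁻¹) * (b⁻¹ * a i)⁻¹) * b⁻¹ := by group
      _ = g * t * g⁻¹ := by rw [e, hs, mul_inv_cancel_right]
  · right
    calc a i * (g * t * g⁻¹) * (a i)⁻¹ = b * (b⁻¹ * a i * (g * t * g⁻¹) * (b⁻¹ * a i)⁻¹) * b⁻¹ := by group
      _ = b * ((g * t * g⁻¹) * t) * b⁻¹ := by rw [e]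
      _ = b * (g * t * g⁻¹) * b⁻¹ * (b * t * b⁻¹) := by group
      _ = g * t * g⁻¹ * t := by rw [hs, hbt, mul_inv_cancel_right, mul_inv_cancel_right]

theorem psum (i : Fin 3) {e : G} (he : e ∈ E) :
    e * (x i * e * (x i)⁻¹) * (x i * x i * e * (x i * x i)⁻¹) = 1 ∨
      e * (x i * e * (x i)⁻¹) * (x i * x i * e * (x i * x i)⁻¹) = t :=
  (D.module_facts O.x_t O.a_t O.πx O.πa).2.2 i e he

theorem conj_s_facts {w : G} (hw : w * t = t * w) :
    w * (g * t * g⁻¹) * w⁻¹ ∈ E ∧ w * (g * t * g⁻¹) * w⁻¹ * (w * (g * t * g⁻¹) * w⁻¹) = 1 := by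
  refine ⟨D.es.nor w hw _ D.hs, ?_⟩
  rw [show w * (g * t * g⁻¹) * w⁻¹ * (w * (g * t * g⁻¹) * w⁻¹) = w * (g * t * g⁻¹ * (g * t * g⁻¹)) * w⁻¹ by group,
    D.es'.zz]
  group

/-- Translates with an equal coordinate commute. -/
theorem free_comm (i : Fin 3) {w : G} (hw : w * t = t * w) (hax : Commute (a i) w) (hxw : Commute (x i) w) :
    Commute (g * t * g⁻¹) (w * (g * t * g⁻¹) * w⁻¹) := by
  set s := g * t * g⁻¹ with hs
  set z := w * s * w⁻¹ with hz
  have hzE := (D.conj_s_facts O hw).1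
  have hzz : z * z = 1 := (D.conj_s_facts O hw).2
  have hxz : x i * w * t = t * (x i * w) := (Commute.mul_left (O.x_t i) hw).eq
  set y := x i * z * (x i)⁻¹ with hy
  have hyE : y ∈ E := D.es.nor _ (O.x_t i) _ hzE
  have hyy : y * y = 1 := by
    rw [hy, show x i * z * (x i)⁻¹ * (x i * z * (x i)⁻¹) = x i * (z * z) * (x i)⁻¹ by group, hzz]; group
  have hct : ∀ {c : G}, c * t = t * c → c * t * c⁻¹ = t := fun hc => mul_inv_eq_iff_eq_mul.mpr hc
  have haz : a i * z * (a i)⁻¹ = z ∨ a i * z * (a i)⁻¹ = z * t := by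
    have e : a i * z * (a i)⁻¹ = w * (a i * s * (a i)⁻¹) * w⁻¹ := by
      rw [hz, show a i * (w * s * w⁻¹) * (a i)⁻¹ = a i * w * s * (a i * w)⁻¹ by group, hax.eq]; group
    rcases D.a_s O i with e1 | e1 <;> rw [e, e1]
    · exact Or.inl rfl
    · right
      rw [show w * (s * t) * w⁻¹ = z * (w * t * w⁻¹) by rw [hz]; group, hct hw]
  set z2 := x i * x i * z * (x i * x i)⁻¹ with hz2
  have hz2e : z2 = y * z ∨ z2 = y * z * t := by
    have hy1 : y⁻¹ = y := inv_eq_of_mul_eq_one_right hyy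
    have hz1 : z⁻¹ = z := inv_eq_of_mul_eq_one_right hzz
    rcases D.psum O i hzE with e | e
    · left
      rw [← hy, ← hz2] at e
      rw [eq_inv_of_mul_eq_one_right e, mul_inv_rev, hy1, hz1]
    · right
      rw [← hy, ← hz2] at e
      rw [← inv_mul_eq_iff_eq_mul.mpr e.symm, mul_inv_rev, hy1, hz1]
  have hay : a i * y * (a i)⁻¹ = z2 ∨ a i * y * (a i)⁻¹ = z2 * t := by
    have e : a i * y * (a i)⁻¹ = x i * x i * (a i * z * (a i)⁻¹) * (x i * x i)⁻¹ := by
      rw [hy, ← O.ax]; group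
    rcases haz with e1 | e1 <;> rw [e, e1]
    · exact Or.inl rfl
    · right
      rw [show x i * x i * (z * t) * (x i * x i)⁻¹ = z2 * (x i * x i * t * (x i * x i)⁻¹) by rw [hz2]; group,
        hct (Commute.mul_left (O.x_t i) (O.x_t i)).eq]
  have hst : s * t = t * s := D.st_comm
  have hay' : Commute s (a i * y * (a i)⁻¹) ↔ Commute s (y * z) := by
    rcases hay with e1 | e1 <;> rcases hz2e with e2 | e2 <;> rw [e1, e2] <;> simp only [commute_mul_z_iff hst]
  have h1 : Commute s y ↔ Commute s (y * z) := by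
    rw [← hay', ← commute_conj_iff' (u := s) (v := y) (a i)]
    rcases D.a_s O i with e1 | e1 <;> rw [e1]
    rw [Commute.symm_iff, commute_mul_z_iff, Commute.symm_iff]
    exact D.es.comm _ (D.es.nor _ (O.a_t i) _ hyE)
  have h2 := es_mul_comm_iff D.es hyE hzE D.hs
  rw [Commute.symm_iff (a := y * z), Commute.symm_iff (a := y), Commute.symm_iff (a := z), ← h1] at h2
  tauto

theorem trS_mem (m : Fin 2 × Fin 2 × Fin 2) : trS x (g * t * g⁻¹) m ∈ E :=
  (D.prodS_mem O.x_t fun _ => false).2 m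

theorem trS_sq (m : Fin 2 × Fin 2 × Fin 2) : trS x (g * t * g⁻¹) m * trS x (g * t * g⁻¹) m = 1 :=
  (D.conj_s_facts O (O.trW_t m)).2

theorem trS_comm {m n : Fin 2 × Fin 2 × Fin 2} (h : n ≠ cpl m) :
    Commute (trS x (g * t * g⁻¹) m) (trS x (g * t * g⁻¹) n) := by
  have key : ∀ m n : Fin 2 × Fin 2 × Fin 2, n ≠ cpl m → ∃ i, crd m i = crd n i := by decide
  obtain ⟨i, hi⟩ := key m n h
  set r := restW x m i
  set r' := restW x n i
  have e : trW x n = trW x m * (r⁻¹ * r') := by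
    rw [O.trW_rest n i, O.trW_rest m i, ← hi]
    have hc : Commute (x i ^ crd m i) (r⁻¹ * r') :=
      (((O.rest_comm m i).2.pow_left _).inv_right).mul_right ((O.rest_comm n i).2.pow_left _)
    rw [mul_assoc, hc.eq, ← mul_assoc, ← mul_assoc, mul_inv_cancel, one_mul]
  rw [trS, trS, e, show trW x m * (r⁻¹ * r') * (g * t * g⁻¹) * (trW x m * (r⁻¹ * r'))⁻¹ =
    trW x m * ((r⁻¹ * r') * (g * t * g⁻¹) * (r⁻¹ * r')⁻¹) * (trW x m)⁻¹ by group, commute_conj_iff']
  refine D.free_comm O i ?_ ((O.rest_comm m i).1.inv_right.mul_right (O.rest_comm n i).1)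
    ((O.rest_comm m i).2.inv_right.mul_right (O.rest_comm n i).2)
  have hrt : ∀ m, restW x m i * t = t * restW x m i := fun m => by
    have := O.trW_t m
    rw [O.trW_rest m i] at this
    have h' := (show Commute (restW x m i * x i ^ crd m i) t from this).mul_left
      ((show Commute (x i) t from O.x_t i).pow_left (crd m i)).inv_left
    rwa [mul_inv_cancel_right] at h'
  exact (Commute.mul_left (Commute.inv_left (hrt m)) (hrt n)).eq

theorem trS_cpl (m : Fin 2 × Fin 2 × Fin 2) :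
    ¬ Commute (trS x (g * t * g⁻¹) m) (trS x (g * t * g⁻¹) (cpl m)) := by
  intro hc
  set s := g * t * g⁻¹ with hs
  set u := trS x s m with hu
  have hall : ∀ n, Commute u (trS x s n) := fun n => by
    by_cases h : n = cpl m
    · exact h ▸ hc
    · exact D.trS_comm O h
  have hut := D.es.comm u (D.trS_mem O m)
  have hcen : ∀ e ∈ E, u * e = e * u := by
    intro e he
    have hp : ∀ c, Commute u (prodS x s c) := fun c => by
      refine Commute.list_prod_right _ _ fun y hy => ?_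
      obtain ⟨n, -, rfl⟩ := List.mem_map.mp hy
      cases c n
      · exact Commute.one_right u
      · exact hall n
    obtain ⟨c, rfl | rfl⟩ := (D.module_facts O.x_t O.a_t O.πx O.πa).1 e he
    · exact (hp c).eq
    · exact ((hp c).mul_right hut).eq
  rcases D.es.cen u hcen with e | e
  · exact D.s_ne_one O (conj_eq_one_iff.mp e)
  · refine D.hne (mul_left_cancel (a := trW x m) ?_)
    rw [O.trW_t]
    exact mul_inv_eq_iff_eq_mul.mp e

/-- The product over an orbit of the second involution. -/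
theorem eta_eq (i j : Fin 3) :
    (g * t * g⁻¹) * (x i * (g * t * g⁻¹) * (x i)⁻¹) * (x i * x i * (g * t * g⁻¹) * (x i * x i)⁻¹) =
      (g * t * g⁻¹) * (x j * (g * t * g⁻¹) * (x j)⁻¹) * (x j * x j * (g * t * g⁻¹) * (x j * x j)⁻¹) := by
  rcases eq_or_ne i j with rfl | hij
  · rfl
  obtain ⟨k, hki, hkj⟩ : ∃ k, k ≠ i ∧ k ≠ j := by revert hij; revert i j; decide
  set s := g * t * g⁻¹ with hs
  let w : ℕ → ℕ → G := fun p q => x i ^ p * x j ^ q
  have hk : ∀ (l : Fin 3), l ≠ k → Commute (a k) (x l) ∧ Commute (x k) (x l) := fun l hl =>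
    ⟨mul_inv_eq_iff_eq_mul.mp (O.axj k l hl.symm), O.xx k l⟩
  have hwt : ∀ p q, w p q * t = t * w p q := fun p q =>
    ((Commute.pow_left (O.x_t i) p).mul_left (Commute.pow_left (O.x_t j) q)).eq
  have hw1 : ∀ p q, Commute (a k) (w p q) ∧ Commute (x k) (w p q) := fun p q =>
    ⟨((hk i hki.symm).1.pow_right p).mul_right ((hk j hkj.symm).1.pow_right q),
      ((hk i hki.symm).2.pow_right p).mul_right ((hk j hkj.symm).2.pow_right q)⟩
  let F : ℕ → ℕ → G := fun p q => w p q * s * (w p q)⁻¹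
  have hF : ∀ p q p' q', Commute (F p q) (F p' q') := by
    intro p q p' q'
    show Commute (w p q * s * (w p q)⁻¹) (w p' q' * s * (w p' q')⁻¹)
    rw [show w p' q' * s * (w p' q')⁻¹ = w p q * (((w p q)⁻¹ * w p' q') * s * ((w p q)⁻¹ * w p' q')⁻¹) * (w p q)⁻¹ by
      group, commute_conj_iff']
    exact D.free_comm O k (Commute.mul_left (Commute.inv_left (hwt p q)) (hwt p' q')).eq
      ((hw1 p q).1.inv_right.mul_right (hw1 p' q').1) ((hw1 p q).2.inv_right.mul_right (hw1 p' q').2)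
  set ηi := s * (x i * s * (x i)⁻¹) * (x i * x i * s * (x i * x i)⁻¹) with hηi
  set ηj := s * (x j * s * (x j)⁻¹) * (x j * x j * s * (x j * x j)⁻¹) with hηj
  have hcen : ∀ {η : G}, (η = 1 ∨ η = t) → ∀ c : G, c * t = t * c → c * η * c⁻¹ = η := by
    rintro η (rfl | rfl) c hc
    · group
    · exact mul_inv_eq_iff_eq_mul.mpr hc
  have hrow : ∀ q, F 0 q * F 1 q * F 2 q = ηi := fun q => by
    have e : F 0 q * F 1 q * F 2 q = x j ^ q * ηi * (x j ^ q)⁻¹ := by
      have h1 : Commute (x j ^ q) (x i) := (show Commute (x j) (x i) from O.xx j i).pow_left q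
      simp only [F, w, hηi, pow_zero, one_mul, pow_one, pow_two]
      rw [← h1.eq, ← (h1.mul_right h1).eq]; group
    rw [e, hcen (D.psum O i D.hs) _ (Commute.pow_left (O.x_t j) q).eq]
  have hcol : ∀ p, F p 0 * F p 1 * F p 2 = ηj := fun p => by
    have e : F p 0 * F p 1 * F p 2 = x i ^ p * ηj * (x i ^ p)⁻¹ := by
      simp only [F, w, hηj, pow_zero, mul_one, pow_one, pow_two]; group
    rw [e, hcen (D.psum O j D.hs) _ (Commute.pow_left (O.x_t i) p).eq]
  let Sg := Subgroup.closure {y | ∃ p q, y = F p q}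
  haveI hSg : IsMulCommutative Sg := Subgroup.isMulCommutative_closure (by
    rintro a ⟨p, q, rfl⟩ b ⟨p', q', rfl⟩
    exact (hF p q p' q').eq)
  have key : ∀ f : ℕ → ℕ → Sg, (f 0 0 * f 1 0 * f 2 0) * (f 0 1 * f 1 1 * f 2 1) * (f 0 2 * f 1 2 * f 2 2) =
      (f 0 0 * f 0 1 * f 0 2) * (f 1 0 * f 1 1 * f 1 2) * (f 2 0 * f 2 1 * f 2 2) := fun f => by
    letI : CommGroup Sg := { (inferInstance : Group Sg) with mul_comm := hSg.is_comm.comm }
    simp only [mul_assoc, mul_comm, mul_left_comm]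
  have h9 := congrArg Subtype.val (key fun p q => ⟨F p q, Subgroup.subset_closure ⟨p, q, rfl⟩⟩)
  simp only [Subgroup.coe_mul, hrow, hcol] at h9
  have h3 : ∀ {η : G}, (η = 1 ∨ η = t) → η * η * η = η := by
    rintro η (rfl | rfl)
    · simp
    · rw [D.es.zz, one_mul]
  rwa [h3 (D.psum O i D.hs), h3 (D.psum O j D.hs)] at h9

end Std8

/-- The second involution with trivial orbit products, and the complement to the core. -/
structure Lift8 (t : G) (E : Subgroup G) (π : G → Q3) (g : G) (x a : Fin 3 → G) : Prop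
    extends Std8 t E π g, Odd8 t π x a where
  /-- orbit products -/
  eta : ∀ i, (g * t * g⁻¹) * (x i * (g * t * g⁻¹) * (x i)⁻¹) * (x i * x i * (g * t * g⁻¹) * (x i * x i)⁻¹) = 1

theorem Std8.exists_lift (D : Std8 t E π g) : ∃ g' : G, ∃ x a : Fin 3 → G, Lift8 t E π g' x a := by
  obtain ⟨x, a, O⟩ := D.exists_odd
  set s := g * t * g⁻¹ with hs
  rcases D.psum O 0 D.hs with e | e
  · exact ⟨g, x, a, { toStd8 := D, toOdd8 := O, eta := fun i => (D.eta_eq O i 0).trans e }⟩
  · obtain ⟨q, hq, -, hqs⟩ := D.es.swap D.hs D.hne (D.s_ne_one O)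
    refine ⟨q * g, x, a, { toStd8 := D.move hq, toOdd8 := O, eta := fun i => ((D.move hq).eta_eq O i 0).trans ?_ }⟩
    rw [show q * g * t * (q * g)⁻¹ = q * s * q⁻¹ by rw [hs]; group, hqs]
    have hx := (show Commute (x 0) t from O.x_t 0)
    have hxx := hx.mul_left hx
    calc s * t * (x 0 * (s * t) * (x 0)⁻¹) * (x 0 * x 0 * (s * t) * (x 0 * x 0)⁻¹)
        = s * t * ((x 0 * s * (x 0)⁻¹) * (x 0 * t * (x 0)⁻¹)) * ((x 0 * x 0 * s * (x 0 * x 0)⁻¹) *
            (x 0 * x 0 * t * (x 0 * x 0)⁻¹)) := by group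
      _ = s * (t * (x 0 * s * (x 0)⁻¹)) * (t * (x 0 * x 0 * s * (x 0 * x 0)⁻¹)) * t := by
          rw [hx.eq, hxx.eq, mul_inv_cancel_right, mul_inv_cancel_right]; group
      _ = s * (x 0 * s * (x 0)⁻¹ * t) * (x 0 * x 0 * s * (x 0 * x 0)⁻¹ * t) * t := by
          rw [← D.es.comm _ (D.es.nor _ (O.x_t 0) _ D.hs), ← D.es.comm _ (D.es.nor _ hxx.eq _ D.hs)]
      _ = s * (x 0 * s * (x 0)⁻¹) * (t * (x 0 * x 0 * s * (x 0 * x 0)⁻¹)) * (t * t) := by group
      _ = 1 := by
          rw [D.es.zz, mul_one, ← D.es.comm _ (D.es.nor _ hxx.eq _ D.hs), ← mul_assoc, e, D.es.zz]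

end CfsgLib.O8C
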