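import Cfsg.Agent.Lib.OEightPlusThree.StD4

/-!
Root elements of type `D₄` over the field with two elements as bit operations on vectors of length eight:
equality of words in root elements is decidable in every group satisfying the relations.
-/

set_option autoImplicit false
set_option maxRecDepth 8000

namespace CfsgLib.O8C

open Cfsg.Lie

/-- Coefficients of the roots on the fundamental roots. -/
def coef : Fin 24 → ℤ × ℤ × ℤ × ℤ :=
  ![(-1, -2, -1, -1), (-1, -1, -1, -1), (-1, -1, -1, 0), (-1, -1, 0, -1), (-1, -1, 0, 0), (-1, 0, 0, 0),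
    (0, -1, -1, -1), (0, -1, -1, 0), (0, -1, 0, -1), (0, -1, 0, 0), (0, 0, -1, 0), (0, 0, 0, -1),
    (0, 0, 0, 1), (0, 0, 1, 0), (0, 1, 0, 0), (0, 1, 0, 1), (0, 1, 1, 0), (0, 1, 1, 1),
    (1, 0, 0, 0), (1, 1, 0, 0), (1, 1, 0, 1), (1, 1, 1, 0), (1, 1, 1, 1), (1, 2, 1, 1)]

/-- The sum of two roots, if it is a root. -/
def sumI (r s : Fin 24) : Option (Fin 24) :=
  (List.finRange 24).find? fun k => decide (coef k = coef r + coef s)

/-- The value at a root, or one. -/
def optRt {H : Type*} [One H] (rt : Fin 24 → H) : Option (Fin 24) → H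
  | none => 1
  | some k => rt k

/-- The relations of type `D₄` over the field with two elements. -/
structure D4Rel {H : Type*} [Group H] (rt : Fin 24 → H) : Prop where
  /-- involutions -/
  sq : ∀ r, rt r * rt r = 1
  /-- commutators -/
  comm : ∀ r s, r ≠ s → r.val + s.val ≠ 23 → rt r * rt s * rt r * rt s = optRt rt (sumI r s)

theorem terms_check : ∀ r s : Fin 24, r ≠ s → s.val ≠ chevD4.neg r.val →
    (r.val + s.val ≠ 23) ∧ (chevD4.commTerms r.val s.val).map Prod.fst = ((sumI r s).map Fin.val).toList ∧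
      ∀ c ∈ chevD4.commTerms r.val s.val, c.2.2 = (1, 1) ∧ (c.2.1 = 1 ∨ c.2.1 = -1) := by
  decide +kernel

section lift

variable {H : Type*} [Group H]

/-- Extension to natural numbers. -/
def rtN (rt : Fin 24 → H) (r : ℕ) : H := if h : r < 24 then rt ⟨r, h⟩ else 1

/-- The value of a generator. -/
def genv (rt : Fin 24 → H) (p : Fin chevD4.nroots × ZMod 2) : H := if p.2 = 0 then 1 else rt ⟨p.1.val, p.1.isLt⟩

variable {rt : Fin 24 → H}

theorem genv_stX (r : ℕ) (t : ZMod 2) :
    FreeGroup.lift (genv rt) (chevD4.stX r t) = if t = 0 then 1 else rtN rt r := by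
  unfold ChevalleyDatum.stX
  split
  · rename_i hr
    rw [FreeGroup.lift_apply_of, genv, rtN, dif_pos (show r < 24 from hr)]
  · rename_i hr
    rw [map_one, rtN, dif_neg (show ¬ r < 24 from hr), ite_self]

theorem rtN_sq (h : D4Rel rt) (r : ℕ) : rtN rt r * rtN rt r = 1 := by
  rw [rtN]; split
  · exact h.sq _
  · exact one_mul 1

theorem optRt_prod (o : Option (Fin 24)) : ((o.map Fin.val).toList.map (rtN rt)).prod = optRt rt o := by
  cases o with
  | none => rfl
  | some k => simp [optRt, rtN]

theorem genv_rels (h : D4Rel rt) : ∀ w ∈ chevD4.steinbergRels (ZMod 2), FreeGroup.lift (genv rt) w = 1 := by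
  have hz : ∀ t : ZMod 2, t = 0 ∨ t = 1 := by decide
  rintro w ((⟨r, t₁, t₂, hr, rfl⟩ | ⟨r, s, t, u, hr, hs, hne, hne', rfl⟩) | ⟨r, t₁, t₂, hr, h1, h2, rfl⟩)
  · simp only [map_mul, map_inv, genv_stX]
    rcases hz t₁ with rfl | rfl <;> rcases hz t₂ with rfl | rfl <;>
      simp [rtN_sq h, show (1 : ZMod 2) + 1 = 0 from rfl]
  · simp only [map_mul, map_inv, genv_stX, ChevalleyDatum.stWord, ChevalleyDatum.commWord, List.map_map,
      map_list_prod]
    obtain ⟨hop, hfst, hterms⟩ := terms_check ⟨r, hr⟩ ⟨s, hs⟩ (fun e => hne (congrArg Fin.val e).symm) hne'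
    have hterms' : ∀ c ∈ chevD4.commTerms r s, c.2.2 = (1, 1) ∧ (c.2.1 = 1 ∨ c.2.1 = -1) := hterms
    by_cases hb : t = 1 ∧ u = 1
    · obtain ⟨rfl, rfl⟩ := hb
      have key := h.comm ⟨s, hs⟩ ⟨r, hr⟩ (fun e => hne (congrArg Fin.val e)) (by rw [add_comm]; exact hop)
      have e : ((chevD4.commTerms r s).map ((FreeGroup.lift (genv rt)) ∘ (fun p => chevD4.stX p.1 p.2) ∘
          fun c => (c.1, ((c.2.1 : ℤ) : ZMod 2) * (-1) ^ c.2.2.1 * 1 ^ c.2.2.2))) =
          ((chevD4.commTerms r s).map Prod.fst).map (rtN rt) := by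
        rw [List.map_map]
        refine List.map_congr_left fun c hc => ?_
        obtain ⟨he, hcoef⟩ := hterms' c hc
        simp only [Function.comp_apply, genv_stX]
        rw [he]
        rcases hcoef with e | e <;> rw [e] <;> simp [show (-1 : ZMod 2) = 1 by decide]
      rw [e, show (chevD4.commTerms r s).map Prod.fst = _ from hfst, optRt_prod]
      rw [show rtN rt r = rt ⟨r, hr⟩ from dif_pos (show r < 24 from hr),
        show rtN rt s = rt ⟨s, hs⟩ from dif_pos (show s < 24 from hs)]
      simp only [one_ne_zero, if_false, inv_eq_of_mul_eq_one_right (h.sq _)]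
      rw [key, show sumI ⟨s, hs⟩ ⟨r, hr⟩ = sumI ⟨r, hr⟩ ⟨s, hs⟩ by simp only [sumI, add_comm], mul_inv_cancel]
    · have e : ((chevD4.commTerms r s).map ((FreeGroup.lift (genv rt)) ∘ (fun p => chevD4.stX p.1 p.2) ∘
          fun c => (c.1, ((c.2.1 : ℤ) : ZMod 2) * (-t) ^ c.2.2.1 * u ^ c.2.2.2))).prod = 1 := by
        refine List.prod_eq_one fun y hy => ?_
        obtain ⟨c, hc, rfl⟩ := List.mem_map.1 hy
        obtain ⟨he, -⟩ := hterms' c hc
        simp only [Function.comp_apply, genv_stX]
        rw [he, if_pos]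
        rcases hz t with rfl | rfl
        · simp
        · rcases hz u with rfl | rfl
          · simp
          · exact absurd ⟨rfl, rfl⟩ hb
      rw [e, inv_one, mul_one]
      rcases hz t with rfl | rfl <;> rcases hz u with rfl | rfl <;>
        first | exact absurd ⟨rfl, rfl⟩ hb | simp [rtN_sq h]
  · rw [CfsgLib.O8T.unit_two _ h1, CfsgLib.O8T.unit_two _ h2, mul_one, map_mul, map_mul, map_inv, mul_inv_cancel_right]
    simp only [ChevalleyDatum.stH, ChevalleyDatum.stWord, ChevalleyDatum.hWord, ChevalleyDatum.nWord,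
      List.cons_append, List.nil_append, List.map_cons, List.map_nil, List.prod_cons, List.prod_nil, map_mul, map_one,
      genv_stX, show -(1 : ZMod 2)⁻¹ = 1 by rw [inv_one]; decide, show (-1 : ZMod 2) = 1 by decide, one_ne_zero, if_false]
    rw [mul_one, ← mul_assoc (rtN rt r) (rtN rt r), rtN_sq h, one_mul,
      ← mul_assoc (rtN rt (chevD4.neg r)), rtN_sq h, one_mul, rtN_sq h]

/-- The homomorphism from the presented group. -/
def sth (h : D4Rel rt) : CfsgLib.O8T.StD →* H := PresentedGroup.toGroup (genv_rels h)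

theorem sth_gen (h : D4Rel rt) (r : Fin 24) : sth h (chevD4.stGen (ZMod 2) r.val 1) = rt r := by
  show FreeGroup.lift (genv rt) (chevD4.stX r.val 1) = _
  rw [genv_stX, if_neg one_ne_zero, rtN, dif_pos r.isLt]

theorem sth_injective (h : D4Rel rt) (h1 : rt 23 ≠ 1) : Function.Injective (sth h) :=
  CfsgLib.O8T.st_inj (sth h) (x := chevD4.stGen (ZMod 2) (23 : Fin 24).val 1) (by rwa [sth_gen])

end lift

/-- First moving vectors. -/
def va (i : Fin 24) : ℕ :=
  (24616085236810600253258817022129224539221695250860900480 >>> (8 * i.val)) &&& 255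

/-- Second moving vectors. -/
def vb (i : Fin 24) : ℕ :=
  (49428979379759827971163724603764681522876267497999835200 >>> (8 * i.val)) &&& 255

/-- First positions. -/
def pa (i : Fin 24) : ℕ :=
  (147599605070350659002141478274692965760405782183052313089 >>> (8 * i.val)) &&& 255

/-- Second positions. -/
def pb (i : Fin 24) : ℕ :=
  (172312596657673502141589498977631290767458721660806365184 >>> (8 * i.val)) &&& 255

/-- A root element on vectors. -/
def rmap (i : Fin 24) (v : ℕ) : ℕ :=
  v ^^^ (bif v.testBit (pa i) then va i else 0) ^^^ (bif v.testBit (pb i) then vb i else 0)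

theorem rmap_xor (i : Fin 24) (u v : ℕ) : rmap i (u ^^^ v) = rmap i u ^^^ rmap i v := by
  have hb : ∀ (a : ℕ) (b c : Bool),
      (bif (b ^^ c) then a else 0) = (bif b then a else 0) ^^^ (bif c then a else 0) := by
    intro a b c; cases b <;> cases c <;> simp
  simp only [rmap, Nat.testBit_xor, hb]
  ac_rfl

/-- A word on vectors. -/
def runW : List (Fin 24) → ℕ → ℕ
  | [], v => v
  | i :: l, v => rmap i (runW l v)

theorem runW_xor : ∀ (w : List (Fin 24)) (u v : ℕ), runW w (u ^^^ v) = runW w u ^^^ runW w v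
  | [], _, _ => rfl
  | i :: l, u, v => by rw [runW, runW_xor l, rmap_xor]; rfl

/-- The images of the standard basis. -/
def basisImg (w : List (Fin 24)) : List ℕ := (List.range 8).map fun j => runW w (2 ^ j)

/-- Equality test for words. -/
def sameW (w₁ w₂ : List (Fin 24)) : Bool := basisImg w₁ == basisImg w₂

/-- A combination of basis vectors. -/
def combV (l : List Bool) (f : ℕ → ℕ) (k : ℕ) : ℕ :=
  match l with
  | [] => 0
  | b :: l => (bif b then f k else 0) ^^^ combV l f (k + 1)

theorem combV_id : ∀ v < 256, combV ((List.range 8).map v.testBit) (fun j => 2 ^ j) 0 = v := by decide +kernel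

theorem linear_comb {F : ℕ → ℕ} (hF : ∀ u v, F (u ^^^ v) = F u ^^^ F v) (f : ℕ → ℕ) :
    ∀ (l : List Bool) (k : ℕ), F (combV l f k) = combV l (fun j => F (f j)) k := by
  have h0 : F 0 = 0 := by simpa using hF 0 0
  intro l
  induction l with
  | nil => exact fun _ => h0
  | cons b l ih => intro k; rw [combV, hF, ih, combV]; cases b <;> simp [h0]

theorem combV_congr {f g : ℕ → ℕ} : ∀ (l : List Bool) (k : ℕ), (∀ j, j < k + l.length → f j = g j) →
    combV l f k = combV l g k
  | [], _, _ => rfl
  | b :: l, k, h => by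
    rw [combV, combV, h k (by simp), combV_congr l (k + 1) fun j hj => h j (by simp only [List.length_cons]; omega)]

theorem runW_eq {w₁ w₂ : List (Fin 24)} (h : sameW w₁ w₂ = true) {v : ℕ} (hv : v < 256) :
    runW w₁ v = runW w₂ v := by
  have h' := eq_of_beq h
  rw [← combV_id v hv, linear_comb (runW_xor w₁), linear_comb (runW_xor w₂)]
  refine combV_congr _ _ fun j hj => ?_
  exact List.map_inj_left.mp h' j (List.mem_range.mpr (by simpa using hj))

theorem rmap_lt : ∀ (i : Fin 24) (v : Fin 256), rmap i v.val < 256 := by decide +kernel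

/-- A root element as a function on `Fin 256`. -/
def rfun (i : Fin 24) (v : Fin 256) : Fin 256 := ⟨rmap i v, rmap_lt i v⟩

theorem rfun_invol (i : Fin 24) : Function.Involutive (rfun i) := by
  have h : ∀ (i : Fin 24) (v : Fin 256), rmap i (rmap i v.val) = v.val := by decide +kernel
  exact fun v => Fin.ext (h i v)

/-- A root element as a permutation. -/
def rperm (i : Fin 24) : Equiv.Perm (Fin 256) := (rfun_invol i).toPerm

theorem rperm_prod : ∀ (w : List (Fin 24)) (v : Fin 256), ((w.map rperm).prod v).val = runW w v.val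
  | [], _ => rfl
  | i :: l, v => by
    rw [List.map_cons, List.prod_cons, Equiv.Perm.mul_apply]
    show rmap i ((l.map rperm).prod v).val = _
    rw [rperm_prod l v]; rfl

/-- The word of the right hand side of a commutator relation. -/
def optW (o : Option (Fin 24)) : List (Fin 24) := o.toList

theorem comm_check : ∀ r s : Fin 24, r ≠ s → r.val + s.val ≠ 23 →
    sameW [r, s, r, s] (optW (sumI r s)) = true := by decide +kernel

theorem perm_rel : D4Rel rperm := by
  refine ⟨fun r => Equiv.ext fun v => rfun_invol r v, fun r s h1 h2 => Equiv.ext fun v => Fin.ext ?_⟩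
  have h := runW_eq (comm_check r s h1 h2) v.isLt
  have e : rperm r * rperm s * rperm r * rperm s = ([r, s, r, s].map rperm).prod := by
    simp [mul_assoc]
  rw [e, rperm_prod, h]
  cases sumI r s with
  | none => rfl
  | some k => rfl

theorem rperm_ne : rperm 23 ≠ 1 := fun e => by
  have := congrArg (fun p : Equiv.Perm (Fin 256) => (p ⟨64, by decide⟩).val) e
  exact absurd this (by decide)

/-- The product of a word in a group. -/
def ev {H : Type*} [Group H] (rt : Fin 24 → H) (w : List (Fin 24)) : H := (w.map rt).prod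

section word

variable {H : Type*} [Group H] {rt : Fin 24 → H}

theorem ev_append (u v : List (Fin 24)) : ev rt (u ++ v) = ev rt u * ev rt v := by
  simp [ev]

theorem ev_cons (r : Fin 24) (v : List (Fin 24)) : ev rt (r :: v) = rt r * ev rt v := by
  simp [ev]

theorem ev_nil : ev rt [] = 1 := rfl

theorem ev_reverse (h : D4Rel rt) : ∀ w : List (Fin 24), ev rt w.reverse = (ev rt w)⁻¹
  | [] => by simp [ev]
  | r :: w => by
    rw [List.reverse_cons, ev_append, ev_reverse h w, ev_cons, ev_cons, ev_nil, mul_one, mul_inv_rev,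
      inv_eq_of_mul_eq_one_right (h.sq r)]

theorem sth_word (h : D4Rel rt) (w : List (Fin 24)) :
    sth h (w.map fun r => chevD4.stGen (ZMod 2) r.val 1).prod = ev rt w := by
  rw [map_list_prod, List.map_map, ev]
  exact congrArg List.prod (List.map_congr_left fun r _ => sth_gen h r)

theorem ev_eq (h : D4Rel rt) {w₁ w₂ : List (Fin 24)} (hs : sameW w₁ w₂ = true) : ev rt w₁ = ev rt w₂ := by
  rw [← sth_word h, ← sth_word h]
  refine congrArg _ (sth_injective perm_rel rperm_ne ?_)
  rw [sth_word, sth_word]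
  refine Equiv.ext fun v => Fin.ext ?_
  rw [ev, ev, rperm_prod, rperm_prod]
  exact runW_eq hs v.isLt

theorem same_of_ev (h : D4Rel rt) (h1 : rt 23 ≠ 1) {w₁ w₂ : List (Fin 24)} (e : ev rt w₁ = ev rt w₂) :
    sameW w₁ w₂ = true := by
  rw [← sth_word h, ← sth_word h] at e
  have e' := congrArg (sth perm_rel) (sth_injective h h1 e)
  rw [sth_word, sth_word] at e'
  refine beq_iff_eq.mpr (List.map_congr_left fun j hj => ?_)
  have hj' : 2 ^ j < 256 := lt_of_lt_of_eq (Nat.pow_lt_pow_right (by omega) (List.mem_range.mp hj)) (by norm_num)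
  have := congrArg (fun p : Equiv.Perm (Fin 256) => (p ⟨2 ^ j, hj'⟩).val) e'
  simpa only [ev, rperm_prod] using this

theorem ev_ne (h : D4Rel rt) (h1 : rt 23 ≠ 1) {w₁ w₂ : List (Fin 24)} (hs : sameW w₁ w₂ = false) :
    ev rt w₁ ≠ ev rt w₂ := fun e => by
  rw [same_of_ev h h1 e] at hs; exact Bool.noConfusion hs

/-- The image of the presented group. -/
def Mgrp (h : D4Rel rt) : Subgroup H := (sth h).range

theorem ev_mem (h : D4Rel rt) (w : List (Fin 24)) : ev rt w ∈ Mgrp h := ⟨_, sth_word h w⟩

theorem M_omega (h : D4Rel rt) (h1 : rt 23 ≠ 1) :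
    Nonempty (Mgrp h ≃* Cfsg.Omega (ZMod 2) (Cfsg.quadFormPlus 4 (ZMod 2))) := by
  obtain ⟨e⟩ := CfsgLib.O8T.st_omega
  exact ⟨(MonoidHom.ofInjective (sth_injective h h1)).symm.trans e⟩

theorem M_simple (h : D4Rel rt) (h1 : rt 23 ≠ 1) : IsSimpleGroup (Mgrp h) :=
  haveI := CfsgLib.O8T.st_simple
  MulEquiv.isSimpleGroup (MonoidHom.ofInjective (sth_injective h h1)).symm

end word

end CfsgLib.O8C
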