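import Mathlib.Algebra.BigOperators.Fin
import Mathlib.Algebra.Group.Hom.Defs
import Mathlib.Data.Fintype.BigOperators
import Mathlib.Data.Fintype.Sum
import Mathlib.Data.Fintype.Card
import Mathlib.SetTheory.Cardinal.Finite
import Mathlib.Tactic

/-!
An orthogonal-type module of order `2^8` for `S₃ × S₃ × S₃` in which a vector is a commutator of each transposition:
it is the tensor product of the three natural modules.
-/

set_option autoImplicit false

namespace CfsgLib.O8C

universe u

variable {V : Type u} [AddCommGroup V]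

section indep

variable {ι κ : Type} [Fintype ι] [Fintype κ]

/-- The combination of a family. -/
def combB (a : ι → V) (c : ι → Bool) : V := ∑ i, bif c i then a i else 0

/-- Independence over the field with two elements. -/
def Indep2 (a : ι → V) : Prop := ∀ c : ι → Bool, combB a c = 0 → ∀ i, c i = false

theorem map_combB (f : V →+ V) (a : ι → V) (c : ι → Bool) : f (combB a c) = combB (f ∘ a) c := by
  rw [combB, map_sum]
  exact Finset.sum_congr rfl fun i _ => by cases c i <;> simp

theorem combB_sum (a : ι → V) (b : κ → V) (c : ι ⊕ κ → Bool) :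
    combB (Sum.elim a b) c = combB a (c ∘ Sum.inl) + combB b (c ∘ Sum.inr) :=
  Fintype.sum_sum_type _

theorem combB_zero (a : ι → V) {c : ι → Bool} (hc : ∀ i, c i = false) : combB a c = 0 :=
  Finset.sum_eq_zero fun i _ => by simp [hc i]

theorem combB_const (a : ι → V) (c : ι → Bool) (h : ∀ i, a i = 0) : combB a c = 0 :=
  Finset.sum_eq_zero fun i _ => by cases c i <;> simp [h i]

/-- Doubling. -/
theorem Indep2.double {a b : ι → V} (h : Indep2 a) (f : V →+ V) (ha : ∀ i, f (a i) = 0) (hb : ∀ i, f (b i) = a i) :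
    Indep2 (Sum.elim a b) := by
  intro c hc
  rw [combB_sum] at hc
  have h1 : combB a (c ∘ Sum.inr) = 0 := by
    have := congrArg f hc
    have e : ⇑f ∘ b = a := funext hb
    rwa [map_add, map_combB, map_combB, map_zero, combB_const (⇑f ∘ a) _ ha, zero_add, e] at this
  have hr := h _ h1
  rw [combB_zero b hr, add_zero] at hc
  rintro (i | i)
  exacts [h _ hc i, hr i]

/-- Two families separated by an operator. -/
theorem Indep2.union {a : ι → V} {b : κ → V} (h : Indep2 a) (h' : Indep2 b) (f : V →+ V) (ha : ∀ i, f (a i) = a i)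
    (hb : ∀ i, f (b i) = 0) : Indep2 (Sum.elim a b) := by
  intro c hc
  rw [combB_sum] at hc
  have h1 : combB a (c ∘ Sum.inl) = 0 := by
    have := congrArg f hc
    have e : ⇑f ∘ a = a := funext ha
    rwa [map_add, map_combB, map_combB, map_zero, combB_const (⇑f ∘ b) _ hb, add_zero, e] at this
  have hl := h _ h1
  rw [combB_zero a hl, zero_add] at hc
  rintro (i | i)
  exacts [hl i, h' _ hc i]

theorem Indep2.single {c : V} (hc : c ≠ 0) : Indep2 (fun _ : Unit => c) := by
  intro d hd i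
  cases i
  by_contra he
  rw [Bool.not_eq_false] at he
  exact hc (by simpa [combB, he] using hd)

theorem Indep2.bijective [Finite V] (h2 : ∀ v : V, v + v = 0) {a : ι → V} (h : Indep2 a)
    (hcard : Nat.card V = 2 ^ Fintype.card ι) : Function.Bijective (combB a) := by
  classical
  refine Function.Injective.bijective_of_nat_card_le (fun c d e => ?_) ?_
  · have h0 : combB a (fun i => c i ^^ d i) = 0 := by
      rw [← h2 (combB a d)]
      nth_rw 2 [← e]
      rw [combB, combB, combB, ← Finset.sum_add_distrib]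
      exact Finset.sum_congr rfl fun i _ => by cases c i <;> cases d i <;> simp [h2]
    funext i
    have := h _ h0 i
    revert this
    cases c i <;> cases d i <;> simp
  · rw [hcard, Nat.card_eq_fintype_card, Fintype.card_fun, Fintype.card_bool]

theorem Indep2.reindex {a : ι → V} (h : Indep2 a) (e : κ ≃ ι) : Indep2 (a ∘ e) := by
  intro c hc k
  have h0 : combB a (c ∘ e.symm) = 0 := by
    rw [← hc, combB, combB, ← Equiv.sum_comp e]
    exact Finset.sum_congr rfl fun i _ => by simp
  simpa using h _ h0 (e k)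

end indep

/-- Three commuting elements of order three inverted by three involutions, on an elementary abelian group. -/
structure TripleAct (X A : Fin 3 → V →+ V) : Prop where
  two : ∀ v : V, v + v = 0
  X3 : ∀ i v, X i (X i (X i v)) = v
  XX : ∀ i j v, X i (X j v) = X j (X i v)
  AX : ∀ i v, A i (X i v) = X i (X i (A i v))
  AXj : ∀ i j, i ≠ j → ∀ v, A i (X j v) = X j (A i v)

namespace TripleAct

variable {X A : Fin 3 → V →+ V} (h : TripleAct X A)
include h

/-- The sum over an orbit. -/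
def pr (_h : TripleAct X A) (i : Fin 3) : V →+ V := AddMonoidHom.id V + X i + (X i).comp (X i)

/-- The complementary projection. -/
def di (_h : TripleAct X A) (i : Fin 3) : V →+ V := X i + (X i).comp (X i)

theorem pr_apply (i : Fin 3) (v : V) : h.pr i v = v + X i v + X i (X i v) := rfl

theorem di_apply (i : Fin 3) (v : V) : h.di i v = X i v + X i (X i v) := rfl

theorem pr_di (i : Fin 3) (v : V) : h.pr i v + h.di i v = v := by
  rw [h.pr_apply, h.di_apply, add_assoc v, add_assoc, h.two, add_zero]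

theorem X_pr (i : Fin 3) (v : V) : X i (h.pr i v) = h.pr i v := by
  simp only [h.pr_apply, map_add, h.X3]; abel

theorem di_pr (i : Fin 3) (v : V) : h.di i (h.pr i v) = 0 := by
  rw [h.di_apply, h.X_pr, h.X_pr, h.two]

theorem pr_di' (i : Fin 3) (v : V) : h.pr i (h.di i v) = 0 := by
  have e : h.pr i (h.di i v) = (X i v + X i (X i v) + v) + (X i v + X i (X i v) + v) := by
    simp only [h.pr_apply, h.di_apply, map_add, h.X3]; abel
  rw [e, h.two]

theorem A_di (k i : Fin 3) (v : V) : A k (h.di i v) = h.di i (A k v) := by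
  rcases eq_or_ne k i with rfl | hne
  · simp only [h.di_apply, map_add, h.AX, h.X3]; abel
  · simp only [h.di_apply, map_add, h.AXj k i hne]

theorem A_pr (k i : Fin 3) (v : V) : A k (h.pr i v) = h.pr i (A k v) := by
  rcases eq_or_ne k i with rfl | hne
  · simp only [h.pr_apply, map_add, h.AX, h.X3]; abel
  · simp only [h.pr_apply, map_add, h.AXj k i hne]

theorem X_di' (k i : Fin 3) (v : V) : X k (h.di i v) = h.di i (X k v) := by
  simp only [h.di_apply, map_add, h.XX k i]

theorem X_pr' (k i : Fin 3) (v : V) : X k (h.pr i v) = h.pr i (X k v) := by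
  simp only [h.pr_apply, map_add, h.XX k i]

theorem pr_di_comm (k i : Fin 3) (v : V) : h.pr k (h.di i v) = h.di i (h.pr k v) := by
  simp only [h.pr_apply, map_add, h.X_di']

/-- The operator `1 + a`. -/
def dl (_h : TripleAct X A) (k : Fin 3) : V →+ V := AddMonoidHom.id V + A k

theorem dl_fix {k : Fin 3} {v : V} (hv : A k v = v) : h.dl k v = 0 := by
  show v + A k v = 0
  rw [hv, h.two]

theorem dl_X {k : Fin 3} {c : V} (hA : A k c = c) (hp : h.pr k c = 0) : h.dl k (X k c) = c := by
  show X k c + A k (X k c) = c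
  rw [h.AX, hA]
  calc X k c + X k (X k c) = (c + X k c + X k (X k c)) + c := by
        rw [add_assoc c, add_comm c, add_assoc, h.two, add_zero]
    _ = c := by rw [← h.pr_apply, hp, zero_add]

theorem grow {ι : Type} [Fintype ι] (i : Fin 3) {a : ι → V} (ha : Indep2 a) (hA : ∀ m, A i (a m) = a m)
    (hp : ∀ m, h.pr i (a m) = 0) : Indep2 (Sum.elim a (X i ∘ a)) :=
  ha.double (h.dl i) (fun m => h.dl_fix (hA m)) fun m => h.dl_X (hA m) (hp m)

theorem fixed_false [Finite V] (hcard : Nat.card V = 256) {ι : Type} [Fintype ι] {a : ι → V} (ha : Indep2 a)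
    (hι : Fintype.card ι = 8) (k : Fin 3) (hX : ∀ m, X k (a m) = a m) (v : V) : X k v = v := by
  obtain ⟨c, rfl⟩ := (ha.bijective h.two (by rw [hcard, hι]; norm_num)).2 v
  rw [map_combB, show X k ∘ a = a from funext hX]

variable {s : V} (hAs : ∀ i, A i s = s) (hsA : ∀ i, ∃ v, v + A i v = s) (hXs : ∀ i, X i s ≠ s)
include hAs hsA hXs

theorem no_two_block [Finite V] (hcard : Nat.card V = 256) (i j k : Fin 3) (hij : i ≠ j) (hik : i ≠ k) (hjk : j ≠ k) :
    h.di i (h.di j (h.pr k s)) = 0 := by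
  by_contra hc
  set c := h.di i (h.di j (h.pr k s)) with hcdef
  obtain ⟨v0, hv0⟩ := hsA k
  set v := h.di i (h.di j (h.pr k v0)) with hvdef
  have hvc : h.dl k v = c := by
    show v + A k v = c
    rw [hvdef, h.A_di, h.A_di, h.A_pr, ← map_add, ← map_add, ← map_add, hv0]
  have hA : ∀ m, A m c = c := fun m => by rw [hcdef, h.A_di, h.A_di, h.A_pr, hAs]
  have hpi : h.pr i c = 0 := by rw [hcdef, h.pr_di']
  have hpj : h.pr j c = 0 := by rw [hcdef, h.pr_di_comm, h.pr_di', map_zero]
  have hXc : ∀ w, X k (h.di i (h.di j (h.pr k w))) = h.di i (h.di j (h.pr k w)) := fun w => by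
    rw [h.X_di', h.X_di', h.X_pr]
  let a2 : Unit ⊕ Unit → V := Sum.elim (fun _ => c) (X i ∘ fun _ => c)
  have h2 : Indep2 a2 := h.grow i (Indep2.single hc) (fun _ => hA i) (fun _ => hpi)
  let a4 := Sum.elim a2 (X j ∘ a2)
  have h4 : Indep2 a4 := by
    refine h.grow j h2 ?_ ?_ <;> rintro (m | m)
    · exact hA j
    · show A j (X i c) = X i c
      rw [h.AXj j i hij.symm, hA]
    · exact hpj
    · show h.pr j (X i c) = 0
      rw [← h.X_pr', hpj, map_zero]
  let b4 := Sum.elim (Sum.elim (fun _ : Unit => v) (X i ∘ fun _ : Unit => v))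
    (X j ∘ Sum.elim (fun _ : Unit => v) (X i ∘ fun _ : Unit => v))
  have hcomm : ∀ (m : Fin 3), m ≠ k → ∀ w, h.dl k (X m w) = X m (h.dl k w) := fun m hm w => by
    show X m w + A k (X m w) = X m (w + A k w)
    rw [h.AXj k m (Ne.symm hm), map_add]
  have h8 : Indep2 (Sum.elim a4 b4) := by
    refine h4.double (h.dl k) ?_ ?_ <;> rintro ((m | m) | (m | m))
    · exact h.dl_fix (hA k)
    · show h.dl k (X i c) = 0
      rw [hcomm i hik, h.dl_fix (hA k), map_zero]
    · show h.dl k (X j c) = 0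
      rw [hcomm j hjk, h.dl_fix (hA k), map_zero]
    · show h.dl k (X j (X i c)) = 0
      rw [hcomm j hjk, hcomm i hik, h.dl_fix (hA k), map_zero, map_zero]
    · exact hvc
    · show h.dl k (X i v) = X i c
      rw [hcomm i hik, hvc]
    · show h.dl k (X j v) = X j c
      rw [hcomm j hjk, hvc]
    · show h.dl k (X j (X i v)) = X j (X i c)
      rw [hcomm j hjk, hcomm i hik, hvc]
  refine hXs k (h.fixed_false hcard h8 (by simp) k ?_ s)
  have hb : X k v = v := hXc v0
  have ha : X k c = c := hXc s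
  rintro (((m | m) | (m | m)) | ((m | m) | (m | m)))
  · exact ha
  · show X k (X i c) = X i c
    rw [h.XX k i, ha]
  · show X k (X j c) = X j c
    rw [h.XX k j, ha]
  · show X k (X j (X i c)) = X j (X i c)
    rw [h.XX k j, h.XX k i, ha]
  · exact hb
  · show X k (X i v) = X i v
    rw [h.XX k i, hb]
  · show X k (X j v) = X j v
    rw [h.XX k j, hb]
  · show X k (X j (X i v)) = X j (X i v)
    rw [h.XX k j, h.XX k i, hb]

theorem full_ne [Finite V] (hcard : Nat.card V = 256) : h.di 0 (h.di 1 (h.di 2 s)) ≠ 0 := by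
  intro hf
  have comm : ∀ i j (w : V), h.di i (h.di j w) = h.di j (h.di i w) := fun i j w => by
    rw [h.di_apply i, h.di_apply i, map_add (h.di j), h.X_di', h.X_di' i j (X i w)]
  have f1 : h.di 1 (h.di 0 (h.di 2 s)) = 0 := by rw [comm 1 0]; exact hf
  have f2 : h.di 0 (h.di 2 (h.di 1 s)) = 0 := by rw [comm 2 1]; exact hf
  have f3 : h.di 1 (h.di 2 (h.di 0 s)) = 0 := by rw [comm 2 0, comm 1 0]; exact hf
  have f4 : h.di 2 (h.di 0 (h.di 1 s)) = 0 := by rw [comm 2 0, comm 2 1]; exact hf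
  have f5 : h.di 2 (h.di 1 (h.di 0 s)) = 0 := by rw [comm 2 1, comm 2 0, comm 1 0]; exact hf
  have hzero : ∀ i j k : Fin 3, i ≠ j → i ≠ k → j ≠ k → h.di i (h.di j s) = 0 := fun i j k hij hik hjk => by
    rw [← h.pr_di k s, map_add, map_add, h.no_two_block hAs hsA hXs hcard i j k hij hik hjk, zero_add]
    fin_cases i <;> fin_cases j <;> fin_cases k <;>
      first
        | exact absurd rfl hij
        | exact absurd rfl hik
        | exact absurd rfl hjk
        | exact hf
        | exact f1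
        | exact f2
        | exact f3
        | exact f4
        | exact f5
  have hne : ∀ i, h.di i s ≠ 0 := fun i e => hXs i (by
    have := h.pr_di i s
    rw [e, add_zero] at this
    rw [← this, h.X_pr])
  have hfix : ∀ i j k : Fin 3, i ≠ j → i ≠ k → j ≠ k → h.pr j (h.di i s) = h.di i s := fun i j k hij hik hjk => by
    have := h.pr_di j (h.di i s)
    rwa [hzero j i k hij.symm hjk hik, add_zero] at this
  obtain ⟨u, hu⟩ := hsA 1
  obtain ⟨w, hw⟩ := hsA 0
  set v0 := h.di 0 (h.pr 2 u) with hv0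
  set v1 := h.di 1 (h.pr 0 (h.pr 2 w)) with hv1
  set c0 := h.di 0 s with hc0
  set c1 := h.di 1 s with hc1
  have e0 : h.dl 1 v0 = c0 := by
    show v0 + A 1 v0 = c0
    rw [hv0, h.A_di, h.A_pr, ← map_add, ← map_add, hu, ← h.pr_di_comm, hfix 0 2 1 (by decide) (by decide) (by decide)]
  have e1 : h.dl 0 v1 = c1 := by
    show v1 + A 0 v1 = c1
    rw [hv1, h.A_di, h.A_pr, h.A_pr, ← map_add, ← map_add, ← map_add, hw, ← h.pr_di_comm, ← h.pr_di_comm,
      hfix 1 2 0 (by decide) (by decide) (by decide), hfix 1 0 2 (by decide) (by decide) (by decide)]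
  have hAc : ∀ m i, A m (h.di i s) = h.di i s := fun m i => by rw [h.A_di, hAs]
  have hdl : ∀ (m i : Fin 3), m ≠ i → ∀ x, h.dl m (X i x) = X i (h.dl m x) := fun m i hmi x => by
    show X i x + A m (X i x) = X i (x + A m x)
    rw [h.AXj m i hmi, map_add]
  let a : Unit ⊕ Unit → V := Sum.elim (fun _ => c0) (X 0 ∘ fun _ => c0)
  let a' : Unit ⊕ Unit → V := Sum.elim (fun _ => v0) (X 0 ∘ fun _ => v0)
  let b : Unit ⊕ Unit → V := Sum.elim (fun _ => c1) (X 1 ∘ fun _ => c1)
  let b' : Unit ⊕ Unit → V := Sum.elim (fun _ => v1) (X 1 ∘ fun _ => v1)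
  have ha : Indep2 a := h.grow 0 (Indep2.single (hne 0)) (fun _ => hAc 0 0) (fun _ => h.pr_di' 0 s)
  have hb : Indep2 b := h.grow 1 (Indep2.single (hne 1)) (fun _ => hAc 1 1) (fun _ => h.pr_di' 1 s)
  have ha4 : Indep2 (Sum.elim a a') := by
    refine ha.double (h.dl 1) ?_ ?_ <;> rintro (m | m)
    · exact h.dl_fix (hAc 1 0)
    · show h.dl 1 (X 0 c0) = 0
      rw [hdl 1 0 (by decide), h.dl_fix (hAc 1 0), map_zero]
    · exact e0
    · show h.dl 1 (X 0 v0) = X 0 c0
      rw [hdl 1 0 (by decide), e0]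
  have hb4 : Indep2 (Sum.elim b b') := by
    refine hb.double (h.dl 0) ?_ ?_ <;> rintro (m | m)
    · exact h.dl_fix (hAc 0 1)
    · show h.dl 0 (X 1 c1) = 0
      rw [hdl 0 1 (by decide), h.dl_fix (hAc 0 1), map_zero]
    · exact e1
    · show h.dl 0 (X 1 v1) = X 1 c1
      rw [hdl 0 1 (by decide), e1]
  have keep : ∀ x, h.di 0 (h.di 0 x) = h.di 0 x := fun x => by
    have := h.pr_di 0 (h.di 0 x)
    rwa [h.pr_di', zero_add] at this
  have kc1 : h.di 0 c1 = 0 := hzero 0 1 2 (by decide) (by decide) (by decide)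
  have kv1 : h.di 0 v1 = 0 := by rw [hv1, comm, h.di_pr, map_zero]
  have h8 : Indep2 (Sum.elim (Sum.elim a a') (Sum.elim b b')) := by
    refine ha4.union hb4 (h.di 0) ?_ ?_ <;> rintro ((m | m) | (m | m))
    · exact keep _
    · show h.di 0 (X 0 c0) = X 0 c0
      rw [← h.X_di', hc0, keep]
    · exact keep _
    · show h.di 0 (X 0 v0) = X 0 v0
      rw [← h.X_di', hv0, keep]
    · exact kc1
    · show h.di 0 (X 1 c1) = 0
      rw [← h.X_di', kc1, map_zero]
    · exact kv1
    · show h.di 0 (X 1 v1) = 0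
      rw [← h.X_di', kv1, map_zero]
  have x0 : X 2 c0 = c0 := by
    rw [hc0, ← hfix 0 2 1 (by decide) (by decide) (by decide), h.X_pr]
  have x1 : X 2 c1 = c1 := by
    rw [hc1, ← hfix 1 2 0 (by decide) (by decide) (by decide), h.X_pr]
  have y0 : X 2 v0 = v0 := by rw [hv0, h.X_di', h.X_pr]
  have y1 : X 2 v1 = v1 := by rw [hv1, h.X_di', h.X_pr', h.X_pr]
  refine hXs 2 (h.fixed_false hcard h8 (by simp) 2 ?_ s)
  rintro (((m | m) | (m | m)) | ((m | m) | (m | m)))
  · exact x0
  · show X 2 (X 0 c0) = X 0 c0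
    rw [h.XX 2 0, x0]
  · exact y0
  · show X 2 (X 0 v0) = X 0 v0
    rw [h.XX 2 0, y0]
  · exact x1
  · show X 2 (X 1 c1) = X 1 c1
    rw [h.XX 2 1, x1]
  · exact y1
  · show X 2 (X 1 v1) = X 1 v1
    rw [h.XX 2 1, y1]

/-- The translates of `s`. -/
def cube (_h : TripleAct X A) (s : V) : (Fin 2 × Fin 2 × Fin 2) → V :=
  fun m => (X 2)^[m.2.2.val] ((X 1)^[m.2.1.val] ((X 0)^[m.1.val] s))

/-- **The eight translates form a basis and the orbit sums vanish.** -/
theorem tensor [Finite V] (hcard : Nat.card V = 256) :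
    Function.Bijective (combB (h.cube s)) ∧ ∀ i v, h.pr i v = 0 := by
  have comm : ∀ i j (w : V), h.di i (h.di j w) = h.di j (h.di i w) := fun i j w => by
    rw [h.di_apply i, h.di_apply i, map_add (h.di j), h.X_di', h.X_di' i j (X i w)]
  set c := h.di 0 (h.di 1 (h.di 2 s)) with hc
  have hcne : c ≠ 0 := h.full_ne hAs hsA hXs hcard
  have hAc : ∀ m, A m c = c := fun m => by rw [hc, h.A_di, h.A_di, h.A_di, hAs]
  have hpc : ∀ m, h.pr m c = 0 := by
    intro m
    fin_cases m
    · exact h.pr_di' 0 _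
    · show h.pr 1 c = 0
      rw [hc, comm 0 1, h.pr_di']
    · show h.pr 2 c = 0
      rw [hc, comm 1 2, comm 0 2, h.pr_di']
  have hg : ∀ (m i : Fin 3), m ≠ i → ∀ x, A m x = x → A m (X i x) = X i x := fun m i hmi x hx => by
    rw [h.AXj m i hmi, hx]
  have hgp : ∀ (m i : Fin 3) (x : V), h.pr m x = 0 → h.pr m (X i x) = 0 := fun m i x hx => by
    rw [← h.X_pr', hx, map_zero]
  let a1 : Unit ⊕ Unit → V := Sum.elim (fun _ => c) (X 0 ∘ fun _ => c)
  have h1 : Indep2 a1 := h.grow 0 (Indep2.single hcne) (fun _ => hAc 0) (fun _ => hpc 0)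
  let a2 := Sum.elim a1 (X 1 ∘ a1)
  have h2 : Indep2 a2 := by
    refine h.grow 1 h1 ?_ ?_ <;> rintro (m | m)
    exacts [hAc 1, hg 1 0 (by decide) c (hAc 1), hpc 1, hgp 1 0 c (hpc 1)]
  have h3 : Indep2 (Sum.elim a2 (X 2 ∘ a2)) := by
    refine h.grow 2 h2 ?_ ?_ <;> rintro ((m | m) | (m | m))
    exacts [hAc 2, hg 2 0 (by decide) c (hAc 2), hg 2 1 (by decide) c (hAc 2),
      hg 2 1 (by decide) _ (hg 2 0 (by decide) c (hAc 2)),
      hpc 2, hgp 2 0 c (hpc 2), hgp 2 1 c (hpc 2), hgp 2 1 _ (hgp 2 0 c (hpc 2))]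
  have hbij := h3.bijective h.two (by rw [hcard]; simp)
  have hall : ∀ i v, h.pr i v = 0 := by
    intro i v
    obtain ⟨d, rfl⟩ := hbij.2 v
    rw [map_combB]
    refine combB_const _ _ ?_
    rintro (((m | m) | (m | m)) | ((m | m) | (m | m)))
    exacts [hpc i, hgp i 0 c (hpc i), hgp i 1 c (hpc i), hgp i 1 _ (hgp i 0 c (hpc i)),
      hgp i 2 c (hpc i), hgp i 2 _ (hgp i 0 c (hpc i)), hgp i 2 _ (hgp i 1 c (hpc i)),
      hgp i 2 _ (hgp i 1 _ (hgp i 0 c (hpc i)))]
  have hd : ∀ i x, h.di i x = x := fun i x => by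
    have := h.pr_di i x
    rwa [hall, zero_add] at this
  have hcs : c = s := by rw [hc, hd, hd, hd]
  let e : (Fin 2 × Fin 2 × Fin 2) ≃ ((Unit ⊕ Unit) ⊕ (Unit ⊕ Unit)) ⊕ ((Unit ⊕ Unit) ⊕ (Unit ⊕ Unit)) :=
    { toFun := fun m => (if m.2.2 = 0 then Sum.inl else Sum.inr)
        ((if m.2.1 = 0 then Sum.inl else Sum.inr) ((if m.1 = 0 then Sum.inl else Sum.inr) ()))
      invFun := fun x =>
        (Sum.elim (Sum.elim (Sum.elim (fun _ => 0) fun _ => 1) (Sum.elim (fun _ => 0) fun _ => 1))
          (Sum.elim (Sum.elim (fun _ => 0) fun _ => 1) (Sum.elim (fun _ => 0) fun _ => 1)) x,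
         Sum.elim (Sum.elim (fun _ => 0) fun _ => 1) (Sum.elim (fun _ => 0) fun _ => 1) x,
         Sum.elim (fun _ => 0) (fun _ => 1) x)
      left_inv := by decide
      right_inv := by decide }
  refine ⟨(h3.reindex e).bijective h.two (by rw [hcard]; simp) |> fun hb => ?_, hall⟩
  convert hb using 2
  funext m
  rw [cube, ← hcs]
  obtain ⟨m0, m1, m2⟩ := m
  fin_cases m0 <;> fin_cases m1 <;> fin_cases m2 <;> rfl

end TripleAct

end CfsgLib.O8C
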