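import Cfsg.Agent.Lib.OEightCent.Setup
import Cfsg.Agent.Lib.OEightCent.Tensor

/-!
The core modulo its centre: eight translates of the second involution form a basis.
-/

set_option autoImplicit false
set_option maxRecDepth 8000

namespace CfsgLib.O8C

open Subgroup CfsgLargeExtra

universe u

variable {G : Type u} [Group G]

/-- The order of the coordinates of the basis. -/
def L8 : List (Fin 2 × Fin 2 × Fin 2) :=
  [(0, 0, 0), (1, 0, 0), (0, 1, 0), (0, 0, 1), (0, 1, 1), (1, 0, 1), (1, 1, 0), (1, 1, 1)]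

/-- The translating element of a coordinate vector. -/
def trW (x : Fin 3 → G) (m : Fin 2 × Fin 2 × Fin 2) : G :=
  x 2 ^ m.2.2.val * (x 1 ^ m.2.1.val * x 0 ^ m.1.val)

/-- A translate. -/
def trS (x : Fin 3 → G) (s : G) (m : Fin 2 × Fin 2 × Fin 2) : G := trW x m * s * (trW x m)⁻¹

/-- The product of some translates. -/
def prodS (x : Fin 3 → G) (s : G) (c : Fin 2 × Fin 2 × Fin 2 → Bool) : G :=
  (L8.map fun m => bif c m then trS x s m else 1).prod

variable [Finite G] {t : G} {E : Subgroup G} {π : G → Q3} {g : G}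

namespace Std8

variable (D : Std8 t E π g)
include D

theorem mem_center_E (q : ↥E) : q ∈ Subgroup.center ↥E ↔ (q : G) = 1 ∨ (q : G) = t := by
  rw [D.es.toExt.center_iff]
  constructor <;> rintro (h | h)
  · exact Or.inl (congrArg Subtype.val h)
  · exact Or.inr (congrArg Subtype.val h)
  · exact Or.inl (Subtype.ext h)
  · exact Or.inr (Subtype.ext h)

theorem prodS_mem {x : Fin 3 → G} (hx : ∀ i, x i * t = t * x i) (c : Fin 2 × Fin 2 × Fin 2 → Bool) :
    prodS x (g * t * g⁻¹) c ∈ E ∧ ∀ m, trS x (g * t * g⁻¹) m ∈ E := by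
  have h1 : ∀ m, trS x (g * t * g⁻¹) m ∈ E := fun m =>
    D.es.nor _ ((Commute.pow_left (hx 2) _).mul_left ((Commute.pow_left (hx 1) _).mul_left
      (Commute.pow_left (hx 0) _))).eq _ D.hs
  refine ⟨Subgroup.list_prod_mem _ fun y hy => ?_, h1⟩
  obtain ⟨m, -, rfl⟩ := List.mem_map.mp hy
  cases c m <;> simp [h1 m]

/-- **Basis and vanishing orbit sums.** -/
theorem module_facts {x a : Fin 3 → G} (hx : ∀ i, x i * t = t * x i) (ha : ∀ i, a i * t = t * a i)
    (hπx : ∀ i, π (x i) = σg i) (hπa : ∀ i, π (a i) = τg i) :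
    (∀ e ∈ E, ∃ c, e = prodS x (g * t * g⁻¹) c ∨ e = prodS x (g * t * g⁻¹) c * t) ∧
    (∀ c, prodS x (g * t * g⁻¹) c = 1 ∨ prodS x (g * t * g⁻¹) c = t → ∀ m, c m = false) ∧
    (∀ i, ∀ e ∈ E, e * (x i * e * (x i)⁻¹) * (x i * x i * e * (x i * x i)⁻¹) = 1 ∨
      e * (x i * e * (x i)⁻¹) * (x i * x i * e * (x i * x i)⁻¹) = t) := by
  classical
  set s := g * t * g⁻¹ with hs
  let Z := Subgroup.center ↥E
  have hcomm : ∀ a b : ↥E ⧸ Z, a * b = b * a := by
    intro a b
    obtain ⟨a, rfl⟩ := QuotientGroup.mk_surjective a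
    obtain ⟨b, rfl⟩ := QuotientGroup.mk_surjective b
    rw [← QuotientGroup.mk_mul, ← QuotientGroup.mk_mul, QuotientGroup.eq, D.mem_center_E]
    rcases D.es.commutator_cases (inv_mem b.2) (inv_mem a.2) with e | e
    · left
      rw [← e, commutatorElement_def]; push_cast; group
    · right
      rw [← e, commutatorElement_def]; push_cast; group
  letI : CommGroup (↥E ⧸ Z) := { (inferInstance : Group (↥E ⧸ Z)) with mul_comm := hcomm }
  let V := Additive (↥E ⧸ Z)
  let cl : ↥E → V := fun e => Additive.ofMul (QuotientGroup.mk e)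
  have cl_surj : Function.Surjective cl := fun v => QuotientGroup.mk_surjective (Additive.toMul v)
  have cl_mul : ∀ a b, cl (a * b) = cl a + cl b := fun a b => rfl
  have cl_zero : ∀ a : ↥E, cl a = 0 ↔ (a : G) = 1 ∨ (a : G) = t := fun a => by
    rw [← D.mem_center_E]
    exact QuotientGroup.eq_one_iff a
  have h2 : ∀ v : V, v + v = 0 := by
    intro v
    obtain ⟨e, rfl⟩ := cl_surj v
    rw [← cl_mul, cl_zero]
    exact D.es.sq e e.2
  have cl_eq : ∀ a b : ↥E, cl a = cl b → (a : G) = b ∨ (a : G) = b * t := by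
    intro a b e
    have h := (cl_zero (b⁻¹ * a)).mp (by rw [cl_mul, e, ← cl_mul, inv_mul_cancel]; rfl)
    rcases h with h | h
    · exact Or.inl (inv_mul_eq_one.mp h).symm
    · exact Or.inr (inv_mul_eq_iff_eq_mul.mp h)
  -- the action
  let conjE : (c : G) → c * t = t * c → ↥E →* ↥E := fun c hc =>
    MonoidHom.mk' (fun e => ⟨c * e * c⁻¹, D.es.nor c hc e e.2⟩) fun a b => Subtype.ext (by
      show c * (a * b : G) * c⁻¹ = c * a * c⁻¹ * (c * b * c⁻¹); group)
  have hker : ∀ (c : G) (hc : c * t = t * c),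
      Z ≤ ((QuotientGroup.mk' Z).comp (conjE c hc)).ker := by
    intro c hc e he
    rw [MonoidHom.mem_ker, MonoidHom.comp_apply, QuotientGroup.mk'_apply, QuotientGroup.eq_one_iff, D.mem_center_E]
    rcases (D.mem_center_E e).mp he with h | h
    · left; show c * (e : G) * c⁻¹ = 1; rw [h]; group
    · right; show c * (e : G) * c⁻¹ = t; rw [h, hc, mul_inv_cancel_right]
  let act : (c : G) → c * t = t * c → (V →+ V) := fun c hc =>
    MonoidHom.toAdditive (QuotientGroup.lift Z ((QuotientGroup.mk' Z).comp (conjE c hc)) (hker c hc))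
  have act_cl : ∀ c hc (e : ↥E), act c hc (cl e) = cl ⟨c * e * c⁻¹, D.es.nor c hc e e.2⟩ := fun c hc e => rfl
  have act_act : ∀ c d hc hd v, act c hc (act d hd v) = act (c * d) (Commute.mul_left hc hd).eq v := by
    intro c d hc hd v
    obtain ⟨e, rfl⟩ := cl_surj v
    rw [act_cl d hd, act_cl c hc, act_cl _ (Commute.mul_left hc hd).eq]
    exact congrArg cl (Subtype.ext (by show c * (d * e * d⁻¹) * c⁻¹ = c * d * e * (c * d)⁻¹; group))
  have act_eq : ∀ c d hc hd, π c = π d → ∀ v, act c hc v = act d hd v := by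
    intro c d hc hd h v
    obtain ⟨e, rfl⟩ := cl_surj v
    have hq : c⁻¹ * d ∈ E := (D.π_ker _ (Commute.mul_left (Commute.inv_left hc) hd).eq).mp (by
      rw [D.π_mul _ _ (Commute.inv_left hc) hd, D.π_inv hc, h, inv_mul_cancel])
    rw [act_cl c hc, act_cl d hd]
    have e1 : (d * (e : G) * d⁻¹) = c * ((c⁻¹ * d) * e * (c⁻¹ * d)⁻¹) * c⁻¹ := by group
    rcases D.es.conj_cases hq e.2 with h1 | h1
    · exact congrArg cl (Subtype.ext (by
        show c * (e : G) * c⁻¹ = d * e * d⁻¹
        rw [e1, h1]))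
    · have hct : c * t * c⁻¹ = t := by rw [hc, mul_inv_cancel_right]
      have hE1 : cl ⟨d * e * d⁻¹, D.es.nor d hd e e.2⟩ =
          cl (⟨c * e * c⁻¹, D.es.nor c hc e e.2⟩ * ⟨t, D.es.mem⟩) := congrArg cl (Subtype.ext (by
        show d * (e : G) * d⁻¹ = c * e * c⁻¹ * t
        rw [e1, h1]
        conv_rhs => rw [← hct]
        group))
      rw [hE1, cl_mul, (cl_zero (⟨t, D.es.mem⟩ : ↥E)).mpr (Or.inr rfl), add_zero]
  have act_id : ∀ c hc, π c = 1 → ∀ v, act c hc v = v := by
    intro c hc h v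
    rw [act_eq c 1 hc (by simp) (h.trans D.π_one.symm)]
    obtain ⟨e, rfl⟩ := cl_surj v
    rw [act_cl 1 (by simp)]
    exact congrArg cl (Subtype.ext (by simp))
  let X : Fin 3 → V →+ V := fun i => act (x i) (hx i)
  let A : Fin 3 → V →+ V := fun i => act (a i) (ha i)
  have cm : ∀ {c d : G}, c * t = t * c → d * t = t * d → c * d * t = t * (c * d) :=
    fun hc hd => (Commute.mul_left hc hd).eq
  have hσ : ∀ i, σg i * (σg i * σg i) = 1 := by decide
  have hAX' : ∀ i, τg i * σg i = σg i * (σg i * τg i) := by decide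
  have hXX' : ∀ i j, σg i * σg j = σg j * σg i := by decide
  have hAXj' : ∀ i j, i ≠ j → τg i * σg j = σg j * τg i := by decide
  have T : TripleAct X A := by
    refine ⟨h2, fun i v => ?_, fun i j v => ?_, fun i v => ?_, fun i j hij v => ?_⟩ <;>
      simp only [X, A, act_act]
    · exact act_id _ (cm (hx i) (cm (hx i) (hx i))) (by rw [D.π_mul _ _ (hx i) (cm (hx i) (hx i)), D.π_mul _ _ (hx i) (hx i), hπx, hσ]) v
    · exact act_eq _ _ (cm (hx i) (hx j)) (cm (hx j) (hx i)) (by rw [D.π_mul _ _ (hx i) (hx j), D.π_mul _ _ (hx j) (hx i), hπx, hπx, hXX']) v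
    · exact act_eq _ _ (cm (ha i) (hx i)) (cm (hx i) (cm (hx i) (ha i))) (by rw [D.π_mul _ _ (ha i) (hx i), D.π_mul _ _ (hx i) (cm (hx i) (ha i)),
        D.π_mul _ _ (hx i) (ha i), hπx, hπa, hAX']) v
    · exact act_eq _ _ (cm (ha i) (hx j)) (cm (hx j) (ha i)) (by rw [D.π_mul _ _ (ha i) (hx j), D.π_mul _ _ (hx j) (ha i), hπx, hπa, hAXj' i j hij]) v
  let sE : ↥E := ⟨s, D.hs⟩
  have hAs : ∀ i, A i (cl sE) = cl sE := by
    intro i
    obtain ⟨b, hb, hbt, hb'⟩ := D.onto _ (τg_mem i)
    show act (a i) (ha i) (cl sE) = _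
    rw [act_eq (a i) b (ha i) hbt ((hπa i).trans hb'.symm), act_cl b hbt]
    exact congrArg cl (Subtype.ext (by
      show b * s * b⁻¹ = s
      rw [D.es'.comm b hb, mul_inv_cancel_right]))
  have hsA : ∀ i, ∃ v, v + A i v = cl sE := by
    intro i
    obtain ⟨b, hbt, hb', w, hw, e⟩ := D.s_commutator (τg_mem i) (by revert i; decide)
    refine ⟨cl ⟨w, hw⟩, ?_⟩
    show cl _ + act (a i) (ha i) (cl _) = _
    rw [act_eq (a i) b (ha i) hbt ((hπa i).trans hb'.symm), act_cl b hbt,
      show (⟨b * w * b⁻¹, D.es.nor b hbt w hw⟩ : ↥E) = ⟨w, hw⟩ * sE from Subtype.ext e, cl_mul, ← add_assoc, h2,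
      zero_add]
  have hXs : ∀ i, X i (cl sE) ≠ cl sE := by
    intro i e
    have hnot : ∀ j, σg j ∉ A0 := by
      simp only [mem_A0]; decide
    refine hnot i ?_
    rw [← hπx i]
    refine D.stab (hx i) ?_
    have e' : cl ⟨x i * s * (x i)⁻¹, D.es.nor _ (hx i) _ D.hs⟩ = cl sE := (act_cl _ (hx i) _).symm.trans e
    exact cl_eq _ _ e'
  have hcard : Nat.card V = 256 := by
    have h1 := Subgroup.card_eq_card_quotient_mul_card_subgroup Z
    rw [D.card, D.es.toExt.card_center] at h1
    show Nat.card (↥E ⧸ Z) = 256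
    omega
  obtain ⟨hbij, hall⟩ := T.tensor hAs hsA hXs hcard
  have htr : ∀ m, cl ⟨trS x s m, (D.prodS_mem hx (fun _ => false)).2 m⟩ = T.cube (cl sE) m := by
    intro m
    have hp : ∀ i (n : ℕ) v, act (x i ^ n) (Commute.pow_left (hx i) n).eq v = (X i)^[n] v := by
      intro i n
      induction n with
      | zero => intro v; exact act_id _ (Commute.pow_left (hx i) 0).eq (by rw [pow_zero, D.π_one]) v
      | succ n ih =>
        intro v
        rw [Function.iterate_succ_apply', ← ih v]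
        show _ = act (x i) (hx i) (act (x i ^ n) (Commute.pow_left (hx i) n).eq v)
        rw [act_act (x i) (x i ^ n) (hx i) (Commute.pow_left (hx i) n).eq]
        exact act_eq _ _ (Commute.pow_left (hx i) (n + 1)).eq (cm (hx i) (Commute.pow_left (hx i) n).eq)
          (by rw [pow_succ']) v
    have q0 := (Commute.pow_left (hx 0) m.1.val).eq
    have q1 := (Commute.pow_left (hx 1) m.2.1.val).eq
    have q2 := (Commute.pow_left (hx 2) m.2.2.val).eq
    rw [TripleAct.cube, ← hp, ← hp, ← hp, act_act _ _ q1 q0, act_act _ _ q2 (cm q1 q0), act_cl _ (cm q2 (cm q1 q0))]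
    exact congrArg cl (Subtype.ext (by simp only [trS, trW, mul_assoc]; rfl))
  have hcl : ∀ c, cl ⟨prodS x s c, (D.prodS_mem hx c).1⟩ = combB (T.cube (cl sE)) c := by
    intro c
    have hlist : ∀ (l : List (Fin 2 × Fin 2 × Fin 2)) (hm : (l.map fun m => bif c m then trS x s m else 1).prod ∈ E),
        cl ⟨_, hm⟩ = (l.map fun m => bif c m then T.cube (cl sE) m else 0).sum := by
      intro l
      induction l with
      | nil => intro hm; exact (cl_zero _).mpr (Or.inl rfl)
      | cons m l ih =>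
        intro hm
        have h1 : (bif c m then trS x s m else 1) ∈ E := by
          cases hc' : c m
          · simp
          · simpa using (D.prodS_mem hx c).2 m
        have h3 : (l.map fun m => bif c m then trS x s m else 1).prod ∈ E := by
          rw [List.map_cons, List.prod_cons] at hm
          exact (Subgroup.mul_mem_cancel_left _ h1).mp hm
        refine (congrArg cl (Subtype.ext List.prod_cons : (⟨_, hm⟩ : ↥E) = ⟨_, h1⟩ * ⟨_, h3⟩)).trans ?_
        rw [cl_mul, ih h3]
        refine Eq.trans ?_ (List.sum_cons (a := bif c m then T.cube (cl sE) m else 0)).symm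
        congr 1
        have hb : ∀ (b : Bool) (hb : (bif b then trS x s m else 1) ∈ E),
            cl ⟨_, hb⟩ = bif b then T.cube (cl sE) m else 0 := by
          intro b hb
          cases b
          · exact (cl_zero _).mpr (Or.inl rfl)
          · exact htr m
        exact hb _ h1
    rw [show combB (T.cube (cl sE)) c = (L8.map fun m => bif c m then T.cube (cl sE) m else 0).sum from ?_]
    · exact hlist L8 (D.prodS_mem hx c).1
    · rw [combB, ← List.sum_toFinset _ (by decide : L8.Nodup)]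
      exact Finset.sum_congr (by decide) fun _ _ => rfl
  refine ⟨fun e he => ?_, fun c hc => ?_, fun i e he => ?_⟩
  · obtain ⟨c, hc⟩ := hbij.2 (cl ⟨e, he⟩)
    rw [← hcl] at hc
    exact ⟨c, cl_eq _ _ hc.symm⟩
  · have h0 : combB (T.cube (cl sE)) c = 0 := (hcl c).symm.trans ((cl_zero _).mpr hc)
    have := hbij.1 (h0.trans (combB_zero (T.cube (cl sE)) (c := fun _ => false) fun _ => rfl).symm)
    exact fun m => congrFun this m
  · have h := hall i (cl ⟨e, he⟩)
    rw [TripleAct.pr_apply] at h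
    simp only [X, act_act, act_cl, ← cl_mul] at h
    simpa [mul_assoc, mul_inv_rev] using (cl_zero _).mp h

end Std8

end CfsgLib.O8C
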