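import Cfsg.Agent.Lib.OEightCent.Module
import Mathlib.GroupTheory.Sylow

/-!
A Sylow three-subgroup of the centralizer, generators and their normalizing elements.
-/

set_option autoImplicit false
set_option maxRecDepth 8000

namespace CfsgLib.O8C

open Subgroup CfsgLargeExtra

universe u

variable {G : Type u} [Group G]

/-- Lifts of the three elements of order three, generating a group normalised by lifts of the transpositions. -/
structure Odd8 (t : G) (π : G → Q3) (x a : Fin 3 → G) : Prop where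
  x_t : ∀ i, x i * t = t * x i
  a_t : ∀ i, a i * t = t * a i
  πx : ∀ i, π (x i) = σg i
  πa : ∀ i, π (a i) = τg i
  x3 : ∀ i, x i * (x i * x i) = 1
  xx : ∀ i j, x i * x j = x j * x i
  ax : ∀ i, a i * x i * (a i)⁻¹ = x i * x i
  axj : ∀ i j, i ≠ j → a i * x j * (a i)⁻¹ = x j

variable [Finite G] {t : G} {E : Subgroup G} {π : G → Q3}

theorem Cent8.exists_odd (h : Cent8 t E π) : ∃ x a : Fin 3 → G, Odd8 t π x a := by
  classical
  have := Fact.mk Nat.prime_three
  set C := Subgroup.centralizer ({t} : Set G) with hC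
  set φ := h.πhom with hφ
  obtain ⟨P⟩ : Nonempty (Sylow 3 ↥C) := Sylow.nonempty
  have hP : Nat.card (P : Subgroup ↥C) = 27 := by
    rw [P.card_eq_multiplicity, h.card_C, show (110592 : ℕ) = 3 ^ 3 * 4096 from rfl,
      Nat.factorization_mul (by norm_num) (by norm_num), Nat.Prime.factorization_pow Nat.prime_three,
      Finsupp.add_apply, Finsupp.single_eq_same, Nat.factorization_eq_zero_of_not_dvd (by norm_num : ¬ 3 ∣ 4096)]
    rfl
  have hinj : ∀ p ∈ (P : Subgroup ↥C), φ p = 1 → p = 1 := by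
    intro p hp he
    have hpE : (p : G) ∈ E := (h.π_ker p (Subgroup.mem_centralizer_singleton_iff.mp p.2)).mp he
    have h1 : orderOf p ∣ 27 := by
      rw [← hP, ← Subgroup.orderOf_mk p hp]; exact orderOf_dvd_natCard _
    have h2 : orderOf p ∣ 512 := by
      rw [← h.card, ← Subgroup.orderOf_coe p, ← Subgroup.orderOf_mk (p : G) hpE]; exact orderOf_dvd_natCard _
    exact orderOf_eq_one_iff.mp (Nat.eq_one_of_dvd_coprimes (by norm_num : Nat.Coprime 27 512) h1 h2)
  have hinj' : ∀ p ∈ (P : Subgroup ↥C), ∀ q ∈ (P : Subgroup ↥C), φ p = φ q → p = q := fun p hp q hq e => by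
    refine mul_inv_eq_one.mp (hinj _ (mul_mem hp (inv_mem hq)) ?_)
    rw [map_mul, map_inv, e, mul_inv_cancel]
  set J := (P : Subgroup ↥C).map φ with hJ
  have hJc : Nat.card J = 27 := by
    rw [← hP]
    refine (Nat.card_congr (Equiv.ofBijective (fun p : (P : Subgroup ↥C) => (⟨φ p, ⟨p, p.2, rfl⟩⟩ : J))
      ⟨fun p q e => Subtype.ext (hinj' p p.2 q q.2 (congrArg Subtype.val e)), fun ⟨q, p, hp, e⟩ => ⟨⟨p, hp⟩, Subtype.ext e⟩⟩)).symm
  have h27 : ∀ q : Q3, q ^ 27 = 1 → q ^ 3 = 1 := by decide +kernel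
  let T : Finset Q3 := Finset.univ.filter fun q => q ^ 3 = 1
  have hT : T.card = 27 := by decide +kernel
  have hJT : ∀ q, q ∈ J ↔ q ^ 3 = 1 := by
    intro q
    have hsub : ∀ r ∈ J, r ^ 3 = 1 := fun r hr => h27 r (by
      have := pow_card_eq_one' (x := (⟨r, hr⟩ : J))
      rw [hJc] at this
      simpa using congrArg Subtype.val this)
    refine ⟨hsub q, fun hq => ?_⟩
    have hle : (J : Set Q3).toFinset ⊆ T := fun r hr =>
      Finset.mem_filter.mpr ⟨Finset.mem_univ _, hsub r (Set.mem_toFinset.mp hr)⟩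
    have he := Finset.eq_of_subset_of_card_le hle (by
      rw [hT, Set.toFinset_card, ← Nat.card_eq_fintype_card]; exact le_of_eq hJc.symm)
    exact Set.mem_toFinset.mp (he.symm ▸ Finset.mem_filter.mpr ⟨Finset.mem_univ _, hq⟩)
  have hσ : ∀ i, σg i ^ 3 = 1 := by decide
  choose x hxP hxe using fun i => (hJT _).mpr (hσ i)
  haveI : J.Normal := ⟨fun q hq r => (hJT _).mpr (by rw [conj_pow, (hJT q).mp hq, mul_one, mul_inv_cancel])⟩
  set N := J.comap φ with hN
  have hPN : (P : Subgroup ↥C) ≤ N := fun p hp => ⟨p, hp, rfl⟩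
  have hfr := Sylow.normalizer_sup_eq_top (P.subtype hPN)
  rw [Sylow.coe_subtype, Subgroup.map_subgroupOf_eq_of_le hPN] at hfr
  have ex : ∀ i, ∃ a : ↥C, φ a = τg i ∧ a ∈ Subgroup.normalizer ((P : Subgroup ↥C) : Set ↥C) := by
    intro i
    obtain ⟨c, hc⟩ := h.πhom_surj (τg i)
    obtain ⟨n, hn, m, hm, e⟩ := Subgroup.mem_sup_of_normal_right.mp (hfr.symm ▸ Subgroup.mem_top c)
    obtain ⟨p, hp, hpe⟩ : φ m ∈ J := hm
    refine ⟨n * p, ?_, mul_mem hn (Subgroup.le_normalizer hp)⟩
    rw [map_mul, hpe, ← map_mul, e]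
    exact hc
  choose a hae haN using ex
  refine ⟨fun i => x i, fun i => a i, fun i => Subgroup.mem_centralizer_singleton_iff.mp (x i).2,
    fun i => Subgroup.mem_centralizer_singleton_iff.mp (a i).2, fun i => hxe i, fun i => hae i, fun i => ?_,
    fun i j => ?_, fun i => ?_, fun i j hij => ?_⟩
  · have : x i * (x i * x i) = 1 := hinj _ (mul_mem (hxP i) (mul_mem (hxP i) (hxP i))) (by
      rw [map_mul, map_mul, hxe]; revert i; decide)
    exact congrArg Subtype.val this
  · have : x i * x j = x j * x i := hinj' _ (mul_mem (hxP i) (hxP j)) _ (mul_mem (hxP j) (hxP i)) (by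
      rw [map_mul, map_mul, hxe, hxe]; revert i j; decide)
    exact congrArg Subtype.val this
  · have : a i * x i * (a i)⁻¹ = x i * x i :=
      hinj' _ ((Subgroup.mem_normalizer_iff.mp (haN i) _).mp (hxP i)) _ (mul_mem (hxP i) (hxP i)) (by
        rw [map_mul, map_mul, map_mul, map_inv, hxe, hae]; revert i; decide)
    exact congrArg Subtype.val this
  · have : a i * x j * (a i)⁻¹ = x j :=
      hinj' _ ((Subgroup.mem_normalizer_iff.mp (haN i) _).mp (hxP j)) _ (hxP j) (by
        rw [map_mul, map_mul, map_inv, hxe, hae]; revert i j; decide)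
    exact congrArg Subtype.val this

end CfsgLib.O8C
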