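import Cfsg.Agent.Lib.OEightCent.Roots

/-!
The root elements satisfy the relations of type `D₄` over the field with two elements.
-/

set_option autoImplicit false
set_option maxRecDepth 8000

namespace CfsgLib.O8C

open Subgroup CfsgLargeExtra

universe u

/-- The kinds of positive roots. -/
abbrev PRoot : Type := Option (Fin 3 ⊕ (Fin 2 × Fin 2 × Fin 2))

/-- The index of a kind. -/
def ridx : PRoot → Fin 24
  | none => 23
  | some (Sum.inl i) => ![18, 13, 12] i
  | some (Sum.inr m) => ![![![22, 21], ![20, 19]], ![![17, 16], ![15, 14]]] m.1 m.2.1 m.2.2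

/-- The commutator of two kinds. -/
def expI : PRoot → PRoot → Option PRoot
  | some (Sum.inr m), some (Sum.inr k) => if k = cpl m then some none else none
  | some (Sum.inl i), some (Sum.inr m) => if crd m i = 0 then none else some (some (Sum.inr (clr i m)))
  | some (Sum.inr m), some (Sum.inl i) => if crd m i = 0 then none else some (some (Sum.inr (clr i m)))
  | _, _ => none

theorem ridx_surj : ∀ r : Fin 24, 12 ≤ r.val → ∃ p : PRoot, ridx p = r := by decide

theorem sum_check : ∀ p q : PRoot, p ≠ q → sumI (ridx p) (ridx q) = (expI p q).map ridx := by decide +kernel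

/-- The action along a word. -/
def actW : List (Fin 4) → Fin 24 → Fin 24
  | [], r => r
  | k :: l, r => sref k (actW l r)

/-- Words moving every pair of roots to positive roots. -/
def weylW : List (List (Fin 4)) :=
  [[], [1, 2, 0, 1, 3, 0, 1, 2, 0, 1, 0], [0, 1, 3, 0, 1, 0], [2, 0, 1, 3, 0, 1, 2], [0, 1, 2, 1, 0],
    [3, 1, 2, 0, 1, 3], [3, 1, 2, 1], [2, 1, 3, 1, 2, 0], [1, 3, 1, 2, 0, 1]]

theorem cover_check : ∀ r s : Fin 24, r ≠ s → r.val + s.val ≠ 23 →
    (weylW.any fun l => decide (12 ≤ (actW l r).val ∧ 12 ≤ (actW l s).val ∧ actW l r ≠ actW l s ∧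
      sumI (actW l r) (actW l s) = (sumI r s).map (actW l))) = true := by decide +kernel

section inv

variable {G : Type u} [Group G]

theorem comm_four {u v : G} (hu : u * u = 1) (hv : v * v = 1) (h : Commute u v) : u * v * u * v = 1 := by
  rw [h.eq, mul_assoc v u u, hu, mul_one, hv]

theorem comm_four_swap {u v z : G} (hu : u * u = 1) (hv : v * v = 1) (hz : z * z = 1) (h : u * v * u * v = z) :
    v * u * v * u = z := by
  rw [← inv_eq_of_mul_eq_one_right hz, ← h]
  simp only [mul_inv_rev, inv_eq_of_mul_eq_one_right hu, inv_eq_of_mul_eq_one_right hv, mul_assoc]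

end inv

variable {G : Type u} [Group G] [Finite G] {t : G} {E : Subgroup G} {π : G → Q3} {g : G} {x a : Fin 3 → G} {n : G}

namespace Swap8

variable (S : Swap8 t E π g x a n)
include S

/-- The element of a kind. -/
def pval (_S : Swap8 t E π g x a n) : PRoot → G
  | none => t
  | some (Sum.inl i) => a i
  | some (Sum.inr m) => trS x (g * t * g⁻¹) m

theorem posR_ridx : ∀ p, S.posR (ridx p) = S.pval p
  | none => rfl
  | some (Sum.inl i) => by fin_cases i <;> rfl
  | some (Sum.inr (m0, m1, m2)) => by fin_cases m0 <;> fin_cases m1 <;> fin_cases m2 <;> rfl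

theorem root_pos (r : Fin 24) (h : 12 ≤ r.val) : S.root r = S.posR r := by
  have h1 : ∀ r : Fin 24, 12 ≤ r.val → nword r = [] ∧ nbase r = r := by decide
  obtain ⟨e1, e2⟩ := h1 r h
  rw [root, e1, e2]; rfl

theorem pval_sq : ∀ p, S.pval p * S.pval p = 1
  | none => S.es.zz
  | some (Sum.inl i) => S.a_sq i
  | some (Sum.inr m) => S.bv_sq m

theorem pair_a_b (i : Fin 3) (m : Fin 2 × Fin 2 × Fin 2) :
    a i * S.bv m * a i * S.bv m = if crd m i = 0 then 1 else S.bv (clr i m) := by
  have hai : (a i)⁻¹ = a i := inv_eq_of_mul_eq_one_right (S.a_sq i)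
  split_ifs with h
  · exact comm_four (S.a_sq i) (S.bv_sq m) (mul_inv_eq_iff_eq_mul.mp (S.a_conj_bv_fix i h))
  · have e := S.a_conj_bv i h
    rw [hai] at e
    rw [e, mul_assoc, S.bv_sq, mul_one]

theorem pair_rel (p q : PRoot) :
    p ≠ q → S.pval p * S.pval q * S.pval p * S.pval q = ((expI p q).map S.pval).getD 1 := by
  intro hpq
  rcases p with _ | i | m <;> rcases q with _ | j | k
  · exact absurd rfl hpq
  · exact comm_four S.es.zz (S.a_sq j) (show Commute (a j) t from S.a_t j).symm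
  · exact comm_four S.es.zz (S.bv_sq k) (S.bv_t k).symm
  · exact comm_four (S.a_sq i) S.es.zz (S.a_t i)
  · exact comm_four (S.a_sq i) (S.a_sq j) (S.a_comm i j)
  · simp only [pval, expI]
    rw [show trS x (g * t * g⁻¹) k = S.bv k from rfl, S.pair_a_b]
    split_ifs <;> rfl
  · exact comm_four (S.bv_sq m) S.es.zz (S.bv_t m)
  · simp only [pval, expI]
    rw [show trS x (g * t * g⁻¹) m = S.bv m from rfl]
    split_ifs with h
    · exact comm_four (S.bv_sq m) (S.a_sq j) (mul_inv_eq_iff_eq_mul.mp (S.a_conj_bv_fix j h) : Commute (a j) _).symm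
    · refine comm_four_swap (S.a_sq j) (S.bv_sq m) (S.bv_sq (clr j m)) ?_
      rw [S.pair_a_b, if_neg h]
      rfl
  · simp only [pval, expI]
    rw [show trS x (g * t * g⁻¹) m = S.bv m from rfl, show trS x (g * t * g⁻¹) k = S.bv k from rfl]
    split_ifs with h
    · subst h
      have e := (S.es.conj_cases (S.bv_mem m) (S.bv_mem (cpl m))).resolve_left fun e =>
        ((S.bv_commute_iff m (cpl m)).mp (mul_inv_eq_iff_eq_mul.mp e)) rfl
      rw [inv_eq_of_mul_eq_one_right (S.bv_sq m)] at e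
      rw [e, mul_assoc, ← (S.bv_t (cpl m)).eq, ← mul_assoc, S.bv_sq, one_mul]
      rfl
    · exact comm_four (S.bv_sq m) (S.bv_sq k) (S.bv_comm h)

theorem posR_rel {r s : Fin 24} (hr : 12 ≤ r.val) (hs : 12 ≤ s.val) (hne : r ≠ s) :
    S.root r * S.root s * S.root r * S.root s = optRt S.root (sumI r s) := by
  obtain ⟨p, rfl⟩ := ridx_surj r hr
  obtain ⟨q, rfl⟩ := ridx_surj s hs
  have hpq : p ≠ q := fun e => hne (e ▸ rfl)
  rw [S.root_pos _ hr, S.root_pos _ hs, S.posR_ridx, S.posR_ridx, S.pair_rel p q hpq, sum_check p q hpq]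
  cases expI p q with
  | none => rfl
  | some u =>
    show S.pval u = S.root (ridx u)
    rw [S.root_pos _ ((by decide : ∀ u : PRoot, 12 ≤ (ridx u).val) u), S.posR_ridx]

theorem cjW_root : ∀ (l : List (Fin 4)) (r : Fin 24), S.cjW l (S.root r) = S.root (actW l r)
  | [], _ => rfl
  | k :: l, r => by
    show S.Wg k * S.cjW l (S.root r) * S.Wg k = _
    rw [cjW_root l r]
    exact S.step_all k _

theorem cjW_mul : ∀ (l : List (Fin 4)) (u v : G), S.cjW l (u * v) = S.cjW l u * S.cjW l v
  | [], _, _ => rfl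
  | k :: l, u, v => by
    show S.Wg k * S.cjW l (u * v) * S.Wg k = S.Wg k * S.cjW l u * S.Wg k * (S.Wg k * S.cjW l v * S.Wg k)
    rw [cjW_mul l, show S.Wg k * S.cjW l u * S.Wg k * (S.Wg k * S.cjW l v * S.Wg k) =
      S.Wg k * S.cjW l u * (S.Wg k * S.Wg k) * S.cjW l v * S.Wg k by group, S.wg_sq]
    group

theorem cjW_one : ∀ l : List (Fin 4), S.cjW l 1 = 1
  | [] => rfl
  | k :: l => by
    show S.Wg k * S.cjW l 1 * S.Wg k = 1
    rw [cjW_one l, mul_one, S.wg_sq]

theorem cjW_inj : ∀ (l : List (Fin 4)) {u v : G}, S.cjW l u = S.cjW l v → u = v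
  | [], _, _, h => h
  | _ :: l, _, _, h => cjW_inj l (mul_left_cancel (mul_right_cancel h))

theorem root_sq (r : Fin 24) : S.root r * S.root r = 1 := by
  rw [root, ← S.cjW_mul]
  have h12 : ∀ r, 12 ≤ (nbase r).val := by decide
  obtain ⟨p, hp⟩ := ridx_surj _ (h12 r)
  rw [← hp, S.posR_ridx, S.pval_sq, S.cjW_one]

/-- **The relations.** -/
theorem rel : D4Rel S.root := by
  refine ⟨S.root_sq, fun r s hrs hop => ?_⟩
  obtain ⟨l, -, hl⟩ := List.any_eq_true.mp (cover_check r s hrs hop)
  obtain ⟨h1, h2, h3, h4⟩ := decide_eq_true_eq.mp hl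
  refine S.cjW_inj l ?_
  rw [S.cjW_mul, S.cjW_mul, S.cjW_mul, S.cjW_root, S.cjW_root, S.posR_rel h1 h2 h3, h4]
  cases sumI r s with
  | none => exact (S.cjW_one l).symm
  | some k => exact (S.cjW_root l k).symm

end Swap8

end CfsgLib.O8C
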