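import Cfsg.Agent.Lib.OEightCent.Weyl

/-!
The table of root elements.
-/

set_option autoImplicit false
set_option maxRecDepth 8000

namespace CfsgLib.O8C

open Subgroup CfsgLargeExtra

universe u

variable {G : Type u} [Group G] [Finite G] {t : G} {E : Subgroup G} {π : G → Q3} {g : G} {x a : Fin 3 → G} {n : G}

namespace Swap8

variable (S : Swap8 t E π g x a n)
include S

theorem step_all : ∀ (k : Fin 4) (r : Fin 24), Edge S k r (sref k r) := by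
  have h0_12 : Edge S 0 12 12 := (S.nk_fix_a (show (0 : Fin 3) ≠ 2 by decide))
  have h0_13 : Edge S 0 13 13 := (S.nk_fix_a (show (0 : Fin 3) ≠ 1 by decide))
  have h0_14 : Edge S 0 14 19 := (S.nk_flip 0 (1, 1, 1))
  have h0_15 : Edge S 0 15 20 := (S.nk_flip 0 (1, 1, 0))
  have h0_16 : Edge S 0 16 21 := (S.nk_flip 0 (1, 0, 1))
  have h0_17 : Edge S 0 17 22 := (S.nk_flip 0 (1, 0, 0))
  have h0_23 : Edge S 0 23 23 := (S.nk_fix_t 0)
  have h1_12 : Edge S 1 12 15 := (S.nan 2)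
  have h1_13 : Edge S 1 13 16 := (S.nan 1)
  have h1_17 : Edge S 1 17 17 := (S.n_fix 0)
  have h1_18 : Edge S 1 18 19 := (S.nan 0)
  have h1_20 : Edge S 1 20 20 := (S.n_fix 1)
  have h1_21 : Edge S 1 21 21 := (S.n_fix 2)
  have h1_22 : Edge S 1 22 23 := S.ns_eq
  have h2_12 : Edge S 2 12 12 := (S.nk_fix_a (show (1 : Fin 3) ≠ 2 by decide))
  have h2_14 : Edge S 2 14 16 := (S.nk_flip 1 (1, 1, 1))
  have h2_15 : Edge S 2 15 17 := (S.nk_flip 1 (1, 1, 0))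
  have h2_18 : Edge S 2 18 18 := (S.nk_fix_a (show (1 : Fin 3) ≠ 0 by decide))
  have h2_19 : Edge S 2 19 21 := (S.nk_flip 1 (0, 1, 1))
  have h2_20 : Edge S 2 20 22 := (S.nk_flip 1 (0, 1, 0))
  have h2_23 : Edge S 2 23 23 := (S.nk_fix_t 1)
  have h3_13 : Edge S 3 13 13 := (S.nk_fix_a (show (2 : Fin 3) ≠ 1 by decide))
  have h3_14 : Edge S 3 14 15 := (S.nk_flip 2 (1, 1, 1))
  have h3_16 : Edge S 3 16 17 := (S.nk_flip 2 (1, 0, 1))
  have h3_18 : Edge S 3 18 18 := (S.nk_fix_a (show (2 : Fin 3) ≠ 0 by decide))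
  have h3_19 : Edge S 3 19 20 := (S.nk_flip 2 (0, 1, 1))
  have h3_21 : Edge S 3 21 22 := (S.nk_flip 2 (0, 0, 1))
  have h3_23 : Edge S 3 23 23 := (S.nk_fix_t 2)
  have h0_18 : Edge S 0 18 5 := rfl
  have h1_14 : Edge S 1 14 9 := rfl
  have h2_13 : Edge S 2 13 10 := rfl
  have h3_12 : Edge S 3 12 11 := rfl
  have h0_10 : Edge S 0 10 10 := S.nk_fix_conj (k := 0) (j := 1) (by decide)
  have h0_11 : Edge S 0 11 11 := S.nk_fix_conj (k := 0) (j := 2) (by decide)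
  have h2_5 : Edge S 2 5 5 := S.nk_fix_conj (k := 1) (j := 0) (by decide)
  have h2_11 : Edge S 2 11 11 := S.nk_fix_conj (k := 1) (j := 2) (by decide)
  have h3_5 : Edge S 3 5 5 := S.nk_fix_conj (k := 2) (j := 0) (by decide)
  have h3_10 : Edge S 3 10 10 := S.nk_fix_conj (k := 2) (j := 1) (by decide)
  have h0_9 : Edge S 0 9 4 := rfl
  have h1_4 : Edge S 1 4 5 := step_hex (wg_sq S 1) (wg_sq S 0) (wg_hex S 1 0 (by decide)) (step_symm (wg_sq S 0) h0_18) h1_18 (step_symm (wg_sq S 0) h0_14) h1_14 h0_9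
  have h1_10 : Edge S 1 10 7 := rfl
  have h1_11 : Edge S 1 11 8 := rfl
  have h2_4 : Edge S 2 4 2 := rfl
  have h2_7 : Edge S 2 7 9 := step_hex (wg_sq S 2) (wg_sq S 1) (wg_hex S 2 1 (by decide)) (step_symm (wg_sq S 1) h1_14) h2_14 (step_symm (wg_sq S 1) h1_13) h2_13 h1_10
  have h2_8 : Edge S 2 8 6 := rfl
  have h3_2 : Edge S 3 2 1 := rfl
  have h3_4 : Edge S 3 4 3 := rfl
  have h3_8 : Edge S 3 8 9 := step_hex (wg_sq S 3) (wg_sq S 1) (wg_hex S 3 1 (by decide)) (step_symm (wg_sq S 1) h1_14) h3_14 (step_symm (wg_sq S 1) h1_12) h3_12 h1_11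
  have h0_2 : Edge S 0 2 7 := step_sq (wg_sq S 0) (wg_sq S 2) (wg_square S 0 2 (by decide)) h2_7 h0_9 h2_4
  have h0_3 : Edge S 0 3 8 := step_sq (wg_sq S 0) (wg_sq S 3) (wg_square S 0 3 (by decide)) h3_8 h0_9 h3_4
  have h1_1 : Edge S 1 1 0 := rfl
  have h1_2 : Edge S 1 2 2 := step_hex (wg_sq S 1) (wg_sq S 0) (wg_hex S 1 0 (by decide)) h0_2 (step_symm (wg_sq S 1) h1_10) h0_10 h1_10 (step_symm (wg_sq S 0) h0_2)
  have h1_3 : Edge S 1 3 3 := step_hex (wg_sq S 1) (wg_sq S 0) (wg_hex S 1 0 (by decide)) h0_3 (step_symm (wg_sq S 1) h1_11) h0_11 h1_11 (step_symm (wg_sq S 0) h0_3)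
  have h1_6 : Edge S 1 6 6 := step_hex (wg_sq S 1) (wg_sq S 2) (wg_hex S 1 2 (by decide)) (step_symm (wg_sq S 2) h2_8) (step_symm (wg_sq S 1) h1_11) h2_11 h1_11 h2_8
  have h2_1 : Edge S 2 1 3 := step_sq (wg_sq S 2) (wg_sq S 3) (wg_square S 2 3 (by decide)) (step_symm (wg_sq S 3) h3_4) h2_4 h3_2
  have h3_0 : Edge S 3 0 0 := step_hex (wg_sq S 3) (wg_sq S 1) (wg_hex S 3 1 (by decide)) (step_symm (wg_sq S 1) h1_1) (step_symm (wg_sq S 3) h3_2) h1_2 h3_2 h1_1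
  have h3_6 : Edge S 3 6 7 := step_sq (wg_sq S 3) (wg_sq S 2) (wg_square S 3 2 (by decide)) h2_7 (step_symm (wg_sq S 3) h3_8) h2_8
  have h0_1 : Edge S 0 1 6 := step_sq (wg_sq S 0) (wg_sq S 2) (wg_square S 0 2 (by decide)) (step_symm (wg_sq S 2) h2_8) (step_symm (wg_sq S 0) h0_3) (step_symm (wg_sq S 2) h2_1)
  have h2_0 : Edge S 2 0 0 := step_hex (wg_sq S 2) (wg_sq S 1) (wg_hex S 2 1 (by decide)) (step_symm (wg_sq S 1) h1_1) h2_1 h1_3 (step_symm (wg_sq S 2) h2_1) h1_1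
  have h0_0 : Edge S 0 0 0 := step_hex (wg_sq S 0) (wg_sq S 1) (wg_hex S 0 1 (by decide)) (step_symm (wg_sq S 1) h1_1) h0_1 h1_6 (step_symm (wg_sq S 0) h0_1) h1_1
  intro k r
  fin_cases k <;> fin_cases r
  exacts [h0_0,
    h0_1,
    h0_2,
    h0_3,
    (step_symm (wg_sq S 0) h0_9),
    (step_symm (wg_sq S 0) h0_18),
    (step_symm (wg_sq S 0) h0_1),
    (step_symm (wg_sq S 0) h0_2),
    (step_symm (wg_sq S 0) h0_3),
    h0_9,
    h0_10,
    h0_11,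
    h0_12,
    h0_13,
    h0_14,
    h0_15,
    h0_16,
    h0_17,
    h0_18,
    (step_symm (wg_sq S 0) h0_14),
    (step_symm (wg_sq S 0) h0_15),
    (step_symm (wg_sq S 0) h0_16),
    (step_symm (wg_sq S 0) h0_17),
    h0_23,
    (step_symm (wg_sq S 1) h1_1),
    h1_1,
    h1_2,
    h1_3,
    h1_4,
    (step_symm (wg_sq S 1) h1_4),
    h1_6,
    (step_symm (wg_sq S 1) h1_10),
    (step_symm (wg_sq S 1) h1_11),
    (step_symm (wg_sq S 1) h1_14),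
    h1_10,
    h1_11,
    h1_12,
    h1_13,
    h1_14,
    (step_symm (wg_sq S 1) h1_12),
    (step_symm (wg_sq S 1) h1_13),
    h1_17,
    h1_18,
    (step_symm (wg_sq S 1) h1_18),
    h1_20,
    h1_21,
    h1_22,
    (step_symm (wg_sq S 1) h1_22),
    h2_0,
    h2_1,
    (step_symm (wg_sq S 2) h2_4),
    (step_symm (wg_sq S 2) h2_1),
    h2_4,
    h2_5,
    (step_symm (wg_sq S 2) h2_8),
    h2_7,
    h2_8,
    (step_symm (wg_sq S 2) h2_7),
    (step_symm (wg_sq S 2) h2_13),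
    h2_11,
    h2_12,
    h2_13,
    h2_14,
    h2_15,
    (step_symm (wg_sq S 2) h2_14),
    (step_symm (wg_sq S 2) h2_15),
    h2_18,
    h2_19,
    h2_20,
    (step_symm (wg_sq S 2) h2_19),
    (step_symm (wg_sq S 2) h2_20),
    h2_23,
    h3_0,
    (step_symm (wg_sq S 3) h3_2),
    h3_2,
    (step_symm (wg_sq S 3) h3_4),
    h3_4,
    h3_5,
    h3_6,
    (step_symm (wg_sq S 3) h3_6),
    h3_8,
    (step_symm (wg_sq S 3) h3_8),
    h3_10,
    (step_symm (wg_sq S 3) h3_12),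
    h3_12,
    h3_13,
    h3_14,
    (step_symm (wg_sq S 3) h3_14),
    h3_16,
    (step_symm (wg_sq S 3) h3_16),
    h3_18,
    h3_19,
    (step_symm (wg_sq S 3) h3_19),
    h3_21,
    (step_symm (wg_sq S 3) h3_21),
    h3_23]

end Swap8

end CfsgLib.O8C
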