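import Cfsg.Agent.Lib.LargeExtra.XR
import Mathlib.GroupTheory.Sylow
import Mathlib.GroupTheory.Perm.Fin

/-!
An involution with centralizer `2^{1+8}.(S₃ × S₃ × S₃)`: Sylow subgroup, and a second conjugate in the core.
-/

set_option autoImplicit false
set_option maxRecDepth 8000

namespace CfsgLib.O8C

open Subgroup CfsgLargeExtra

universe u

/-- The quotient of the centralizer by its core. -/
abbrev Q3 : Type := Equiv.Perm (Fin 3) × Equiv.Perm (Fin 3) × Equiv.Perm (Fin 3)

/-- The three standard transpositions. -/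
def τg : Fin 3 → Q3 := ![(Equiv.swap 0 1, 1, 1), (1, Equiv.swap 0 1, 1), (1, 1, Equiv.swap 0 1)]

/-- The three standard elements of order three. -/
def σg : Fin 3 → Q3 :=
  ![(Equiv.swap 0 1 * Equiv.swap 1 2, 1, 1), (1, Equiv.swap 0 1 * Equiv.swap 1 2, 1),
    (1, 1, Equiv.swap 0 1 * Equiv.swap 1 2)]

/-- The standard Sylow subgroup of the quotient. -/
def A0 : Subgroup Q3 :=
  Subgroup.centralizer ({(Equiv.swap 0 1, Equiv.swap 0 1, Equiv.swap 0 1)} : Set Q3)

theorem mem_A0 (q : Q3) : q ∈ A0 ↔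
    (q.1 = 1 ∨ q.1 = Equiv.swap 0 1) ∧ (q.2.1 = 1 ∨ q.2.1 = Equiv.swap 0 1) ∧ (q.2.2 = 1 ∨ q.2.2 = Equiv.swap 0 1) := by
  rw [A0, Subgroup.mem_centralizer_singleton_iff]
  have h : ∀ p : Equiv.Perm (Fin 3), p * Equiv.swap 0 1 = Equiv.swap 0 1 * p ↔ p = 1 ∨ p = Equiv.swap 0 1 := by
    decide
  rw [Prod.ext_iff, Prod.ext_iff]
  simp only [Prod.fst_mul, Prod.snd_mul, h]

theorem card_A0 : Nat.card A0 = 8 := by
  have e : ∀ q : Q3, q ∈ A0 ↔ q ∈ (({1, Equiv.swap 0 1} : Finset (Equiv.Perm (Fin 3))) ×ˢ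
      (({1, Equiv.swap 0 1} : Finset (Equiv.Perm (Fin 3))) ×ˢ
        ({1, Equiv.swap 0 1} : Finset (Equiv.Perm (Fin 3))))) := fun q => by
    simp [mem_A0]
  rw [Nat.card_congr (Equiv.subtypeEquivRight e), Nat.card_eq_fintype_card, Fintype.card_coe]
  decide

theorem τg_mem (i : Fin 3) : τg i ∈ A0 := by fin_cases i <;> simp [mem_A0, τg]

theorem card_Q3 : Nat.card Q3 = 216 := by
  rw [Nat.card_prod, Nat.card_prod, Nat.card_perm, Nat.card_fin]; rfl

theorem conj_A0 : ∀ q : Q3, (∀ i, q * τg i * q⁻¹ * (Equiv.swap 0 1, Equiv.swap 0 1, Equiv.swap 0 1) =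
    (Equiv.swap 0 1, Equiv.swap 0 1, Equiv.swap 0 1) * (q * τg i * q⁻¹)) → q ∈ A0 := by
  have h : ∀ p : Equiv.Perm (Fin 3), p * Equiv.swap 0 1 * p⁻¹ * Equiv.swap 0 1 =
      Equiv.swap 0 1 * (p * Equiv.swap 0 1 * p⁻¹) → p = 1 ∨ p = Equiv.swap 0 1 := by decide
  intro q hq
  have h0 := congrArg Prod.fst (hq 0)
  have h1 := congrArg (fun r : Q3 => r.2.1) (hq 1)
  have h2 := congrArg (fun r : Q3 => r.2.2) (hq 2)
  exact (mem_A0 q).mpr ⟨h _ (by simpa [τg] using h0), h _ (by simpa [τg] using h1), h _ (by simpa [τg] using h2)⟩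

variable {G : Type u} [Group G]

/-- An involution centralizer of shape `2^{1+8}.(S₃ × S₃ × S₃)`. -/
structure Cent8 (t : G) (E : Subgroup G) (π : G → Q3) : Prop where
  /-- the core -/
  es : ES E t
  /-- its order -/
  card : Nat.card E = 512
  /-- homomorphism -/
  π_mul : ∀ a b : G, a * t = t * a → b * t = t * b → π (a * b) = π a * π b
  /-- kernel -/
  π_ker : ∀ c : G, c * t = t * c → (π c = 1 ↔ c ∈ E)
  /-- surjective -/
  π_surj : ∀ q, ∃ c : G, c * t = t * c ∧ π c = q

namespace Cent8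

variable {t : G} {E : Subgroup G} {π : G → Q3} (h : Cent8 t E π)
include h

theorem π_one : π 1 = 1 := (h.π_ker 1 (by simp)).mpr (one_mem _)

theorem π_inv {c : G} (hc : c * t = t * c) : π c⁻¹ = (π c)⁻¹ := by
  refine eq_inv_of_mul_eq_one_left ?_
  rw [← h.π_mul _ _ (Commute.inv_left hc) hc, inv_mul_cancel, h.π_one]

theorem π_E {e : G} (he : e ∈ E) : π e = 1 := (h.π_ker e (h.es.comm e he)).mpr he

theorem π_conj {c d : G} (hc : c * t = t * c) (hd : d * t = t * d) : π (c * d * c⁻¹) = π c * π d * (π c)⁻¹ := by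
  rw [h.π_mul _ _ (Commute.mul_left hc hd).eq (Commute.inv_left hc), h.π_mul _ _ hc hd, h.π_inv hc]

/-- The homomorphism on the centralizer. -/
def πhom : ↥(Subgroup.centralizer ({t} : Set G)) →* Q3 :=
  MonoidHom.mk' (fun c => π c) fun a b =>
    h.π_mul a b (Subgroup.mem_centralizer_singleton_iff.mp a.2) (Subgroup.mem_centralizer_singleton_iff.mp b.2)

theorem E_le : E ≤ Subgroup.centralizer ({t} : Set G) := fun e he =>
  Subgroup.mem_centralizer_singleton_iff.mpr (h.es.comm e he)

theorem πhom_ker : h.πhom.ker = E.subgroupOf (Subgroup.centralizer ({t} : Set G)) := by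
  ext c
  exact h.π_ker c (Subgroup.mem_centralizer_singleton_iff.mp c.2)

theorem πhom_surj : Function.Surjective h.πhom := fun q => by
  obtain ⟨c, hc, e⟩ := h.π_surj q
  exact ⟨⟨c, Subgroup.mem_centralizer_singleton_iff.mpr hc⟩, e⟩

variable [Finite G]

theorem card_C : Nat.card ↥(Subgroup.centralizer ({t} : Set G)) = 110592 := by
  rw [Subgroup.card_eq_card_quotient_mul_card_subgroup h.πhom.ker,
    Nat.card_congr (QuotientGroup.quotientKerEquivOfSurjective h.πhom h.πhom_surj).toEquiv, card_Q3, h.πhom_ker,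
    Nat.card_congr (Subgroup.subgroupOfEquivOfLe h.E_le).toEquiv, h.card]

theorem two_card_le {P : Subgroup G} (hP : IsPGroup 2 P) (hPC : P ≤ Subgroup.centralizer ({t} : Set G)) :
    Nat.card P ≤ 4096 := by
  have := Fact.mk Nat.prime_two
  obtain ⟨n, hn⟩ := IsPGroup.iff_card.mp hP
  have hd : 2 ^ n ∣ 110592 := hn ▸ h.card_C ▸ Subgroup.card_dvd_of_le hPC
  rw [hn]
  by_contra hlt
  have : 2 ^ 13 ∣ 110592 := dvd_trans (pow_dvd_pow 2 (by
    by_contra hn'
    exact hlt (le_trans (Nat.pow_le_pow_right (by omega) (by omega : n ≤ 12)) (by norm_num)))) hd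
  norm_num at this

variable {S : Subgroup G}

theorem E_le_sylow (hS : IsPGroup 2 S) (hSC : S ≤ Subgroup.centralizer ({t} : Set G)) (hcard : Nat.card S = 4096) :
    E ≤ S := by
  have hnor : S ≤ Subgroup.normalizer (E : Set G) := fun c hc => mem_normalizer_of_le fun v hv =>
    h.es.nor c (Subgroup.mem_centralizer_singleton_iff.mp (hSC hc)) v hv
  have h2 : IsPGroup 2 (S ⊔ E : Subgroup G) := hS.to_sup_of_normal_right' h.es.toExt.isPGroup hnor
  have he : S = S ⊔ E := Subgroup.eq_of_le_of_card_ge le_sup_left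
    (le_trans (h.two_card_le h2 (sup_le hSC h.E_le)) (le_of_eq hcard.symm))
  exact he ▸ le_sup_right

theorem sylow_nor (hS : IsPGroup 2 S) (hSC : S ≤ Subgroup.centralizer ({t} : Set G)) (hcard : Nat.card S = 4096)
    {n : G} (hn : n ∈ Subgroup.normalizer (S : Set G)) : n * t = t * n := by
  have hES := h.E_le_sylow hS hSC hcard
  have key : ∀ q ∈ E, n * t * n⁻¹ * q = q * (n * t * n⁻¹) := fun q hq => by
    have h1 : n⁻¹ * q * n ∈ S := by
      have := (Subgroup.mem_normalizer_iff.mp (inv_mem hn) q).mp (hES hq)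
      simpa using this
    have h2 := Subgroup.mem_centralizer_singleton_iff.mp (hSC h1)
    calc n * t * n⁻¹ * q = n * (t * (n⁻¹ * q * n)) * n⁻¹ := by group
      _ = n * ((n⁻¹ * q * n) * t) * n⁻¹ := by rw [h2]
      _ = q * (n * t * n⁻¹) := by group
  rcases h.es.cen _ key with e | e
  · exact absurd (conj_eq_one_iff.mp e) h.es.ne
  · exact mul_inv_eq_iff_eq_mul.mp e

theorem sylow_max (hS : IsPGroup 2 S) (hSC : S ≤ Subgroup.centralizer ({t} : Set G)) (hcard : Nat.card S = 4096)
    (P : Subgroup G) (hP : IsPGroup 2 P) (hSP : S ≤ P) : P = S := by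
  have := Fact.mk Nat.prime_two
  by_contra hne
  haveI := hP.isNilpotent
  have hlt : S.subgroupOf P < ⊤ := lt_top_iff_ne_top.mpr fun e =>
    hne (le_antisymm (Subgroup.subgroupOf_eq_top.mp e) hSP)
  obtain ⟨n, hn, hn'⟩ := SetLike.exists_of_lt (Group.normalizerCondition_of_isNilpotent _ hlt)
  have hnS : (n : G) ∈ Subgroup.normalizer (S : Set G) := mem_normalizer_of_le fun v hv =>
    (Subgroup.mem_normalizer_iff.mp hn ⟨v, hSP hv⟩).mp (show (⟨v, hSP hv⟩ : ↥P) ∈ S.subgroupOf P from hv)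
  have hnC := h.sylow_nor hS hSC hcard hnS
  have h2 : IsPGroup 2 (S ⊔ Subgroup.zpowers (n : G) : Subgroup G) :=
    hP.to_le (sup_le hSP ((Subgroup.zpowers_le).mpr n.2))
  have he : S = S ⊔ Subgroup.zpowers (n : G) := Subgroup.eq_of_le_of_card_ge le_sup_left
    (le_trans (h.two_card_le h2 (sup_le hSC ((Subgroup.zpowers_le).mpr
      (Subgroup.mem_centralizer_singleton_iff.mpr hnC)))) (le_of_eq hcard.symm))
  exact hn' (show (n : G) ∈ S from he ▸ Subgroup.mem_sup_right (Subgroup.mem_zpowers _))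

end Cent8

section extra

variable [Finite G] {Q : Subgroup G} {z : G}

/-- An abelian subgroup of an extraspecial group of order `2^9` containing the centre has order at most `32`. -/
theorem abelian_le (h : ES Q z) (hcard : Nat.card Q = 512) {A : Subgroup G} (hA : A ≤ Q) (hz : z ∈ A)
    (hc : ∀ a ∈ A, ∀ b ∈ A, a * b = b * a) : Nat.card A ≤ 32 := by
  have h1 := h.toExt.card_mul_card_centralizer (A := A.subgroupOf Q) (show (⟨z, h.mem⟩ : Q) ∈ A.subgroupOf Q from hz)
  rw [hcard, Nat.card_congr (Subgroup.subgroupOfEquivOfLe hA).toEquiv] at h1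
  have hle : A.subgroupOf Q ≤ Subgroup.centralizer (A.subgroupOf Q : Set Q) := fun a ha =>
    Subgroup.mem_centralizer_iff.mpr fun b hb => Subtype.ext (hc _ hb _ ha)
  have h2 := Subgroup.card_le_of_le hle
  rw [Nat.card_congr (Subgroup.subgroupOfEquivOfLe hA).toEquiv] at h2
  exact Nat.mul_self_le_mul_self_iff.mp (le_trans (Nat.mul_le_mul_left _ h2) (le_of_eq h1))

/-- The centralizer in the core of a non-central involution of it. -/
theorem cent_card (h : ES Q z) (hcard : Nat.card Q = 512) {x : G} (hx : x ∈ Q) (hxx : x * x = 1) (hx1 : x ≠ 1)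
    (hxz : x ≠ z) : Nat.card ↥(Q ⊓ Subgroup.centralizer ({x} : Set G)) = 256 := by
  have hzx : z * x = x * z := (h.comm x hx).symm
  let A := fourGroup z x h.zz hxx hzx
  have hAQ : A ≤ Q := by
    rintro y (rfl | rfl | rfl | rfl)
    exacts [one_mem _, h.mem, hx, mul_mem h.mem hx]
  have h1 := h.toExt.card_mul_card_centralizer (A := A.subgroupOf Q)
    (show (⟨z, h.mem⟩ : Q) ∈ A.subgroupOf Q from Or.inr (Or.inl rfl))
  have hA4 : Nat.card A = 4 := by
    have hzx1 : z * x ≠ 1 := fun e => hxz (by rw [← inv_eq_of_mul_eq_one_right e, inv_eq_of_mul_eq_one_right h.zz])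
    refine (Nat.card_congr (Equiv.setCongr (show (A : Set G) = {1, z, x, z * x} from ?_))).trans ?_
    · ext y
      simp [A, fourGroup]
    · rw [Nat.card_coe_set_eq, Set.ncard_insert_of_notMem, Set.ncard_insert_of_notMem, Set.ncard_pair]
      · exact fun e => h.ne (mul_eq_right.mp e.symm)
      · simp only [Set.mem_insert_iff, Set.mem_singleton_iff, not_or]
        exact ⟨hxz.symm, fun e => hx1 (mul_eq_left.mp e.symm)⟩
      · simp only [Set.mem_insert_iff, Set.mem_singleton_iff, not_or]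
        exact ⟨h.ne.symm, hx1.symm, hzx1.symm⟩
  rw [hcard, Nat.card_congr (Subgroup.subgroupOfEquivOfLe hAQ).toEquiv, hA4] at h1
  have e : (Q ⊓ Subgroup.centralizer ({x} : Set G)).subgroupOf Q = Subgroup.centralizer (A.subgroupOf Q : Set Q) := by
    ext c
    constructor
    · intro hc
      have hcx := Subgroup.mem_centralizer_singleton_iff.mp hc.2
      have hcz : (c : G) * z = z * c := h.comm c c.2
      refine Subgroup.mem_centralizer_iff.mpr fun a ha => Subtype.ext ?_
      show (a : G) * c = c * a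
      rcases (ha : (a : G) = 1 ∨ (a : G) = z ∨ (a : G) = x ∨ (a : G) = z * x) with e | e | e | e <;>
        simp only [Subgroup.coe_subtype] at e <;> rw [e]
      exacts [by simp, hcz.symm, hcx.symm, ((Commute.mul_right hcz hcx : Commute (c : G) (z * x))).eq.symm]
    · intro hc
      refine ⟨c.2, Subgroup.mem_centralizer_singleton_iff.mpr ?_⟩
      exact (congrArg Subtype.val (Subgroup.mem_centralizer_iff.mp hc ⟨x, hx⟩
        (show x ∈ A from Or.inr (Or.inr (Or.inl rfl))))).symm
  rw [← Nat.card_congr (Subgroup.subgroupOfEquivOfLe (inf_le_left (b := Subgroup.centralizer ({x} : Set G)))).toEquiv, e]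
  omega

end extra

/-- A second conjugate of the central involution in the core. -/
structure Pair8 (t : G) (E : Subgroup G) (π : G → Q3) (g : G) : Prop extends Cent8 t E π where
  /-- in the core -/
  hs : g * t * g⁻¹ ∈ E
  /-- different -/
  hne : g * t * g⁻¹ ≠ t

namespace Pair8

variable {t : G} {E : Subgroup G} {π : G → Q3} {g : G} (P : Pair8 t E π g)
include P

theorem es' : ES (cj g E) (g * t * g⁻¹) := P.es.cj g

theorem card' : Nat.card (cj g E) = 512 := by
  show Nat.card ↥(E.map (MulAut.conj g).toMonoidHom) = 512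
  rw [Subgroup.card_map_of_injective (f := (MulAut.conj g).toMonoidHom) (MulAut.conj g).injective, P.card]

theorem st_comm : g * t * g⁻¹ * t = t * (g * t * g⁻¹) := P.es.comm _ P.hs

variable [Finite G]

theorem t_mem : t ∈ cj g E := by
  refine P.es.symm_mem P.hs fun _ => ?_
  by_contra hn
  push Not at hn
  have hc := cent_card P.es P.card P.hs P.es'.zz P.es'.ne P.hne
  have := abelian_le P.es P.card (A := E ⊓ Subgroup.centralizer ({g * t * g⁻¹} : Set G)) inf_le_left
    ⟨P.es.mem, Subgroup.mem_centralizer_singleton_iff.mpr P.st_comm.symm⟩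
    fun a ha b hb => hn a ha.1 b hb.1 (Subgroup.mem_centralizer_singleton_iff.mp ha.2)
      (Subgroup.mem_centralizer_singleton_iff.mp hb.2)
  omega

/-- The intersection of the two cores. -/
abbrev X0 (_P : Pair8 t E π g) : Subgroup G := E ⊓ cj g E

/-- The part of the second core in the centralizer. -/
abbrev B (_P : Pair8 t E π g) : Subgroup G := cj g E ⊓ Subgroup.centralizer ({t} : Set G)

theorem B_comm {b : G} (hb : b ∈ P.B) : b * t = t * b := Subgroup.mem_centralizer_singleton_iff.mp hb.2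

theorem X0_comm {a b : G} (ha : a ∈ P.X0) (hb : b ∈ P.X0) : a * b = b * a := by
  refine commutatorElement_eq_one_iff_mul_comm.mp ?_
  rcases P.es.commutator_cases ha.1 hb.1 with e | e
  · exact e
  · rcases P.es'.commutator_cases ha.2 hb.2 with e' | e'
    · exact e'
    · exact absurd (e'.symm.trans e) P.hne

theorem X0_sq {a : G} (ha : a ∈ P.X0) : a * a = 1 := by
  rcases P.es.sq a ha.1 with e | e
  · exact e
  · rcases P.es'.sq a ha.2 with e' | e'
    · exact e'
    · exact absurd (e'.symm.trans e) P.hne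

theorem t_X0 : t ∈ P.X0 := ⟨P.es.mem, P.t_mem⟩

theorem s_X0 : g * t * g⁻¹ ∈ P.X0 := ⟨P.hs, P.es'.mem⟩

theorem X0_le_B : P.X0 ≤ P.B := fun _ ha => ⟨ha.2, P.E_le ha.1⟩

theorem card_B : Nat.card P.B = 256 := cent_card P.es' P.card' P.t_mem P.es.zz P.es.ne P.hne.symm

/-- The map to the quotient on `B`. -/
def πB : ↥P.B →* Q3 := MonoidHom.mk' (fun c => π c) fun a b => P.π_mul a b (P.B_comm a.2) (P.B_comm b.2)

theorem πB_ker : P.πB.ker = P.X0.subgroupOf P.B := by
  ext c
  exact (P.π_ker c (P.B_comm c.2)).trans ⟨fun h => ⟨h, c.2.1⟩, fun h => h.1⟩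

theorem card_X0_range : Nat.card P.X0 = 32 ∧ Nat.card P.πB.range = 8 := by
  have := Fact.mk Nat.prime_two
  have h1 := Subgroup.card_eq_card_quotient_mul_card_subgroup P.πB.ker
  rw [Nat.card_congr (QuotientGroup.quotientKerEquivRange P.πB).toEquiv, P.πB_ker,
    Nat.card_congr (Subgroup.subgroupOfEquivOfLe P.X0_le_B).toEquiv, P.card_B] at h1
  have h2 : Nat.card P.X0 ≤ 32 := abelian_le P.es P.card inf_le_left P.t_X0 fun a ha b hb => P.X0_comm ha hb
  have h3 : IsPGroup 2 P.πB.range :=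
    IsPGroup.of_surjective (IsPGroup.of_card (n := 8) P.card_B) P.πB.rangeRestrict P.πB.rangeRestrict_surjective
  obtain ⟨n, hn⟩ := IsPGroup.iff_card.mp h3
  have hd : 2 ^ n ∣ 216 := hn ▸ card_Q3 ▸ Subgroup.card_subgroup_dvd_card _
  have hn3 : n ≤ 3 := by
    by_contra h4
    have : 2 ^ 4 ∣ 216 := dvd_trans (pow_dvd_pow 2 (by omega)) hd
    norm_num at this
  rw [hn] at h1 ⊢
  interval_cases n <;> simp only [pow_zero, pow_one, Nat.reducePow] at h1 ⊢ <;>
    first | omega | exact ⟨by omega, trivial⟩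

theorem card_X0 : Nat.card P.X0 = 32 := P.card_X0_range.1

end Pair8

/-- The second conjugate, with the image of the second core standard. -/
structure Std8 (t : G) (E : Subgroup G) (π : G → Q3) (g : G) : Prop extends Pair8 t E π g where
  /-- the image -/
  img : ∀ b ∈ cj g E, b * t = t * b → π b ∈ A0
  /-- onto -/
  onto : ∀ q ∈ A0, ∃ b ∈ cj g E, b * t = t * b ∧ π b = q

/-- After an inner automorphism of the quotient the image is standard. -/
theorem exists_std [Finite G] {t : G} {E : Subgroup G} {π : G → Q3} {g : G} (P : Pair8 t E π g) :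
    ∃ π' : G → Q3, Std8 t E π' g := by
  have := Fact.mk Nat.prime_two
  have hf : 2 ^ (Nat.card Q3).factorization 2 = 8 := by
    rw [card_Q3, show (216 : ℕ) = 2 ^ 3 * 27 from rfl, Nat.factorization_mul (by norm_num) (by norm_num),
      Nat.Prime.factorization_pow Nat.prime_two, Finsupp.add_apply, Finsupp.single_eq_same,
      Nat.factorization_eq_zero_of_not_dvd (by norm_num : ¬ 2 ∣ 27)]
    rfl
  let S1 : Sylow 2 Q3 := Sylow.ofCard P.πB.range (P.card_X0_range.2.trans hf.symm)
  let S2 : Sylow 2 Q3 := Sylow.ofCard A0 (card_A0.trans hf.symm)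
  obtain ⟨k, hk⟩ := MulAction.exists_smul_eq Q3 S1 S2
  have hk' : ∀ q : Q3, q ∈ A0 ↔ k⁻¹ * q * k ∈ P.πB.range := by
    intro q
    rw [show q ∈ A0 ↔ q ∈ (S2 : Subgroup Q3) from Iff.rfl, ← hk, Sylow.coe_subgroup_smul,
      Subgroup.mem_pointwise_smul_iff_inv_smul_mem]
    simp [MulAut.smul_def, S1]
  refine ⟨fun c => k * π c * k⁻¹,
    { es := P.es
      card := P.card
      π_mul := fun a b ha hb => ?_
      π_ker := fun c hc => ?_
      π_surj := fun q => ?_
      hs := P.hs
      hne := P.hne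
      img := fun b hb hbt => ?_
      onto := fun q hq => ?_ }⟩
  · show k * π (a * b) * k⁻¹ = _
    rw [P.π_mul a b ha hb]; group
  · show k * π c * k⁻¹ = 1 ↔ _
    rw [conj_eq_one_iff]; exact P.π_ker c hc
  · obtain ⟨c, hc, e⟩ := P.π_surj (k⁻¹ * q * k)
    exact ⟨c, hc, by rw [e]; group⟩
  · rw [hk']
    exact ⟨⟨b, hb, Subgroup.mem_centralizer_singleton_iff.mpr hbt⟩, by show π b = _; group⟩
  · obtain ⟨⟨b, hb, hbt⟩, e⟩ := (hk' q).mp hq
    refine ⟨b, hb, Subgroup.mem_centralizer_singleton_iff.mp hbt, ?_⟩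
    rw [show π b = k⁻¹ * q * k from e]; group

namespace Std8

variable [Finite G] {t : G} {E : Subgroup G} {π : G → Q3} {g : G} (D : Std8 t E π g)
include D

/-- Conjugating the pair by an element of the core. -/
theorem move {q : G} (hq : q ∈ E) : Std8 t E π (q * g) := by
  have hqt := D.es.comm q hq
  have e : q * g * t * (q * g)⁻¹ = q * (g * t * g⁻¹) * q⁻¹ := by group
  refine
    { es := D.es
      card := D.card
      π_mul := D.π_mul
      π_ker := D.π_ker
      π_surj := D.π_surj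
      hs := e ▸ mul_mem (mul_mem hq D.hs) (inv_mem hq)
      hne := fun h => D.hne ?_
      img := fun b hb hbt => ?_
      onto := fun a ha => ?_ }
  · rw [e, mul_inv_eq_iff_eq_mul, ← hqt] at h
    exact mul_left_cancel h
  · have hb' : q⁻¹ * b * q ∈ cj g E := by
      rw [← cj_cj] at hb
      exact mem_cj.mp hb
    have hbt' : q⁻¹ * b * q * t = t * (q⁻¹ * b * q) :=
      ((Commute.mul_left (Commute.inv_left hqt) hbt).mul_left hqt).eq
    have := D.img _ hb' hbt'
    rwa [D.π_mul _ _ (Commute.mul_left (Commute.inv_left hqt) hbt).eq hqt, D.π_mul _ _ (Commute.inv_left hqt) hbt,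
      D.π_inv hqt, D.π_E hq, inv_one, one_mul, mul_one] at this
  · obtain ⟨b, hb, hbt, e'⟩ := D.onto a ha
    refine ⟨q * b * q⁻¹, ?_, ((Commute.mul_left hqt hbt).mul_left (Commute.inv_left hqt)).eq, ?_⟩
    · rw [← cj_cj]; exact conj_mem_cj hb
    · rw [D.π_conj hqt hbt, D.π_E hq, inv_one, one_mul, mul_one, e']

/-- An element of the centralizer fixing the second involution modulo the first has standard image. -/
theorem stab {c : G} (hc : c * t = t * c)
    (h : c * (g * t * g⁻¹) * c⁻¹ = g * t * g⁻¹ ∨ c * (g * t * g⁻¹) * c⁻¹ = g * t * g⁻¹ * t) : π c ∈ A0 := by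
  set s := g * t * g⁻¹ with hs
  suffices main : ∀ d : G, d * t = t * d → d * s * d⁻¹ = s → π d ∈ A0 by
    rcases h with h | h
    · exact main c hc h
    · obtain ⟨q, hq, -, hqs⟩ := D.es.swap D.hs D.hne D.es'.ne
      have hqt := D.es.comm q hq
      have hm := main (q * c) (Commute.mul_left hqt hc).eq (by
        calc q * c * s * (q * c)⁻¹ = q * (c * s * c⁻¹) * q⁻¹ := by group
          _ = q * (s * t) * q⁻¹ := by rw [h]
          _ = (q * s * q⁻¹) * (q * t * q⁻¹) := by group
          _ = s := by rw [hqs, hqt, mul_inv_cancel_right, mul_assoc, D.es.zz, mul_one])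
      rwa [D.π_mul q c hqt hc, D.π_E hq, one_mul] at hm
  intro d hd hds
  refine conj_A0 _ fun i => ?_
  obtain ⟨b, hb, hbt, e⟩ := D.onto _ (τg_mem i)
  have hdb : d * b * d⁻¹ ∈ cj g E := D.es'.nor d (mul_inv_eq_iff_eq_mul.mp hds) b hb
  have hm := D.img _ hdb ((Commute.mul_left hd hbt).mul_left (Commute.inv_left hd)).eq
  rw [D.π_conj hd hbt, e, A0, Subgroup.mem_centralizer_singleton_iff] at hm
  exact hm

/-- Every involution of the standard image moves some element of the core onto the second involution. -/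
theorem s_commutator {q : Q3} (hq : q ∈ A0) (hq1 : q ≠ 1) :
    ∃ b : G, b * t = t * b ∧ π b = q ∧ ∃ w ∈ E, b * w * b⁻¹ = w * (g * t * g⁻¹) := by
  obtain ⟨b, hb, hbt, e⟩ := D.onto q hq
  refine ⟨b, hbt, e, ?_⟩
  obtain ⟨w, hw, hne⟩ : ∃ w ∈ D.X0, b * w ≠ w * b := by
    by_contra hn
    push Not at hn
    have hbE : b ∉ E := fun hbE => hq1 (e ▸ D.π_E hbE)
    set A := D.X0 ⊔ Subgroup.zpowers b with hA
    have hcomm : ∀ a ∈ A, ∀ c ∈ A, a * c = c * a := by
      have hsub : A ≤ Subgroup.centralizer (A : Set G) := by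
        rw [hA, Subgroup.sup_eq_closure, Subgroup.centralizer_closure, Subgroup.closure_le]
        rintro x (hx | hx) <;> refine Subgroup.mem_centralizer_iff.mpr ?_ <;> rintro y (hy | hy)
        · exact D.X0_comm hy hx
        · obtain ⟨n, rfl⟩ := Subgroup.mem_zpowers_iff.mp hy
          exact ((show Commute b x from hn x hx).zpow_left n).eq
        · obtain ⟨n, rfl⟩ := Subgroup.mem_zpowers_iff.mp hx
          exact ((show Commute b y from hn y hy).zpow_left n).eq.symm
        · obtain ⟨n, rfl⟩ := Subgroup.mem_zpowers_iff.mp hx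
          obtain ⟨m, rfl⟩ := Subgroup.mem_zpowers_iff.mp hy
          exact (Commute.refl b).zpow_zpow m n
      exact fun a ha c hc => Subgroup.mem_centralizer_iff.mp (hsub hc) a ha
    have h32 := abelian_le D.es' D.card' (A := A) (sup_le inf_le_right ((Subgroup.zpowers_le).mpr hb))
      (Subgroup.mem_sup_left D.s_X0) hcomm
    have hlt : D.X0 < A := lt_of_le_of_ne le_sup_left fun he =>
      hbE (he ▸ Subgroup.mem_sup_right (Subgroup.mem_zpowers b) : b ∈ D.X0).1
    refine absurd (Subgroup.eq_of_le_of_card_ge hlt.le ?_) hlt.ne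
    rw [D.card_X0]; exact h32
  refine ⟨w, hw.1, ?_⟩
  exact (D.es'.conj_cases hb hw.2).resolve_left fun h => hne (mul_inv_eq_iff_eq_mul.mp h)

end Std8

end CfsgLib.O8C
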