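import Cfsg.Agent.Lib.OEightCent.Complement

/-!
The involution exchanging the two centres.
-/

set_option autoImplicit false
set_option maxRecDepth 8000

namespace CfsgLib.O8C

open Subgroup CfsgLargeExtra

universe u

/-- The exchanging involution, with normalised transpositions. -/
structure Swap8 {G : Type u} [Group G] (t : G) (E : Subgroup G) (π : G → Q3) (g : G) (x a : Fin 3 → G) (n : G) :
    Prop extends Lift8 t E π g x a where
  /-- involution -/
  n2 : n * n = 1
  /-- exchanges -/
  nt : n * t * n = g * t * g⁻¹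
  /-- fixes the common part -/
  np : ∀ k, Commute n (trS x (g * t * g⁻¹) (dlt k))
  /-- braid -/
  braid : n * trS x (g * t * g⁻¹) (cpl 0) * n =
    trS x (g * t * g⁻¹) (cpl 0) * n * trS x (g * t * g⁻¹) (cpl 0)
  /-- images of the transpositions -/
  nan : ∀ i, n * a i * n = trS x (g * t * g⁻¹) (cpl (dlt i))

variable {G : Type u} [Group G] [Finite G] {t : G} {E : Subgroup G} {π : G → Q3} {g : G} {x a : Fin 3 → G}

namespace Lift8

variable (L : Lift8 t E π g x a)
include L

theorem bv_dlt_a (k : Fin 3) (i : Fin 3) :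
    a i * L.bv (dlt k) * (a i)⁻¹ = if i = k then (g * t * g⁻¹) * L.bv (dlt k) else L.bv (dlt k) := by
  split_ifs with h
  · subst h
    rw [L.a_conj_bv i ((by decide : ∀ i, crd (dlt i) i ≠ 0) i), (by decide : ∀ i, clr i (dlt i) = 0) i, L.bv_zero]
  · exact L.a_conj_bv_fix i ((by decide : ∀ i k, i ≠ k → crd (dlt k) i = 0) i k h)

theorem s_comm_dlt (k : Fin 3) : Commute (g * t * g⁻¹) (L.bv (dlt k)) := L.X0_comm L.s_X0 (L.bv_low_X0 k)

theorem v_comm_dlt (k : Fin 3) : Commute (L.bv (cpl 0)) (L.bv (dlt k)) :=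
  L.bv_comm ((by decide : ∀ k, dlt k ≠ cpl (cpl 0)) k)

/-- An element of the second core moving the first centre and fixing the common part. -/
theorem exists_mover : ∃ y ∈ cj g E, y * (g * t * g⁻¹) = g * t * g⁻¹ * y ∧ y * t * y⁻¹ = t * (g * t * g⁻¹) ∧
    ∀ k, Commute y (L.bv (dlt k)) := by
  classical
  set s := g * t * g⁻¹ with hs
  obtain ⟨q, hq, hqs, hqt⟩ := L.es'.swap L.t_mem L.hne.symm L.es.ne
  have hcase : ∀ k, q * L.bv (dlt k) * q⁻¹ = L.bv (dlt k) ∨ q * L.bv (dlt k) * q⁻¹ = L.bv (dlt k) * s :=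
    fun k => L.es'.conj_cases hq (L.bv_low_X0 k).2
  let c : Fin 3 → G := fun i => if q * L.bv (dlt i) * q⁻¹ = L.bv (dlt i) then 1 else a i
  have hcB : ∀ i, c i ∈ cj g E := fun i => by
    show (if _ then _ else _) ∈ _
    split_ifs
    exacts [one_mem _, L.a_B i]
  have hcs : ∀ i, Commute (c i) s ∧ Commute (c i) t := fun i => by
    show Commute (if _ then _ else _) s ∧ Commute (if _ then _ else _) t
    split_ifs
    exacts [⟨Commute.one_left _, Commute.one_left _⟩, ⟨L.a_fix i, L.a_t i⟩]
  have hck : ∀ i k, i ≠ k → Commute (c i) (L.bv (dlt k)) := fun i k hik => by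
    show Commute (if _ then _ else _) _
    split_ifs
    · exact Commute.one_left _
    · have := L.bv_dlt_a k i
      rw [if_neg hik] at this
      exact mul_inv_eq_iff_eq_mul.mp this
  have hkk : ∀ k, c k * (q * L.bv (dlt k) * q⁻¹) * (c k)⁻¹ = L.bv (dlt k) := by
    intro k
    show (if _ then _ else _) * _ * (if _ then _ else _)⁻¹ = _
    split_ifs with h
    · rw [h]; group
    · rw [(hcase k).resolve_left h, show a k * (L.bv (dlt k) * s) * (a k)⁻¹ =
        a k * L.bv (dlt k) * (a k)⁻¹ * (a k * s * (a k)⁻¹) by group, L.bv_dlt_a, if_pos rfl,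
        mul_inv_eq_iff_eq_mul.mpr (L.a_fix k).eq, ← hs, (L.s_comm_dlt k).eq, mul_assoc, hs, L.es'.zz, mul_one]
  set y := c 0 * c 1 * c 2 * q with hy
  have hqs' : Commute q s := mul_inv_eq_iff_eq_mul.mp hqs
  refine ⟨y, mul_mem (mul_mem (mul_mem (hcB 0) (hcB 1)) (hcB 2)) hq,
    ((((hcs 0).1.mul_left (hcs 1).1).mul_left (hcs 2).1).mul_left hqs').eq, ?_, fun k => ?_⟩
  · rw [hy, show c 0 * c 1 * c 2 * q * t * (c 0 * c 1 * c 2 * q)⁻¹ =
      c 0 * c 1 * c 2 * (q * t * q⁻¹) * (c 0 * c 1 * c 2)⁻¹ by group, hqt]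
    refine mul_inv_eq_iff_eq_mul.mpr ?_
    exact ((((hcs 0).2.mul_left (hcs 1).2).mul_left (hcs 2).2).mul_right
      (((hcs 0).1.mul_left (hcs 1).1).mul_left (hcs 2).1)).eq
  · refine mul_inv_eq_iff_eq_mul.mp ?_
    set p := L.bv (dlt k)
    have hfix : ∀ i, i ≠ k → ∀ z, c i * z * (c i)⁻¹ = z ↔ Commute (c i) z := fun i _ z => mul_inv_eq_iff_eq_mul
    rw [hy, show c 0 * c 1 * c 2 * q * p * (c 0 * c 1 * c 2 * q)⁻¹ =
      c 0 * (c 1 * (c 2 * (q * p * q⁻¹) * (c 2)⁻¹) * (c 1)⁻¹) * (c 0)⁻¹ by group]
    have hc' : ∀ i, i ≠ k → Commute (c i) (q * p * q⁻¹) := fun i hi => by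
      rcases hcase k with e | e <;> rw [e]
      exacts [hck i k hi, (hck i k hi).mul_right (hcs i).1]
    have f' : ∀ i, i ≠ k → c i * (q * p * q⁻¹) * (c i)⁻¹ = q * p * q⁻¹ := fun i hi =>
      mul_inv_eq_iff_eq_mul.mpr (hc' i hi).eq
    have f : ∀ i, i ≠ k → c i * p * (c i)⁻¹ = p := fun i hi => mul_inv_eq_iff_eq_mul.mpr (hck i k hi).eq
    fin_cases k
    · rw [f' 2 (by decide), f' 1 (by decide)]; exact hkk 0
    · rw [f' 2 (by decide)]; erw [hkk 1]; exact f 0 (by decide)
    · erw [hkk 2]; erw [f 1 (by decide)]; exact f 0 (by decide)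

theorem exists_n : ∃ n : G, n * n = 1 ∧ n * t * n = g * t * g⁻¹ ∧ (∀ k, Commute n (L.bv (dlt k))) ∧
    n * L.bv (cpl 0) * n = L.bv (cpl 0) * n * L.bv (cpl 0) := by
  classical
  set s := g * t * g⁻¹ with hs
  set v := L.bv (cpl 0) with hv
  have hvt : Commute v t := L.bv_t _
  have hvv : v * v = 1 := L.bv_sq _
  have hvi : v⁻¹ = v := inv_eq_of_mul_eq_one_right hvv
  have hst : Commute s t := L.st_comm
  have hss : s * s = 1 := L.es'.zz
  have hvs : v * s * v⁻¹ = s * t := by
    rcases L.es.conj_cases (L.bv_mem (cpl 0)) L.hs with e | e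
    · exact absurd (L.bv_zero ▸ (show Commute v s from mul_inv_eq_iff_eq_mul.mp e)) fun h =>
        ((L.bv_commute_iff (cpl 0) 0).mp h) (by decide)
    · exact e
  obtain ⟨y, hy, hys, hyt, hyp⟩ := L.exists_mover
  rw [← hs] at hys hyt
  set n0 := y * v * y⁻¹ with hn0
  have hn00 : n0 * n0 = 1 := by
    rw [hn0, show y * v * y⁻¹ * (y * v * y⁻¹) = y * (v * v) * y⁻¹ by group, hvv]; group
  have hn0i : n0⁻¹ = n0 := inv_eq_of_mul_eq_one_right hn00
  have hys' : y⁻¹ * s * y = s := by rw [mul_assoc, ← hys, inv_mul_cancel_left]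
  have hn0s : n0 * s * n0⁻¹ = t := by
    rw [hn0, show y * v * y⁻¹ * s * (y * v * y⁻¹)⁻¹ = y * (v * (y⁻¹ * s * y) * v⁻¹) * y⁻¹ by group, hys', hvs,
      show y * (s * t) * y⁻¹ = (y * s * y⁻¹) * (y * t * y⁻¹) by group, hys, mul_inv_cancel_right, hyt, ← mul_assoc,
      hst.eq, mul_assoc, hss, mul_one]
  have hn0t : n0 * t * n0⁻¹ = s := by
    conv_lhs => rw [← hn0s]
    rw [hn0i, show n0 * (n0 * s * n0) * n0 = (n0 * n0) * s * (n0 * n0) by group, hn00, one_mul, mul_one]
  have hn0p : ∀ k, Commute n0 (L.bv (dlt k)) := fun k =>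
    ((hyp k).mul_left (L.v_comm_dlt k)).mul_left (hyp k).inv_left
  set d := n0 * v with hd
  have hdt : d * t * d⁻¹ = s := by
    rw [hd, show n0 * v * t * (n0 * v)⁻¹ = n0 * (v * t * v⁻¹) * n0⁻¹ by group, mul_inv_eq_iff_eq_mul.mpr hvt.eq, hn0t]
  have hds : d * s * d⁻¹ = t * s := by
    rw [hd, show n0 * v * s * (n0 * v)⁻¹ = n0 * (v * s * v⁻¹) * n0⁻¹ by group, hvs,
      show n0 * (s * t) * n0⁻¹ = (n0 * s * n0⁻¹) * (n0 * t * n0⁻¹) by group, hn0s, hn0t]
  have hdp : ∀ k, Commute d (L.bv (dlt k)) := fun k => (hn0p k).mul_left (L.v_comm_dlt k)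
  set w := d * d * d with hw
  have hdts : d * (t * s) * d⁻¹ = t := by
    rw [show d * (t * s) * d⁻¹ = (d * t * d⁻¹) * (d * s * d⁻¹) by group, hdt, hds, ← mul_assoc, hst.eq, mul_assoc,
      hss, mul_one]
  have h3 : ∀ z, w * z * w⁻¹ = d * (d * (d * z * d⁻¹) * d⁻¹) * d⁻¹ := fun z => by rw [hw]; group
  have hwt : Commute w t := mul_inv_eq_iff_eq_mul.mp (by rw [h3, hdt, hds, hdts])
  have hws : Commute w s := mul_inv_eq_iff_eq_mul.mp (by rw [h3, hds, hdts, hdt])
  -- `w` lies in the intersection of the cores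
  set V4 := Subgroup.closure ({t, s} : Set G) with hV4
  obtain ⟨hRX, -⟩ := pair_main L.es g rfl L.hs L.hne L.t_mem V4 (E ⊔ cj g E)
    ((cj g E ⊓ Subgroup.centralizer ({t} : Set G)) ⊔ (E ⊓ Subgroup.centralizer ({s} : Set G))) rfl rfl rfl
  have hwR : w ∈ (cj g E ⊓ Subgroup.centralizer ({t} : Set G)) ⊔ (E ⊓ Subgroup.centralizer ({s} : Set G)) := by
    rw [hRX]
    refine ⟨?_, mem_cent_pair.mpr ⟨hwt.eq, hws.eq⟩⟩
    have hvX : v ∈ E ⊔ cj g E := Subgroup.mem_sup_left (L.bv_mem _)
    have hyX : y ∈ E ⊔ cj g E := Subgroup.mem_sup_right hy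
    have hdX : d ∈ E ⊔ cj g E := mul_mem (mul_mem (mul_mem hyX hvX) (inv_mem hyX)) hvX
    exact mul_mem (mul_mem hdX hdX) hdX
  have hnor : cj g E ⊓ Subgroup.centralizer ({t} : Set G) ≤
      Subgroup.normalizer ((E ⊓ Subgroup.centralizer ({s} : Set G) : Subgroup G) : Set G) := fun b hb =>
    mem_normalizer_of_le fun e he => by
      refine ⟨L.es.nor b (Subgroup.mem_centralizer_singleton_iff.mp hb.2) e he.1,
        Subgroup.mem_centralizer_singleton_iff.mpr ?_⟩
      have hbs : Commute b s := L.es'.comm b hb.1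
      exact ((hbs.mul_left (Subgroup.mem_centralizer_singleton_iff.mp he.2)).mul_left hbs.inv_left).eq
  rw [← SetLike.mem_coe, Subgroup.coe_mul_of_left_le_normalizer_right _ _ hnor] at hwR
  obtain ⟨b, hb, e, he, hbe⟩ := hwR
  have hbt : Commute b t := Subgroup.mem_centralizer_singleton_iff.mp hb.2
  have hwlow : ∀ m, lowW m = true → Commute w (L.bv m) := fun m hm => by
    rcases (by decide : ∀ m, lowW m = true → m = 0 ∨ ∃ k, m = dlt k) m hm with rfl | ⟨k, rfl⟩
    · rw [L.bv_zero]; exact hws
    · exact ((hdp k).mul_left (hdp k)).mul_left (hdp k)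
  have hwX : ∀ u ∈ L.X0, w * u = u * w := L.comm_X0 hwt hwlow
  have hboth : ∀ u ∈ L.X0, b * u = u * b ∧ e * u = u * e := by
    intro u hu
    have h := mul_inv_eq_iff_eq_mul.mpr (hwX u hu)
    rw [← hbe, show b * e * u * (b * e)⁻¹ = b * (e * u * e⁻¹) * b⁻¹ by group] at h
    rcases L.es.conj_cases he.1 hu.1 with e1 | e1 <;> rw [e1] at h
    · exact ⟨mul_inv_eq_iff_eq_mul.mp h, mul_inv_eq_iff_eq_mul.mp e1⟩
    · exfalso
      rw [show b * (u * t) * b⁻¹ = b * u * b⁻¹ * (b * t * b⁻¹) by group, mul_inv_eq_iff_eq_mul.mpr hbt.eq] at h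
      rcases L.es'.conj_cases hb.1 hu.2 with e2 | e2 <;> rw [e2] at h
      · exact L.es.ne (mul_eq_left.mp h)
      · rw [mul_assoc, mul_eq_left] at h
        exact L.hne (by rw [← hs, ← inv_eq_of_mul_eq_one_right h, inv_eq_of_mul_eq_one_right hss])
  have hbX : b ∈ L.X0 := abelian_mem L.es' L.card' inf_le_right L.s_X0 L.card_X0 (fun u hu v hv => L.X0_comm hu hv)
    hb.1 fun u hu => (hboth u hu).1
  have heX : e ∈ L.X0 := abelian_mem L.es L.card inf_le_left L.t_X0 L.card_X0 (fun u hu v hv => L.X0_comm hu hv)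
    he.1 fun u hu => (hboth u hu).2
  have hwX0 : w ∈ L.X0 := hbe ▸ mul_mem hbX heX
  obtain ⟨c, hc, hform⟩ := L.X0_forms hwX0
  -- the part outside the four group
  set pw := (bif c (dlt 0) then L.bv (dlt 0) else 1) * (bif c (dlt 1) then L.bv (dlt 1) else 1) *
    (bif c (dlt 2) then L.bv (dlt 2) else 1) with hpw
  have hps : prodS x s c = (bif c 0 then s else 1) * pw := by
    rw [prodS, hpw]
    simp only [L8, List.map_cons, List.map_nil, List.prod_cons, List.prod_nil, hc (0, 1, 1) (by decide),
      hc (1, 0, 1) (by decide), hc (1, 1, 0) (by decide), hc (1, 1, 1) (by decide), cond_false, mul_one,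
      mul_assoc]
    rw [show trS x s (0, 0, 0) = s from L.bv_zero]
    rfl
  have hopt : ∀ (z : G) (k : Fin 3), Commute z (L.bv (dlt k)) →
      Commute z (bif c (dlt k) then L.bv (dlt k) else 1) := fun z k h => by
    cases c (dlt k)
    exacts [Commute.one_right z, h]
  have hpcomm : ∀ z, (∀ k, Commute z (L.bv (dlt k))) → Commute z pw := fun z h =>
    ((hopt z 0 (h 0)).mul_right (hopt z 1 (h 1))).mul_right (hopt z 2 (h 2))
  have hpX : pw ∈ L.X0 := by
    have : ∀ k, (bif c (dlt k) then L.bv (dlt k) else 1) ∈ L.X0 := fun k => by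
      cases c (dlt k)
      exacts [one_mem _, L.bv_low_X0 k]
    exact mul_mem (mul_mem (this 0) (this 1)) (this 2)
  have hdw : d * w * d⁻¹ = w := by rw [hw]; group
  have hdpw : d * pw * d⁻¹ = pw := mul_inv_eq_iff_eq_mul.mpr (hpcomm d hdp).eq
  have hsp : Commute s pw := hpcomm s L.s_comm_dlt
  have htp : Commute t pw := (L.es.comm pw hpX.1 : Commute pw t).symm
  have hwp : w = pw := by
    have hdc : ∀ u v, d * (u * v) * d⁻¹ = (d * u * d⁻¹) * (d * v * d⁻¹) := fun u v => by group
    rcases hform with h | h <;> cases hc0 : c 0 <;> rw [hps, hc0] at h <;>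
      simp only [cond_true, cond_false, one_mul] at h
    · exact h
    · exfalso
      rw [h, hdc, hds, hdpw, mul_left_inj] at hdw
      exact L.es.ne (mul_eq_right.mp hdw)
    · exfalso
      rw [h, hdc, hdpw, hdt] at hdw
      exact L.hne (mul_left_cancel hdw)
    · exfalso
      rw [h, hdc, hdc, hds, hdpw, hdt] at hdw
      have : t * s * pw * s = t * pw := by rw [mul_assoc _ pw, ← hsp.eq, ← mul_assoc, mul_assoc t, hss, mul_one]
      rw [this, htp.eq, mul_assoc] at hdw
      have h' : s * pw * t = 1 * (pw * t) → False := fun e => L.es'.ne (by rwa [mul_assoc, mul_left_inj] at e)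
      exact h' (by rw [one_mul, hpw]; simpa only [hpw, mul_assoc] using hdw.symm)
  set n := n0 * pw with hn
  have hcn0 : Commute n0 pw := hpcomm n0 hn0p
  have hpp : pw * pw = 1 := L.X0_sq hpX
  refine ⟨n, ?_, ?_, fun k => (hn0p k).mul_left (L.X0_comm hpX (L.bv_low_X0 k)), ?_⟩
  · rw [hn, show n0 * pw * (n0 * pw) = n0 * (pw * n0) * pw by group, ← hcn0.eq,
      show n0 * (n0 * pw) * pw = n0 * n0 * (pw * pw) by group, hn00, hpp, one_mul]
  · rw [hn, show n0 * pw * t * (n0 * pw) = n0 * (pw * t) * n0 * pw by group, ← htp.eq,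
      show n0 * (t * pw) * n0 * pw = n0 * t * (pw * n0) * pw by group, ← hcn0.eq,
      show n0 * t * (n0 * pw) * pw = n0 * t * n0 * (pw * pw) by group, hpp, mul_one]
    rw [hn0i] at hn0t; exact hn0t
  · have hnn : n * n = 1 := by
      rw [hn, show n0 * pw * (n0 * pw) = n0 * (pw * n0) * pw by group, ← hcn0.eq,
        show n0 * (n0 * pw) * pw = n0 * n0 * (pw * pw) by group, hn00, hpp, one_mul]
    have hvp : Commute v pw := hpcomm v L.v_comm_dlt
    have hnv : n * v = d * pw :=
      (mul_assoc n0 pw v).trans ((congrArg (n0 * ·) hvp.eq.symm).trans (mul_assoc n0 v pw).symm)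
    have hcd : Commute d pw := hpcomm d hdp
    have h6 : (n * v) * (n * v) * (n * v) = 1 := by
      rw [hnv, show d * pw * (d * pw) * (d * pw) = d * (pw * d) * (pw * d) * pw by group, ← hcd.eq,
        show d * (d * pw) * (d * pw) * pw = d * d * (pw * d) * pw * pw by group, ← hcd.eq,
        show d * d * (d * pw) * pw * pw = w * (pw * pw) * pw by rw [hw]; group, hpp, mul_one, hwp, hpp]
    calc n * v * n = (n * v) * (n * v) * (n * v) * (v⁻¹ * n⁻¹ * v⁻¹) := by group
      _ = v * n * v := by rw [h6, one_mul, hvi, inv_eq_of_mul_eq_one_right hnn]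

theorem exists_swap : ∃ (a' : Fin 3 → G) (n : G), Swap8 t E π g x a' n := by
  classical
  obtain ⟨n, hn2, hnt, hnp, hbr⟩ := L.exists_n
  set s := g * t * g⁻¹ with hs
  have hni : n⁻¹ = n := inv_eq_of_mul_eq_one_right hn2
  have hns : n * s * n = t := by
    rw [← hnt, show n * (n * t * n) * n = (n * n) * t * (n * n) by group, hn2, one_mul, mul_one]
  have hnn : ∀ u v : G, n * (u * v) * n = (n * u * n) * (n * v * n) := fun u v => by
    rw [show n * u * n * (n * v * n) = n * u * (n * n) * v * n by group, hn2]; group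
  have hst : Commute s t := L.st_comm
  have hss : s * s = 1 := L.es'.zz
  have hE : ∀ b ∈ cj g E, n * b * n ∈ E := by
    intro b hb
    have h1 : cj n (cj g E) = cj 1 E := by
      rw [cj_cj]
      refine L.es.cj_congr ?_
      rw [show n * g * t * (n * g)⁻¹ = n * s * n⁻¹ by rw [hs]; group, hni, hns]; simp
    have h2 := h1 ▸ conj_mem_cj (g := n) hb
    rw [mem_cj, hni] at h2
    simpa using h2
  let u : Fin 3 → G := fun i => n * a i * n
  have huE : ∀ i, u i ∈ E := fun i => hE _ (L.a_B i)
  have huu : ∀ i, u i * u i = 1 := fun i => by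
    show n * a i * n * (n * a i * n) = 1
    rw [← hnn, L.a_sq, mul_one, hn2]
  set f : Fin 3 → G := fun i => L.bv (cpl (dlt i)) with hf
  have hfE : ∀ i, f i ∈ E := fun i => L.bv_mem _
  have hff : ∀ i, f i * f i = 1 := fun i => L.bv_sq _
  have hfs : ∀ i, Commute (f i) s := fun i => by
    rw [hs, ← L.bv_zero]; exact L.bv_comm ((by decide : ∀ i, (0 : Fin 2 × Fin 2 × Fin 2) ≠ cpl (cpl (dlt i))) i)
  have hq : ∀ i, f i * u i ∈ L.X0 := by
    intro i
    refine abelian_mem L.es L.card inf_le_left L.t_X0 L.card_X0 (fun p hp v hv => L.X0_comm hp hv)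
      (mul_mem (hfE i) (huE i)) (L.comm_X0 (L.es.comm _ (mul_mem (hfE i) (huE i))) fun m hm => ?_)
    refine (es_mul_comm_iff L.es (hfE i) (huE i) (L.bv_mem m)).mpr ?_
    have hu' : Commute (u i) (L.bv m) ↔ Commute (a i) (n * L.bv m * n) := by
      rw [← commute_conj_iff' (u := a i) (v := n * L.bv m * n) n, hni,
        show n * (n * L.bv m * n) * n = (n * n) * L.bv m * (n * n) by group, hn2, one_mul, mul_one]
    rw [hu', L.bv_commute_iff]
    rcases (by decide : ∀ m, lowW m = true → m = 0 ∨ ∃ k, m = dlt k) m hm with rfl | ⟨k, rfl⟩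
    · rw [L.bv_zero, ← hs, hns]
      exact iff_of_true ((by decide : ∀ i, (0 : Fin 2 × Fin 2 × Fin 2) ≠ cpl (cpl (dlt i))) i) (L.a_t i)
    · rw [(hnp k).eq, mul_assoc, hn2, mul_one]
      have h1 := L.bv_dlt_a k i
      constructor
      · intro hne
        rw [if_neg fun e => hne ((by decide : ∀ i k, i = k → dlt k = cpl (cpl (dlt i))) i k e)] at h1
        exact mul_inv_eq_iff_eq_mul.mp h1
      · intro hc he
        have e : i = k := (by decide : ∀ i k, dlt k = cpl (cpl (dlt i)) → i = k) i k he
        rw [if_pos e, mul_inv_eq_iff_eq_mul.mpr hc.eq] at h1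
        exact L.es'.ne (mul_eq_right.mp h1.symm)
  choose c hc hform using fun i => L.X0_forms (hq i)
  have hucomm : ∀ i, Commute (f i) (f i * u i) := fun i => by
    have h1 := L.X0_sq (hq i)
    have h2 : f i * u i = u i * f i := by
      have := inv_eq_of_mul_eq_one_right h1
      rw [mul_inv_rev, inv_eq_of_mul_eq_one_right (hff i), inv_eq_of_mul_eq_one_right (huu i)] at this
      exact this.symm
    exact (Commute.refl (f i)).mul_right h2
  have hpc : ∀ i, ∀ z, Commute z (f i * u i) → Commute z t → Commute z (prodS x s (c i)) := fun i z hz hzt => by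
    rcases hform i with e | e
    · rwa [← e]
    · have := hz.mul_right hzt.inv_right
      rwa [e, mul_inv_cancel_right] at this
  have hdiag : ∀ i, c i (dlt i) = false := fun i => by
    have h := (L.bv_prod_commute_iff (c i) (cpl (dlt i))).mp (hpc i _ (hucomm i) (L.bv_t _)).symm
    rwa [(by decide : ∀ i, cpl (cpl (dlt i)) = dlt i) i] at h
  -- off-diagonal coefficients
  have hcross : ∀ i j, i ≠ j → c j (dlt i) = false := by
    intro i j hij
    obtain ⟨k, hki, hkj⟩ : ∃ k, k ≠ i ∧ k ≠ j := (by decide : ∀ i j : Fin 3, ∃ k, k ≠ i ∧ k ≠ j) i j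
    have hjk := fun i j k (h : i ≠ j ∧ k ≠ i ∧ k ≠ j) => (by decide : ∀ i j k : Fin 3, i ≠ j ∧ k ≠ i ∧ k ≠ j →
      clr i (cpl (dlt j)) = dlt k ∧ crd (cpl (dlt j)) i ≠ 0) i j k h
    have key : ∀ i j, i ≠ j → ∀ k, k ≠ i → k ≠ j → a i * u j * a i * u j = L.bv (dlt k) ∨
        a i * u j * a i * u j = L.bv (dlt k) * s := by
      intro i j hij k hki hkj
      obtain ⟨e1, e2⟩ := hjk i j k ⟨hij, hki, hkj⟩
      have hai : (a i)⁻¹ = a i := inv_eq_of_mul_eq_one_right (L.a_sq i)
      have hq' : a i * (f j * u j) * a i = f j * u j ∨ a i * (f j * u j) * a i = f j * u j * s := by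
        have := L.es'.conj_cases (L.a_B i) (hq j).2
        rwa [hai] at this
      have hfj : a i * f j * a i = L.bv (dlt k) * f j := by
        have := L.a_conj_bv i e2
        rwa [e1, hai] at this
      have e3 : a i * u j * a i = L.bv (dlt k) * f j * (a i * (f j * u j) * a i) := by
        rw [← hfj, show a i * f j * a i * (a i * (f j * u j) * a i) = a i * f j * (a i * a i) * f j * u j * a i by group,
          L.a_sq, mul_one, show a i * f j * f j * u j * a i = a i * (f j * f j) * u j * a i by group, hff, mul_one]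
      rw [e3]
      rcases hq' with e | e <;> rw [e]
      · left
        rw [show L.bv (dlt k) * f j * (f j * u j) * u j = L.bv (dlt k) * (f j * f j) * (u j * u j) by group, hff, huu]
        simp
      · right
        have hsu : Commute (u j) s := by
          have := (hfs j).mul_left (L.X0_comm (hq j) L.s_X0 : Commute (f j * u j) s)
          rwa [← mul_assoc, hff, one_mul] at this
        rw [show L.bv (dlt k) * f j * (f j * u j * s) * u j = L.bv (dlt k) * (f j * f j) * u j * (s * u j) by group,
          hff, ← hsu.eq, show L.bv (dlt k) * 1 * u j * (u j * s) = L.bv (dlt k) * (u j * u j) * s by group, huu, mul_one]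
    have h1 : a i * u j * a i * u j = L.bv (dlt k) := by
      rcases key i j hij k hki hkj with h | h
      · exact h
      exfalso
      have h2 := congrArg (fun z => n * z * n) h
      simp only [hnn, (hnp k).eq, hns] at h2
      have e : ∀ i, n * u i * n = a i := fun i => by
        show n * (n * a i * n) * n = a i
        rw [show n * (n * a i * n) * n = (n * n) * a i * (n * n) by group, hn2, one_mul, mul_one]
      rw [e, show L.bv (dlt k) * n * n = L.bv (dlt k) by rw [mul_assoc, hn2, mul_one]] at h2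
      have h3 : a j * u i * a j * u i = (u i * a j * u i * a j)⁻¹ := by
        have hg : ∀ p q r w : G, (p * q * r * w)⁻¹ = w⁻¹ * r⁻¹ * q⁻¹ * p⁻¹ := fun p q r w => by group
        rw [hg, inv_eq_of_mul_eq_one_right (huu i), inv_eq_of_mul_eq_one_right (L.a_sq j)]
      rw [show n * a i * n = u i from rfl] at h2
      rw [h2, mul_inv_rev, inv_eq_of_mul_eq_one_right L.es.zz, inv_eq_of_mul_eq_one_right (L.bv_sq _),
        ← (L.bv_t (dlt k)).eq] at h3
      rcases key j i hij.symm k hkj hki with h4 | h4 <;> rw [h4] at h3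
      · exact L.es.ne (mul_eq_left.mp h3.symm)
      · exact L.hne (mul_left_cancel h3)
    have hai : (a i)⁻¹ = a i := inv_eq_of_mul_eq_one_right (L.a_sq i)
    obtain ⟨e1, e2⟩ := hjk i j k ⟨hij, hki, hkj⟩
    have hfj : a i * f j * a i = L.bv (dlt k) * f j := by
      have := L.a_conj_bv i e2
      rwa [e1, hai] at this
    have hac : Commute (a i) (f j * u j) := by
      have hX : a i * (f j * u j) * a i = f j * u j := by
        have hfji : (L.bv (dlt k) * f j)⁻¹ = f j * L.bv (dlt k) := by
          rw [mul_inv_rev, inv_eq_of_mul_eq_one_right (hff j), inv_eq_of_mul_eq_one_right (L.bv_sq _)]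
        calc a i * (f j * u j) * a i = (a i * f j * a i) * (a i * u j * a i * u j) * u j := by
              rw [show a i * f j * a i * (a i * u j * a i * u j) * u j =
                a i * f j * (a i * a i) * u j * a i * (u j * u j) by group, L.a_sq, huu]; group
          _ = f j * u j := by
              have hcomm : Commute (f j) (L.bv (dlt k)) := L.bv_comm
                ((by decide : ∀ k j, k ≠ j → dlt k ≠ cpl (cpl (dlt j))) k j hkj)
              rw [hfj, h1, mul_assoc (L.bv (dlt k)) (f j) (L.bv (dlt k)), hcomm.eq,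
                ← mul_assoc (L.bv (dlt k)) (L.bv (dlt k)) (f j), L.bv_sq, one_mul]
      have := mul_inv_eq_iff_eq_mul.mp (show a i * (f j * u j) * (a i)⁻¹ = f j * u j by rwa [hai])
      exact this
    have hz := hpc j _ hac (L.a_t i)
    rcases hc' : c j (dlt i) with _ | _
    · rfl
    exfalso
    -- the transposition moves exactly one factor
    have hc0 : ∀ m, m ≠ dlt i → Commute (a i) (bif c j m then L.bv m else 1) := fun m hm => by
      rcases hcm : c j m with _ | _
      · exact Commute.one_right _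
      · have hlow : lowW m = true := by
          by_contra hl
          rw [Bool.not_eq_true] at hl
          rw [hc j m hl] at hcm
          exact Bool.noConfusion hcm
        have hz' : crd m i = 0 := (by decide : ∀ m i, lowW m = true → m ≠ dlt i → crd m i = 0) m i hlow hm
        exact mul_inv_eq_iff_eq_mul.mp (L.a_conj_bv_fix i hz')
    have hsplit : ∀ l : List (Fin 2 × Fin 2 × Fin 2), l.Nodup →
        (Commute (a i) (l.map fun m => bif c j m then L.bv m else 1).prod ↔ dlt i ∉ l) := by
      intro l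
      induction l with
      | nil => intro _; simp
      | cons m l ih =>
        intro hl
        obtain ⟨hml, hl'⟩ := List.nodup_cons.mp hl
        rw [List.map_cons, List.prod_cons, List.mem_cons, not_or]
        by_cases hm : m = dlt i
        · subst hm
          refine iff_of_false (fun h => ?_) fun h => h.1 rfl
          have h' := h.mul_right ((ih hl').mpr hml).inv_right
          rw [hc', cond_true, mul_inv_cancel_right] at h'
          have h'' := L.bv_dlt_a i i
          rw [if_pos rfl, mul_inv_eq_iff_eq_mul.mpr h'.eq] at h''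
          exact L.es'.ne (mul_eq_right.mp h''.symm)
        · rw [← ih hl']
          refine ⟨fun h => ⟨fun e => hm e.symm, ?_⟩, fun h => (hc0 m hm).mul_right h.2⟩
          have := (hc0 m hm).inv_right.mul_right h
          rwa [inv_mul_cancel_left] at this
    exact ((hsplit L8 (by decide)).mp hz) ((by decide : ∀ i, dlt i ∈ L8) i)
  have hall : ∀ i k, c i (dlt k) = false := fun i k => by
    rcases eq_or_ne k i with rfl | h
    exacts [hdiag k, hcross k i h]
  have hform' : ∀ i, f i * u i = (bif c i 0 then s else 1) ∨ f i * u i = (bif c i 0 then s else 1) * t := by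
    intro i
    have e : prodS x s (c i) = (bif c i 0 then s else 1) := by
      rw [prodS]
      simp only [L8, List.map_cons, List.map_nil, List.prod_cons, List.prod_nil, hc i (0, 1, 1) (by decide),
        hc i (1, 0, 1) (by decide), hc i (1, 1, 0) (by decide), hc i (1, 1, 1) (by decide),
        show c i (1, 0, 0) = false from hall i 0, show c i (0, 1, 0) = false from hall i 1,
        show c i (0, 0, 1) = false from hall i 2, cond_false, mul_one]
      rw [show trS x s (0, 0, 0) = s from L.bv_zero]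
      rfl
    rw [← e]
    exact hform i
  -- normalise
  set a' : Fin 3 → G := fun i => a i * (bif c i 0 then t else 1) with ha'
  have hgt : ∀ (i : Fin 3) (z : G), Commute z t → Commute z (bif c i 0 then t else 1) := fun i z hz => by
    cases c i 0
    exacts [Commute.one_right z, hz]
  have hE' : ∀ i, (bif c i 0 then t else 1) ∈ E := fun i => by
    cases c i 0
    exacts [one_mem _, L.es.mem]
  have hct : ∀ (i : Fin 3) (c' : G), Commute c' t → ∀ b : G,
      (b * (bif c i 0 then t else 1)) * c' * (b * (bif c i 0 then t else 1))⁻¹ = b * c' * b⁻¹ := fun i c' h b => by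
    rw [show b * (bif c i 0 then t else 1) * c' * (b * (bif c i 0 then t else 1))⁻¹ =
      b * ((bif c i 0 then t else 1) * c' * (bif c i 0 then t else 1)⁻¹) * b⁻¹ by group,
      mul_inv_eq_iff_eq_mul.mpr (hgt i c' h).eq.symm]
  have L' : Lift8 t E π g x a' :=
    { toStd8 := L.toStd8
      eta := L.eta
      x_t := L.x_t
      a_t := fun i => ((show Commute (a i) t from L.a_t i).mul_left (hgt i t (Commute.refl t)).symm).eq
      πx := L.πx
      πa := fun i => by
        show π (a i * _) = _
        rw [L.π_mul _ _ (L.a_t i) (hgt i t (Commute.refl t)).eq.symm, L.π_E (hE' i), mul_one, L.πa]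
      x3 := L.x3
      xx := L.xx
      ax := fun i => (hct i _ (L.x_t i) (a i)).trans (L.ax i)
      axj := fun i j hij => (hct i _ (L.x_t j) (a i)).trans (L.axj i j hij) }
  set v := L.bv (cpl 0) with hv
  have hnan : ∀ i, n * a' i * n = f i := by
    intro i
    have hsg : n * (bif c i 0 then t else 1) * n = bif c i 0 then s else 1 := by
      cases c i 0
      · simp [hn2]
      · exact hnt
    have h0 : f i * (n * a' i * n) = 1 ∨ f i * (n * a' i * n) = t := by
      show f i * (n * (a i * _) * n) = 1 ∨ f i * (n * (a i * _) * n) = t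
      rw [hnn, hsg, ← mul_assoc]
      rcases hform' i with e | e <;> rw [show f i * (n * a i * n) = f i * u i from rfl, e]
      · left; cases c i 0 <;> simp [hss]
      · right
        cases c i 0
        · simp
        · show s * t * s = t
          rw [hst.eq, mul_assoc, hss, mul_one]
    rcases h0 with h | h
    · rw [eq_inv_of_mul_eq_one_right h, inv_eq_of_mul_eq_one_right (hff i)]
    exfalso
    set b := a' i with hb
    have hbb : b * b = 1 := L'.a_sq i
    set U := n * b * n with hU
    have hUf : U = f i * t := by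
      rw [← inv_eq_of_mul_eq_one_right (hff i)]
      exact eq_inv_mul_iff_mul_eq.mpr h
    have hbv : b * v * b = f i * v := by
      have := L'.a_conj_bv i ((by decide : ∀ i, crd (cpl 0) i ≠ 0) i)
      rw [(by decide : ∀ i, clr i (cpl 0) = cpl (dlt i)) i, inv_eq_of_mul_eq_one_right hbb] at this
      exact this
    have hvv : v * v = 1 := L.bv_sq _
    have hvi : v⁻¹ = v := inv_eq_of_mul_eq_one_right hvv
    have hnf : n * f i * n = b * s := by
      have e : f i = U * t := by rw [hUf, mul_assoc, L.es.zz, mul_one]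
      rw [e, hnn, hnt, hU, show n * (n * b * n) * n = (n * n) * b * (n * n) by group, hn2, one_mul, mul_one]
    have h1 := congrArg (fun z => n * z * n) hbv
    simp only [hnn, hnf, ← hU] at h1
    rw [hbr] at h1
    have hUv : Commute U v := by
      rw [hUf]
      exact (L.bv_comm ((by decide : ∀ i, cpl 0 ≠ cpl (cpl (dlt i))) i)).mul_left (L.bv_t _).symm
    have h2 : v * (U * n * U) * v = v * (v * (b * s) * v * n) * v := by
      calc v * (U * n * U) * v = (v * U) * n * (U * v) := by group
        _ = (U * v) * n * (v * U) := by rw [hUv.eq]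
        _ = U * (v * n * v) * U := by group
        _ = b * s * (v * n * v) := h1
        _ = (v * v) * (b * s) * v * n * v := by rw [hvv]; group
        _ = v * (v * (b * s) * v * n) * v := by group
    have h3 := mul_left_cancel (mul_right_cancel h2)
    have h4 : U * n * U = U * b * n := by
      rw [hU, show n * b * n * n * (n * b * n) = n * b * (n * n) * n * b * n by group, hn2, mul_one]
    rw [h4] at h3
    have h5 := mul_right_cancel h3
    have hvbv : v * b * v = f i * b := by
      calc v * b * v = v * (b * v * b) * b := by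
            rw [show v * (b * v * b) * b = v * b * v * (b * b) by group, hbb, mul_one]
        _ = v * (f i * v) * b := by rw [hbv]
        _ = f i * b := by
            have hfv : Commute (f i) v := L.bv_comm ((by decide : ∀ i, cpl 0 ≠ cpl (cpl (dlt i))) i)
            rw [← mul_assoc v, ← hfv.eq, mul_assoc (f i), hvv, mul_one]
    have hvsv : v * s * v = s * t := by
      rcases L.es.conj_cases (L.bv_mem (cpl 0)) L.hs with e | e
      · exact absurd (L.bv_zero ▸ (show Commute v s from mul_inv_eq_iff_eq_mul.mp e)) fun h =>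
          ((L.bv_commute_iff (cpl 0) 0).mp h) (by decide)
      · rw [hvi] at e; exact e
    rw [show v * (b * s) * v = v * b * (v * v) * s * v by rw [hvv]; group,
      show v * b * (v * v) * s * v = (v * b * v) * (v * s * v) by group, hvbv, hvsv, hUf, mul_assoc, mul_assoc,
      mul_left_cancel_iff, ← (show Commute b t from L'.a_t i).eq, mul_left_cancel_iff] at h5
    exact L.es'.ne (mul_eq_right.mp h5.symm)
  refine ⟨a', n, { toLift8 := L', n2 := hn2, nt := hnt, np := hnp, braid := hbr, nan := hnan }⟩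

end Lift8

end CfsgLib.O8C
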