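import Cfsg.Agent.Lib.OEightCent.Swap
import Cfsg.Agent.Lib.OEightCent.Model

/-!
Reflections: the transposition lifts and the exchanging involution satisfy the braid relations.
-/

set_option autoImplicit false
set_option maxRecDepth 8000

namespace CfsgLib.O8C

open Subgroup CfsgLargeExtra

universe u

/-- The action of the simple reflections on the roots. -/
def sref : Fin 4 → Fin 24 → Fin 24 :=
  ![![0, 6, 7, 8, 9, 18, 1, 2, 3, 4, 10, 11, 12, 13, 19, 20, 21, 22, 5, 14, 15, 16, 17, 23],
    ![1, 0, 2, 3, 5, 4, 6, 10, 11, 14, 7, 8, 15, 16, 9, 12, 13, 17, 19, 18, 20, 21, 23, 22],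
    ![0, 3, 4, 1, 2, 5, 8, 9, 6, 7, 13, 11, 12, 10, 16, 17, 14, 15, 18, 21, 22, 19, 20, 23],
    ![0, 2, 1, 4, 3, 5, 7, 6, 9, 8, 10, 12, 11, 13, 15, 14, 17, 16, 18, 20, 19, 22, 21, 23]]

/-- The word leading to a negative root. -/
def nword : Fin 24 → List (Fin 4) :=
  ![[1, 3, 2, 0, 1], [3, 2, 0, 1], [2, 0, 1], [3, 0, 1], [0, 1], [0], [2, 1, 3], [1, 2], [1, 3], [1], [2], [3],
    [], [], [], [], [], [], [], [], [], [], [], []]

/-- The positive root a root comes from. -/
def nbase : Fin 24 → Fin 24 :=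
  ![14, 14, 14, 14, 14, 18, 12, 13, 12, 14, 13, 12, 12, 13, 14, 15, 16, 17, 18, 19, 20, 21, 22, 23]

/-- Setting one coordinate. -/
def flp (i : Fin 3) (m : Fin 2 × Fin 2 × Fin 2) : Fin 2 × Fin 2 × Fin 2 :=
  ![(m.1 + 1, m.2.1, m.2.2), (m.1, m.2.1 + 1, m.2.2), (m.1, m.2.1, m.2.2 + 1)] i

theorem a0_prod : ∀ p0 p1 p2 : Equiv.Perm (Fin 3), (p0 = 1 ∨ p0 = Equiv.swap 0 1) →
    (p1 = 1 ∨ p1 = Equiv.swap 0 1) → (p2 = 1 ∨ p2 = Equiv.swap 0 1) →
    (if ![p0, p1, p2] 0 = 1 then 1 else τg 0) * (if ![p0, p1, p2] 1 = 1 then 1 else τg 1) *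
      (if ![p0, p1, p2] 2 = 1 then 1 else τg 2) = ((p0, p1, p2) : Q3) := by
  rintro p0 p1 p2 (rfl | rfl) (rfl | rfl) (rfl | rfl) <;> decide

section steps

variable {G : Type u} [Group G]

theorem step_symm {w y z : G} (hw : w * w = 1) (h : w * y * w = z) : w * z * w = y := by
  rw [← h, show w * (w * y * w) * w = (w * w) * y * (w * w) by group, hw, one_mul, mul_one]

theorem step_sq {p q y y1 y2 y3 : G} (hp : p * p = 1) (hq : q * q = 1) (h : p * q * p * q = 1)
    (e1 : q * y1 * q = y2) (e2 : p * y2 * p = y3) (e3 : q * y3 * q = y) : p * y * p = y1 := by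
  have h' : p * q * p * q = 1 := h
  have hpi : p⁻¹ = p := inv_eq_of_mul_eq_one_right hp
  have hqi : q⁻¹ = q := inv_eq_of_mul_eq_one_right hq
  rw [← e3, ← e2, ← e1, show p * (q * (p * (q * y1 * q) * p) * q) * p = (p * q * p * q) * y1 * (q * p * q * p) by group,
    show q * p * q * p = (p⁻¹ * q⁻¹ * p⁻¹ * q⁻¹) by rw [hpi, hqi]; exact
      (eq_comm.mp (by
        have := inv_eq_of_mul_eq_one_right h'
        calc p * q * p * q = 1 := h'
          _ = (p * q * p * q)⁻¹ := by rw [h', inv_one]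
          _ = q * p * q * p := by simp [mul_assoc, hpi, hqi])),
    hpi, hqi, h', one_mul, mul_one]

theorem step_hex {p q y y1 y2 y3 y4 y5 : G} (hp : p * p = 1) (hq : q * q = 1) (h : p * q * p * q * p * q = 1)
    (e1 : q * y1 * q = y2) (e2 : p * y2 * p = y3) (e3 : q * y3 * q = y4) (e4 : p * y4 * p = y5)
    (e5 : q * y5 * q = y) : p * y * p = y1 := by
  have hpi : p⁻¹ = p := inv_eq_of_mul_eq_one_right hp
  have hqi : q⁻¹ = q := inv_eq_of_mul_eq_one_right hq
  rw [← e5, ← e4, ← e3, ← e2, ← e1]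
  calc p * (q * (p * (q * (p * (q * y1 * q) * p) * q) * p) * q) * p
      = (p * q * p * q * p * q) * y1 * (q⁻¹ * p⁻¹ * q⁻¹ * p⁻¹ * q⁻¹ * p⁻¹) := by rw [hpi, hqi]; group
    _ = (p * q * p * q * p * q) * y1 * (p * q * p * q * p * q)⁻¹ := by group
    _ = y1 := by rw [h]; simp

theorem commute_of_conj {w y : G} (hw : w * w = 1) (h : w * y * w = y) : Commute w y := by
  have := congrArg (· * w) h
  simp only [mul_assoc, hw, mul_one] at this
  exact this

end steps

variable {G : Type u} [Group G] [Finite G] {t : G} {E : Subgroup G} {π : G → Q3} {g : G} {x a : Fin 3 → G} {n : G}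

namespace Swap8

variable (S : Swap8 t E π g x a n)
include S

/-- The simple reflections. -/
def Wg (_S : Swap8 t E π g x a n) : Fin 4 → G := ![x 0 * a 0, n, x 1 * a 1, x 2 * a 2]

/-- Conjugation along a word. -/
def cjW : List (Fin 4) → G → G
  | [], z => z
  | k :: l, z => S.Wg k * cjW l z * S.Wg k

/-- The positive root elements. -/
def posR (_S : Swap8 t E π g x a n) : Fin 24 → G :=
  ![1, 1, 1, 1, 1, 1, 1, 1, 1, 1, 1, 1, a 2, a 1, trS x (g * t * g⁻¹) (1, 1, 1), trS x (g * t * g⁻¹) (1, 1, 0),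
    trS x (g * t * g⁻¹) (1, 0, 1), trS x (g * t * g⁻¹) (1, 0, 0), a 0, trS x (g * t * g⁻¹) (0, 1, 1),
    trS x (g * t * g⁻¹) (0, 1, 0), trS x (g * t * g⁻¹) (0, 0, 1), trS x (g * t * g⁻¹) (0, 0, 0), t]

/-- The root elements. -/
def root (r : Fin 24) : G := S.cjW (nword r) (S.posR (nbase r))

/-- An equation of the action. -/
def Edge (k : Fin 4) (r r' : Fin 24) : Prop := S.Wg k * S.root r * S.Wg k = S.root r'

/-- The transposition exchanging two coordinates values. -/
abbrev nk (_S : Swap8 t E π g x a n) (k : Fin 3) : G := x k * a k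

theorem nk_sq (k : Fin 3) : S.nk k * S.nk k = 1 := by
  have e : a k * x k * a k = x k * x k := by
    have := S.ax k; rwa [inv_eq_of_mul_eq_one_right (S.a_sq k)] at this
  rw [nk, show x k * a k * (x k * a k) = x k * (a k * x k * a k) by group, e, S.x3]

theorem ax_comm {i j : Fin 3} (h : i ≠ j) : Commute (a i) (x j) := mul_inv_eq_iff_eq_mul.mp (S.axj i j h)

theorem nk_comm {j k : Fin 3} (h : j ≠ k) : Commute (S.nk j) (S.nk k) :=
  (((show Commute (x j) (x k) from S.xx j k)).mul_left (S.ax_comm h)).mul_right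
    ((S.ax_comm h.symm).symm.mul_left (S.a_comm j k))

theorem nk_comm_a {j k : Fin 3} (h : k ≠ j) : Commute (S.nk k) (a j) :=
  (S.ax_comm h.symm).symm.mul_left (S.a_comm k j)

theorem nk_comm_t (k : Fin 3) : Commute (S.nk k) t := (show Commute (x k) t from S.x_t k).mul_left (S.a_t k)

theorem nk_fix {k : Fin 3} {y : G} (h : Commute (S.nk k) y) : S.nk k * y * S.nk k = y := by
  rw [h.eq, mul_assoc, S.nk_sq, mul_one]

theorem nk_fix_t (k : Fin 3) : S.nk k * t * S.nk k = t := S.nk_fix (S.nk_comm_t k)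

theorem nk_fix_a {j k : Fin 3} (h : k ≠ j) : S.nk k * a j * S.nk k = a j := S.nk_fix (S.nk_comm_a h)

theorem nk_fix_conj {j k : Fin 3} (h : k ≠ j) :
    S.nk k * (S.nk j * a j * S.nk j) * S.nk k = S.nk j * a j * S.nk j :=
  S.nk_fix (((S.nk_comm h).mul_right (S.nk_comm_a h)).mul_right (S.nk_comm h))

theorem nk_up {k : Fin 3} {m : Fin 2 × Fin 2 × Fin 2} (h : crd m k = 0) :
    S.nk k * S.bv m * S.nk k = S.bv (flp k m) := by
  have hi : (S.nk k)⁻¹ = S.nk k := inv_eq_of_mul_eq_one_right (S.nk_sq k)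
  calc S.nk k * S.bv m * S.nk k = S.nk k * S.bv m * (S.nk k)⁻¹ := by rw [hi]
    _ = x k * (a k * S.bv m * (a k)⁻¹) * (x k)⁻¹ := by rw [nk]; group
    _ = x k * S.bv m * (x k)⁻¹ := by rw [S.a_conj_bv_fix k h]
    _ = S.bv (flp k m) := by
      have hc := (S.rest_comm m k).2
      have e : trW x (flp k m) = x k * trW x m := by
        have h1 : crd (flp k m) k = 1 ∧ restW x (flp k m) k = restW x m k := by
          have := (by decide : ∀ (m : Fin 2 × Fin 2 × Fin 2) k, crd m k = 0 → crd (flp k m) k = 1) m k h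
          refine ⟨this, ?_⟩
          fin_cases k <;> rfl
        rw [S.trW_rest (flp k m) k, h1.1, h1.2, pow_one, S.trW_rest m k, h, pow_zero, mul_one, hc.eq]
      show x k * (trW x m * _ * (trW x m)⁻¹) * (x k)⁻¹ = trW x (flp k m) * _ * (trW x (flp k m))⁻¹
      rw [e]; group

theorem nk_flip (k : Fin 3) (m : Fin 2 × Fin 2 × Fin 2) : S.nk k * S.bv m * S.nk k = S.bv (flp k m) := by
  by_cases h : crd m k = 0
  · exact S.nk_up h
  · obtain ⟨h1, h2⟩ := (by decide : ∀ (m : Fin 2 × Fin 2 × Fin 2) k, crd m k ≠ 0 →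
      crd (flp k m) k = 0 ∧ flp k (flp k m) = m) m k h
    have := step_symm (S.nk_sq k) (S.nk_up h1)
    rwa [h2] at this

theorem ns_eq : n * S.bv 0 * n = t := by
  rw [S.bv_zero]
  exact step_symm S.n2 S.nt

theorem n_fix (k : Fin 3) : n * S.bv (dlt k) * n = S.bv (dlt k) := by
  rw [(S.np k).eq, mul_assoc, S.n2, mul_one]

theorem wg_sq : ∀ i, S.Wg i * S.Wg i = 1 := by
  intro i
  fin_cases i
  exacts [S.nk_sq 0, S.n2, S.nk_sq 1, S.nk_sq 2]

theorem wg_square : ∀ i j : Fin 4, i ≠ j ∧ i ≠ 1 ∧ j ≠ 1 → S.Wg i * S.Wg j * S.Wg i * S.Wg j = 1 := by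
  have h : ∀ j k : Fin 3, j ≠ k → S.nk j * S.nk k * S.nk j * S.nk k = 1 := fun j k hjk => by
    rw [(S.nk_comm hjk).eq, mul_assoc (S.nk k), S.nk_sq, mul_one, S.nk_sq]
  intro i j hij
  fin_cases i <;> fin_cases j <;>
    first
      | exact absurd rfl hij.1
      | exact absurd rfl hij.2.1
      | exact absurd rfl hij.2.2
      | exact h _ _ (by decide)

/-- **Braid relation.** -/
theorem braid_nk (k : Fin 3) : n * S.nk k * n * S.nk k * n * S.nk k = 1 := by
  classical
  set s := g * t * g⁻¹ with hs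
  set q := S.nk k with hq
  have hqq : q * q = 1 := S.nk_sq k
  have hqi : q⁻¹ = q := inv_eq_of_mul_eq_one_right hqq
  have hni : n⁻¹ = n := inv_eq_of_mul_eq_one_right S.n2
  set w := n * q * n * q * n * q with hw
  set p := S.bv (dlt k) with hp
  set f := S.bv (cpl (dlt k)) with hf
  set v := S.bv (cpl 0) with hv
  have hqt : q * t * q = t := S.nk_fix_t k
  have hnt : n * t * n = s := S.nt
  have hns : n * s * n = t := step_symm S.n2 hnt
  have hqs : q * s * q = p := by
    rw [hs, ← S.bv_zero, hq, S.nk_flip, (by decide : ∀ k, flp k 0 = dlt k) k]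
  have hqp : q * p * q = s := step_symm hqq hqs
  have hnp : n * p * n = p := S.n_fix k
  have conj6 : ∀ {y y1 y2 y3 y4 y5 y6 : G}, q * y * q = y1 → n * y1 * n = y2 → q * y2 * q = y3 → n * y3 * n = y4 →
      q * y4 * q = y5 → n * y5 * n = y6 → w * y * w⁻¹ = y6 := by
    intro y y1 y2 y3 y4 y5 y6 e1 e2 e3 e4 e5 e6
    rw [← e6, ← e5, ← e4, ← e3, ← e2, ← e1, hw]
    simp only [mul_inv_rev, hqi, hni]
    group
  have hwt : Commute w t := mul_inv_eq_iff_eq_mul.mp (conj6 hqt hnt hqs hnp hqp hns)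
  have hws : Commute w s := mul_inv_eq_iff_eq_mul.mp (conj6 hqs hnp hqp hns hqt hnt)
  have hwp : Commute w p := mul_inv_eq_iff_eq_mul.mp (conj6 hqp hns hqt hnt hqs hnp)
  have hoth : ∀ l, l ≠ k → Commute w (S.bv (dlt l)) ∧ Commute w (S.bv (cpl (dlt l))) := by
    intro l hl
    obtain ⟨j, hjl, hjk⟩ := (by decide : ∀ l k : Fin 3, ∃ j, j ≠ l ∧ j ≠ k) l k
    obtain ⟨e1, e2⟩ := (by decide : ∀ l k j : Fin 3, l ≠ k → j ≠ l → j ≠ k →
      flp k (dlt l) = cpl (dlt j) ∧ flp k (cpl (dlt j)) = dlt l) l k j hl hjl hjk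
    obtain ⟨e3, e4⟩ := (by decide : ∀ l k j : Fin 3, l ≠ k → j ≠ l → j ≠ k →
      flp k (dlt j) = cpl (dlt l) ∧ flp k (cpl (dlt l)) = dlt j) l k j hl hjl hjk
    have fa : ∀ i, n * S.bv (cpl (dlt i)) * n = a i := fun i => by
      rw [show S.bv (cpl (dlt i)) = n * a i * n from (S.nan i).symm]
      exact step_symm S.n2 rfl
    constructor
    · exact mul_inv_eq_iff_eq_mul.mp (conj6 (by rw [hq, S.nk_flip, e1]) (fa j) (S.nk_fix_a hjk.symm) (S.nan j)
        (by rw [hq, S.nk_flip, e2]) (S.n_fix l))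
    · exact mul_inv_eq_iff_eq_mul.mp (conj6 (by rw [hq, S.nk_flip, e4]) (S.n_fix j) (by rw [hq, S.nk_flip, e3])
        (fa l) (S.nk_fix_a (Ne.symm hl)) (S.nan l))
  have hlow : ∀ m, lowW m = true → Commute w (S.bv m) := by
    intro m hm
    rcases (by decide : ∀ m, lowW m = true → m = 0 ∨ ∃ k, m = dlt k) m hm with rfl | ⟨l, rfl⟩
    · rw [S.bv_zero]; exact hws
    · rcases eq_or_ne l k with rfl | hl
      exacts [hwp, (hoth l hl).1]
  -- in the core
  have hπ : π w ∈ A0 := S.stab hwt.eq (Or.inl (mul_inv_eq_iff_eq_mul.mpr hws.eq))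
  have hfixa : ∀ i l, Commute (a i) (S.bv (dlt l)) ↔ i ≠ l := by
    intro i l
    have h1 := S.bv_dlt_a l i
    constructor
    · intro hc e
      rw [if_pos e, mul_inv_eq_iff_eq_mul.mpr hc.eq] at h1
      exact S.es'.ne (mul_eq_right.mp h1.symm)
    · intro e
      rw [if_neg e] at h1
      exact mul_inv_eq_iff_eq_mul.mp h1
  have hwE : w ∈ E := by
    let c : Fin 3 → G := fun i => if (![(π w).1, (π w).2.1, (π w).2.2] i) = 1 then 1 else a i
    have hc1 : ∀ i, Commute (c i) t := fun i => by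
      show Commute (if _ then _ else _) t
      split_ifs
      exacts [Commute.one_left t, S.a_t i]
    have hπc : π (c 0 * c 1 * c 2) = π w := by
      obtain ⟨h0, h1, h2⟩ := (mem_A0 _).mp hπ
      rw [S.π_mul _ _ ((hc1 0).mul_left (hc1 1)).eq (hc1 2).eq, S.π_mul _ _ (hc1 0).eq (hc1 1).eq]
      have hci : ∀ i, π (c i) = if (![(π w).1, (π w).2.1, (π w).2.2] i) = 1 then 1 else τg i := fun i => by
        show π (if _ then _ else _) = _
        split_ifs
        exacts [S.π_one, S.πa i]
      rw [hci, hci, hci]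
      exact a0_prod _ _ _ h0 h1 h2
    set A := c 0 * c 1 * c 2
    have hAt : Commute A t := ((hc1 0).mul_left (hc1 1)).mul_left (hc1 2)
    have he : A⁻¹ * w ∈ E := (S.π_ker _ (hAt.inv_left.mul_left hwt).eq).mp (by
      rw [S.π_mul _ _ hAt.inv_left.eq hwt.eq, S.π_inv hAt.eq, hπc, inv_mul_cancel])
    have hone : ∀ l, c l = 1 := by
      intro l
      by_contra hcl
      have hca : c l = a l := by
        have : c l = 1 ∨ c l = a l := by
          show (if _ then (1 : G) else _) = 1 ∨ (if _ then (1 : G) else _) = a l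
          split_ifs
          exacts [Or.inl rfl, Or.inr rfl]
        exact this.resolve_left hcl
      have hci : ∀ i, i ≠ l → c i * S.bv (dlt l) * (c i)⁻¹ = S.bv (dlt l) := fun i hi => by
        refine mul_inv_eq_iff_eq_mul.mpr (?_ : Commute (c i) _).eq
        show Commute (if _ then _ else _) _
        split_ifs
        exacts [Commute.one_left _, (hfixa i l).mpr hi]
      have hcs : ∀ i, c i * s * (c i)⁻¹ = s := fun i => by
        refine mul_inv_eq_iff_eq_mul.mpr (?_ : Commute (c i) s).eq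
        show Commute (if _ then _ else _) _
        split_ifs
        exacts [Commute.one_left _, S.a_fix i]
      have hAp : A * S.bv (dlt l) * A⁻¹ = s * S.bv (dlt l) := by
        have hcl' : c l * S.bv (dlt l) * (c l)⁻¹ = s * S.bv (dlt l) := by rw [hca, S.bv_dlt_a, if_pos rfl]
        have hcsp : ∀ i, i ≠ l → c i * (s * S.bv (dlt l)) * (c i)⁻¹ = s * S.bv (dlt l) := fun i hi => by
          rw [show c i * (s * S.bv (dlt l)) * (c i)⁻¹ = (c i * s * (c i)⁻¹) * (c i * S.bv (dlt l) * (c i)⁻¹) by group,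
            hcs i, hci i hi]
        rw [show A * S.bv (dlt l) * A⁻¹ = c 0 * (c 1 * (c 2 * S.bv (dlt l) * (c 2)⁻¹) * (c 1)⁻¹) * (c 0)⁻¹ by
          simp only [A]; group]
        fin_cases l
        · rw [hci 2 (by decide), hci 1 (by decide)]; exact hcl'
        · rw [hci 2 (by decide)]; erw [hcl']; exact hcsp 0 (by decide)
        · erw [hcl']; erw [hcsp 1 (by decide)]; exact hcsp 0 (by decide)
      have hwl := mul_inv_eq_iff_eq_mul.mpr (hlow (dlt l) ((by decide : ∀ l, lowW (dlt l) = true) l)).eq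
      rw [show w * S.bv (dlt l) * w⁻¹ = A * (A⁻¹ * w * S.bv (dlt l) * (A⁻¹ * w)⁻¹) * A⁻¹ by group] at hwl
      rcases S.es.conj_cases he (S.bv_mem (dlt l)) with e | e <;> rw [e] at hwl
      · rw [hAp] at hwl
        exact S.es'.ne (mul_eq_right.mp hwl)
      · rw [show A * (S.bv (dlt l) * t) * A⁻¹ = A * S.bv (dlt l) * A⁻¹ * (A * t * A⁻¹) by group, hAp,
          mul_inv_eq_iff_eq_mul.mpr hAt.eq, mul_assoc, (S.bv_t (dlt l)).eq, ← mul_assoc, mul_eq_right] at hwl
        exact S.hne ((inv_eq_of_mul_eq_one_right S.es'.zz).symm.trans (inv_eq_of_mul_eq_one_right hwl))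
    have hA1 : A = 1 := by simp only [A, hone, mul_one]
    rwa [hA1, inv_one, one_mul] at he
  have hwX : w ∈ S.X0 := abelian_mem S.es S.card inf_le_left S.t_X0 S.card_X0
    (fun u hu v hv => S.X0_comm hu hv) hwE (S.comm_X0 hwt hlow)
  obtain ⟨c, hc, hform⟩ := S.X0_forms hwX
  have hcl : ∀ l, l ≠ k → c (dlt l) = false := fun l hl => by
    have h' : Commute (prodS x s c) (S.bv (cpl (dlt l))) := by
      rcases hform with e | e
      · rw [← e]; exact (hoth l hl).2
      · have h := (hoth l hl).2.mul_left (S.bv_t (cpl (dlt l))).symm.inv_left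
        rwa [e, mul_inv_cancel_right] at h
    have h := (S.bv_prod_commute_iff c (cpl (dlt l))).mp h'
    rwa [(by decide : ∀ l, cpl (cpl (dlt l)) = dlt l) l] at h
  have hsp : Commute s p := S.X0_comm S.s_X0 (S.bv_low_X0 k)
  have hps : prodS x s c = (bif c 0 then s else 1) * (bif c (dlt k) then p else 1) := by
    rw [prodS]
    simp only [L8, List.map_cons, List.map_nil, List.prod_cons, List.prod_nil, hc (0, 1, 1) (by decide),
      hc (1, 0, 1) (by decide), hc (1, 1, 0) (by decide), hc (1, 1, 1) (by decide), cond_false, mul_one]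
    rw [show trS x s (0, 0, 0) = s from S.bv_zero, show c (0, 0, 0) = c 0 from rfl, hp]
    fin_cases k
    · rw [show c (0, 1, 0) = false from hcl 1 (by decide), show c (0, 0, 1) = false from hcl 2 (by decide)]
      simp only [cond_false, mul_one]; rfl
    · rw [show c (1, 0, 0) = false from hcl 0 (by decide), show c (0, 0, 1) = false from hcl 2 (by decide)]
      simp only [cond_false, mul_one, one_mul]; rfl
    · rw [show c (1, 0, 0) = false from hcl 0 (by decide), show c (0, 1, 0) = false from hcl 1 (by decide)]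
      simp only [cond_false, mul_one, one_mul]; rfl
  have hst : Commute s t := S.st_comm
  have hpt : Commute p t := S.bv_t _
  have hwi : w⁻¹ = w := inv_eq_of_mul_eq_one_right (S.X0_sq hwX)
  have hqn : w⁻¹ = q * n * q * n * q * n := by rw [hw]; simp only [mul_inv_rev, hqi, hni, mul_assoc]
  have hnw : n * w * n = w := by
    conv_lhs => rw [← hwi, hqn]
    rw [hw]
    simp only [mul_assoc, S.n2, mul_one]
  have hqw : q * w * q = w := by
    conv_rhs => rw [← hwi, hqn]
    rw [hw]
    simp only [mul_assoc, hqq, mul_one]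
  have hnn : ∀ u v : G, n * (u * v) * n = (n * u * n) * (n * v * n) := fun u v => by
    rw [show n * u * n * (n * v * n) = n * u * (n * n) * v * n by group, S.n2]; group
  have hqq' : ∀ u v : G, q * (u * v) * q = (q * u * q) * (q * v * q) := fun u v => by
    rw [show q * u * q * (q * v * q) = q * u * (q * q) * v * q by group, hqq]; group
  have hn1 : n * 1 * n = 1 := by rw [mul_one, S.n2]
  have hq1 : q * 1 * q = 1 := by rw [mul_one, hqq]
  have hpne : p ≠ s := fun e => S.toStd8.trS_cpl S.toOdd8 (cpl (dlt k)) (by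
    rw [(by decide : ∀ l, cpl (cpl (dlt l)) = dlt l) k]
    show Commute f p
    rw [e, hs, ← S.bv_zero]
    exact S.bv_comm ((by decide : ∀ l, (0 : Fin 2 × Fin 2 × Fin 2) ≠ cpl (cpl (dlt l))) k))
  have hp1 : p ≠ 1 := fun e => S.toStd8.trS_cpl S.toOdd8 (cpl (dlt k)) (by
    rw [(by decide : ∀ l, cpl (cpl (dlt l)) = dlt l) k]
    show Commute f p
    rw [e]
    exact Commute.one_right _)
  have hz : w = 1 ∨ w = s * p * t := by
    rcases hform with e | e <;> rcases hA : c 0 with _ | _ <;> rcases hB : c (dlt k) with _ | _ <;>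
      rw [hps, hA, hB] at e <;> simp only [cond_true, cond_false, one_mul, mul_one] at e
    · exact Or.inl e
    · exfalso; rw [e, hqp] at hqw; exact hpne hqw.symm
    · exfalso; rw [e, hns] at hnw; exact S.hne hnw.symm
    · exfalso; rw [e, hnn, hns, hnp] at hnw
      exact S.hne (mul_right_cancel hnw).symm
    · exfalso; rw [e, hnt] at hnw; exact S.hne hnw
    · exfalso; rw [e, hnn, hnp, hnt, hpt.eq, ← hsp.eq, mul_left_inj] at hnw
      exact S.hne hnw
    · exfalso; rw [e, hqq', hqs, hqt, mul_left_inj] at hqw; exact hpne hqw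
    · exact Or.inr e
  rcases hz with h | h
  · exact h
  exfalso
  set b := a k with hb
  have hbb : b * b = 1 := S.a_sq k
  set m := n * v * n with hm
  set p2 := q * m * q with hp2
  have hnf : n * f * n = b := step_symm S.n2 (S.nan k)
  have hqv : q * v * q = f := by rw [hv, hq, S.nk_flip, (by decide : ∀ k, flp k (cpl 0) = cpl (dlt k)) k]
  have hqbq : q * b * q = b * q * b := by
    have e : b * x k * b = x k * x k := by
      have := S.ax k; rwa [inv_eq_of_mul_eq_one_right hbb] at this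
    rw [hq, nk]
    show x k * b * b * (x k * b) = b * (x k * b) * b
    rw [mul_assoc (x k) b b, hbb, mul_one, ← mul_assoc, ← e]
    simp only [mul_assoc]
  have hvs : v * s * v = s * t := by
    rcases S.es.conj_cases (S.bv_mem (cpl 0)) S.hs with e | e
    · exact absurd (S.bv_zero ▸ (show Commute v s from mul_inv_eq_iff_eq_mul.mp e)) fun h =>
        ((S.bv_commute_iff (cpl 0) 0).mp h) (by decide)
    · rwa [inv_eq_of_mul_eq_one_right (S.bv_sq (cpl 0))] at e
  have hvv : v * v = 1 := S.bv_sq _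
  have hvp : Commute v p := S.v_comm_dlt k
  have hvt : Commute v t := S.bv_t _
  -- first expression
  have hwv : w * v * w⁻¹ = v * t := by
    rw [hwi, h]
    have hsv : s * v = v * (s * t) := by rw [← hvs, ← mul_assoc, ← mul_assoc, hvv, one_mul]
    calc s * p * t * v * (s * p * t) = s * (p * (t * v)) * (s * p * t) := by group
      _ = s * (p * v) * t * (s * p * t) := by rw [hvt.eq.symm]; group
      _ = (s * v) * p * t * (s * p * t) := by rw [hvp.eq.symm]; group
      _ = v * (s * t) * p * t * (s * p * t) := by rw [hsv]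
      _ = v * t * ((s * p * t) * (s * p * t)) := by rw [hst.eq]; group
      _ = v * t := by rw [← h, S.X0_sq hwX, mul_one]
  set P1 := n * (q * b * q) * n with hP1
  have e3 : n * (q * P1 * q) * n = v * t := by
    rw [← hwv, hP1, ← hnf, ← hqv, hw]
    simp only [mul_inv_rev, hqi, hni]
    group
  have eA : P1 = p2 * p := by
    have e4 : q * P1 * q = m * s := by
      have := congrArg (fun z => n * z * n) e3
      simp only [hnn v t, hnt, ← hm] at this
      rwa [step_symm S.n2 rfl] at this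
    have e5 := congrArg (fun z => q * z * q) e4
    simp only [hqq' m s, hqs, ← hp2] at e5
    rwa [step_symm hqq rfl] at e5
  have hfb : n * b * n = f := S.nan k
  have hnqn : n * q * n = w * (q * n * q) := by
    rw [hw]
    calc n * q * n = n * q * n * (q * (n * n) * q) := by rw [S.n2, mul_one, hqq, mul_one]
      _ = n * q * n * q * n * (q * q) * n * q := by rw [hqq, mul_one]; group
      _ = n * q * n * q * n * q * (q * n * q) := by group
  have hfz : f * (s * p * t) = s * p * f := by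
    have hff : f * f = 1 := S.bv_sq _
    have hfs : Commute f s := by
      rw [hs, ← S.bv_zero]
      exact S.bv_comm ((by decide : ∀ l, (0 : Fin 2 × Fin 2 × Fin 2) ≠ cpl (cpl (dlt l))) k)
    have hfp : f * p * f⁻¹ = p * t := by
      rcases S.es.conj_cases (S.bv_mem (cpl (dlt k))) (S.bv_mem (dlt k)) with e | e
      · exact absurd (mul_inv_eq_iff_eq_mul.mp e) fun h => S.toStd8.trS_cpl S.toOdd8 (cpl (dlt k)) (by
          rw [(by decide : ∀ l, cpl (cpl (dlt l)) = dlt l) k]; exact h)
      · exact e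
    have hft : Commute f t := S.bv_t _
    calc f * (s * p * t) = (f * s) * p * t := by group
      _ = s * (f * p * f⁻¹) * (f * t) := by rw [hfs.eq]; group
      _ = s * p * (t * (t * f)) := by rw [hfp, hft.eq]; group
      _ = s * p * f := by rw [← mul_assoc t, S.es.zz, one_mul]
  have hm2 : n * v * n = v * n * v := S.braid
  have eB : P1 = s * p * p2 := by
    rw [hP1, hqbq, hnn, hnn, hfb, hnqn, h]
    have hfq : f * q = q * v := by rw [← hqv, mul_assoc, hqq, mul_one]
    have hqf : q * f = v * q := by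
      calc q * f = q * q * v * q := by rw [← hqv]; group
        _ = v * q := by rw [hqq, one_mul]
    calc f * (s * p * t * (q * n * q)) * f = (f * (s * p * t)) * q * n * (q * f) := by group
      _ = s * p * f * q * n * (v * q) := by rw [hfz, hqf]
      _ = s * p * (f * q) * n * v * q := by group
      _ = s * p * (q * (v * n * v) * q) := by rw [hfq]; group
      _ = s * p * p2 := by rw [← hm2, ← hm, ← hp2]
  have hms : Commute m s := by
    refine commute_of_conj ?_ ?_
    · rw [hm, show n * v * n * (n * v * n) = n * v * (n * n) * v * n by group, S.n2, mul_one,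
        show n * v * v * n = n * (v * v) * n by group, hvv, mul_one, S.n2]
    · rw [hm, show n * v * n * s * (n * v * n) = n * v * (n * s * n) * v * n by group, hns,
        show n * v * t * v * n = n * (v * t) * v * n by group, hvt.eq, show n * (t * v) * v * n = n * t * (v * v) * n by group,
        hvv, mul_one, hnt]
  have hp2p : Commute p2 p := by
    show p2 * p = p * p2
    rw [← hqs, hp2, ← hqq', ← hqq', hms.eq]
  rw [eA, hp2p.eq, mul_assoc s, eq_comm, mul_eq_right] at eB
  exact S.es'.ne eB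

theorem wg_hex : ∀ i j : Fin 4, i ≠ j ∧ (i = 1 ∨ j = 1) →
    S.Wg i * S.Wg j * S.Wg i * S.Wg j * S.Wg i * S.Wg j = 1 := by
  have h : ∀ k : Fin 3, S.nk k * n * S.nk k * n * S.nk k * n = 1 := fun k => by
    have hb := S.braid_nk k
    calc S.nk k * n * S.nk k * n * S.nk k * n
        = n⁻¹ * (n * S.nk k * n * S.nk k * n * S.nk k) * n := by group
      _ = 1 := by rw [hb]; group
  intro i j hij
  fin_cases i <;> fin_cases j <;>
    first
      | exact absurd rfl hij.1
      | exact S.braid_nk 0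
      | exact S.braid_nk 1
      | exact S.braid_nk 2
      | exact h 0
      | exact h 1
      | exact h 2
      | exact absurd hij.2 (by decide)

end Swap8

end CfsgLib.O8C
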